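import Mathlib
import Cfsg.Agent.H1.Cores

/-!
Groups with trivial odd core: normal subgroups with a central subgroup of odd index, quotients by
central 2-subgroups (helper8).
-/

set_option autoImplicit false
set_option linter.style.haveILetI false
set_option linter.unusedSectionVars false

namespace H8.E16

open Subgroup

variable {Y : Type*} [Group Y] [Finite Y]

/-- In a group with trivial odd core a normal commutative subgroup is a 2-group. -/
theorem isPGroup_of_normal_comm (hO : Cfsg.pPrimeCore 2 Y = ⊥) {L : Subgroup Y} (hL : L.Normal)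
    (hc : ∀ x ∈ L, ∀ y ∈ L, x * y = y * x) : IsPGroup 2 L := by
  let M : Subgroup Y :=
    { carrier := {x | x ∈ L ∧ Odd (orderOf x)}
      one_mem' := ⟨one_mem _, by simp⟩
      mul_mem' := fun {x y} hx hy => ⟨mul_mem hx.1 hy.1,
        (hx.2.mul hy.2).of_dvd_nat (Commute.orderOf_mul_dvd_mul_orderOf (hc x hx.1 y hy.1))⟩
      inv_mem' := fun {x} hx => ⟨inv_mem hx.1, by rw [orderOf_inv]; exact hx.2⟩ }
  haveI : M.Normal := ⟨fun x hx g => ⟨hL.conj_mem x hx.1 g,
    by rw [show orderOf (g * x * g⁻¹) = orderOf x from (MulAut.conj g).orderOf_eq x]; exact hx.2⟩⟩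
  have hM : (Nat.card M).Coprime 2 := by
    refine (Nat.coprime_two_right).2 (Nat.not_even_iff_odd.1 fun he => ?_)
    haveI : Fact (Nat.Prime 2) := ⟨Nat.prime_two⟩
    obtain ⟨x, hx⟩ := exists_prime_orderOf_dvd_card' 2 (even_iff_two_dvd.1 he)
    have h2 := x.2.2
    rw [Subgroup.orderOf_coe, hx] at h2
    exact absurd h2 (by decide)
  have hbot : M = ⊥ := le_bot_iff.1 (hO ▸ H1.le_pPrimeCore hM)
  intro x
  obtain ⟨k, m, hm, hkm⟩ := Nat.exists_eq_two_pow_mul_odd (orderOf_pos (x : Y)).ne'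
  refine ⟨k, Subtype.ext ?_⟩
  have h1 : ((x : Y) ^ 2 ^ k) ∈ M := by
    refine ⟨pow_mem x.2 _, ?_⟩
    rw [orderOf_pow' _ (by positivity : 2 ^ k ≠ 0), hkm, Nat.gcd_mul_right_left,
      Nat.mul_div_cancel_left _ (by positivity : 0 < 2 ^ k)]
    exact hm
  rw [hbot, mem_bot] at h1
  exact h1

/-- In a group with trivial odd core a normal subgroup with a central subgroup of odd index is a
2-group. -/
theorem isPGroup_of_central (hO : Cfsg.pPrimeCore 2 Y = ⊥) {L Z : Subgroup Y} (hL : L.Normal)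
    (hZL : Z ≤ L) (hc : ∀ x ∈ Z, ∀ y ∈ L, x * y = y * x) (hodd : Odd (Z.relIndex L)) :
    IsPGroup 2 L := by
  have hle : Z.subgroupOf L ≤ Subgroup.center L := fun x hx => mem_center_iff.2 fun y =>
    Subtype.ext (hc x hx y y.2).symm
  have hm : Odd (Subgroup.center L).index := hodd.of_dvd_nat (index_dvd_of_le hle)
  haveI : (Subgroup.center L).FiniteIndex := Subgroup.finiteIndex_of_finite
  set f := MonoidHom.transferCenterPow L with hf
  set M : Subgroup Y := f.ker.map L.subtype with hMdef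
  have hMn : M.Normal := by
    refine ⟨fun x hx g => ?_⟩
    obtain ⟨x, hx, rfl⟩ := hx
    refine ⟨⟨g * x * g⁻¹, hL.conj_mem x x.2 g⟩, ?_, rfl⟩
    have h1 := congrArg (fun w : Subgroup.center L => ((w : L) : Y)) (MonoidHom.mem_ker.1 hx)
    refine MonoidHom.mem_ker.2 (Subtype.ext (Subtype.ext ?_))
    simp only [hf, MonoidHom.transferCenterPow_apply, Subgroup.coe_pow, Subgroup.coe_one] at h1 ⊢
    rw [conj_pow, h1, mul_one, mul_inv_cancel]
  have hM : (Nat.card M).Coprime 2 := by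
    refine (Nat.coprime_two_right).2 (Nat.not_even_iff_odd.1 fun he => ?_)
    haveI : Fact (Nat.Prime 2) := ⟨Nat.prime_two⟩
    obtain ⟨x, hx⟩ := exists_prime_orderOf_dvd_card' 2 (even_iff_two_dvd.1 he)
    obtain ⟨y, hy, hye⟩ := x.2
    have h1 := congrArg (fun w : Subgroup.center L => ((w : L) : Y)) (MonoidHom.mem_ker.1 hy)
    simp only [hf, MonoidHom.transferCenterPow_apply, Subgroup.coe_pow, Subgroup.coe_one] at h1
    rw [show ((y : L) : Y) = x from hye] at h1
    have h2 := orderOf_dvd_of_pow_eq_one h1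
    rw [Subgroup.orderOf_coe, hx] at h2
    exact (Nat.not_even_iff_odd.2 hm) (even_iff_two_dvd.2 h2)
  haveI := hMn
  have hbot : M = ⊥ := le_bot_iff.1 (hO ▸ H1.le_pPrimeCore hM)
  have hinj : Function.Injective f := (MonoidHom.ker_eq_bot_iff f).1
    ((Subgroup.map_eq_bot_iff_of_injective _ L.subtype_injective).1 hbot)
  refine isPGroup_of_normal_comm hO hL fun x hx y hy => ?_
  have : (⟨x, hx⟩ * ⟨y, hy⟩ : L) = ⟨y, hy⟩ * ⟨x, hx⟩ := hinj (by
    rw [map_mul, map_mul]
    exact Subtype.ext ((mem_center_iff.1 (f ⟨y, hy⟩).2 _)))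
  exact congrArg Subtype.val this

/-- The quotient by a central 2-subgroup keeps the odd core trivial. -/
theorem pPrimeCore_quot_eq_bot (hO : Cfsg.pPrimeCore 2 Y = ⊥) (Z : Subgroup Y) [Z.Normal]
    (hc : ∀ x ∈ Z, ∀ y : Y, x * y = y * x) : Cfsg.pPrimeCore 2 (Y ⧸ Z) = ⊥ := by
  set q := QuotientGroup.mk' Z with hq
  set L := (Cfsg.pPrimeCore 2 (Y ⧸ Z)).comap q with hL
  haveI := H1.pPrimeCore_normal' 2 (Y ⧸ Z)
  have hLn : L.Normal := Subgroup.Normal.comap inferInstance q
  have hZL : Z ≤ L := fun x hx => by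
    show q x ∈ Cfsg.pPrimeCore 2 (Y ⧸ Z)
    rw [show q x = 1 from (QuotientGroup.eq_one_iff _).2 hx]
    exact one_mem _
  have hcard : Nat.card L = Nat.card Z * Nat.card (Cfsg.pPrimeCore 2 (Y ⧸ Z)) :=
    H1.card_comap_mk' Z _
  have hrel : Z.relIndex L = Nat.card (Cfsg.pPrimeCore 2 (Y ⧸ Z)) := by
    refine Nat.eq_of_mul_eq_mul_left (Nat.card_pos (α := Z)) ?_
    rw [← hcard, ← relIndex_bot_left Z, ← relIndex_bot_left L, relIndex_mul_relIndex _ _ _ bot_le hZL]
  have h2 := isPGroup_of_central hO hLn hZL (fun x hx y _ => hc x hx y)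
    (by rw [hrel]; exact Nat.coprime_two_right.1 (H1.card_pPrimeCore_coprime 2 _))
  refine (eq_bot_iff_forall _).2 fun w hw => ?_
  obtain ⟨y, rfl⟩ := QuotientGroup.mk'_surjective Z w
  obtain ⟨k, hk⟩ := h2 ⟨y, hw⟩
  have h3 : (q y) ^ 2 ^ k = 1 := by
    rw [← map_pow, show y ^ 2 ^ k = 1 from congrArg Subtype.val hk, map_one]
  have h4 : Odd (orderOf (q y)) :=
    (Nat.coprime_two_right.1 (H1.card_pPrimeCore_coprime 2 _)).of_dvd_nat
      (Subgroup.orderOf_dvd_natCard _ hw)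
  rw [← orderOf_eq_one_iff]
  exact Nat.eq_one_of_dvd_coprimes ((Nat.coprime_two_right.2 h4).pow_right k) dvd_rfl
    (orderOf_dvd_of_pow_eq_one h3)

end H8.E16
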