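import Cfsg.Agent.H8.E16.Perm

/-!
An action by automorphisms of the alternating group of degree 5 on a group of order 16 and exponent 2
with at least two orbits on the nonidentity elements: orbits of sizes 5 and 10, fixed subgroups of
order 4 (helper8).
-/

set_option autoImplicit false
set_option linter.style.haveILetI false
set_option linter.unusedSectionVars false

namespace H8.E16

variable {A : Type*} [Group A] [Finite A] (Φ : A5 →* MulAut A)

/-- Fixed subgroup of an element. -/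
def fixS (x : A5) : Subgroup A where
  carrier := {a | Φ x a = a}
  one_mem' := map_one _
  mul_mem' {a b} ha hb := by
    show Φ x (a * b) = a * b
    rw [map_mul, show Φ x a = a from ha, show Φ x b = b from hb]
  inv_mem' {a} ha := by
    show Φ x a⁻¹ = a⁻¹
    rw [map_inv, show Φ x a = a from ha]

@[simp] theorem mem_fixS {x : A5} {a : A} : a ∈ fixS Φ x ↔ Φ x a = a := Iff.rfl

/-- Stabiliser of an element. -/
def stabA (a : A) : Subgroup A5 where
  carrier := {x | Φ x a = a}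
  one_mem' := by simp
  mul_mem' {x y} hx hy := by
    show Φ (x * y) a = a
    rw [map_mul, MulAut.mul_apply, show Φ y a = a from hy, show Φ x a = a from hx]
  inv_mem' {x} hx := by
    show Φ x⁻¹ a = a
    conv_lhs => rw [← show Φ x a = a from hx]
    rw [← MulAut.mul_apply, ← map_mul, inv_mul_cancel, map_one, MulAut.one_apply]

@[simp] theorem mem_stabA {x : A5} {a : A} : x ∈ stabA Φ a ↔ Φ x a = a := Iff.rfl

/-- Orbit of an element. -/
def orb (a : A) : Set A := Set.range fun x => Φ x a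

theorem self_mem_orb (a : A) : a ∈ orb Φ a := ⟨1, by simp⟩

theorem orb_eq_of_mem {a b : A} (h : b ∈ orb Φ a) : orb Φ b = orb Φ a := by
  obtain ⟨g, rfl⟩ := h
  ext c
  constructor
  · rintro ⟨x, rfl⟩
    exact ⟨x * g, by simp [MulAut.mul_apply]⟩
  · rintro ⟨x, rfl⟩
    exact ⟨x * g⁻¹, by simp [MulAut.mul_apply]⟩

theorem orb_disjoint {a b : A} (h : b ∉ orb Φ a) : Disjoint (orb Φ a) (orb Φ b) :=
  Set.disjoint_left.2 fun c ha hb =>
    h ((orb_eq_of_mem Φ hb).symm.trans (orb_eq_of_mem Φ ha) ▸ self_mem_orb Φ b)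

theorem card_orb_mul (a : A) : Nat.card (orb Φ a) * Nat.card (stabA Φ a) = 60 := by
  letI : MulAction A5 A :=
    { smul := fun x a => Φ x a
      one_smul := fun a => by show Φ 1 a = a; simp
      mul_smul := fun x y a => by show Φ (x * y) a = Φ x (Φ y a); simp [MulAut.mul_apply] }
  have h1 : orb Φ a = MulAction.orbit A5 a := rfl
  have h2 : stabA Φ a = MulAction.stabilizer A5 a := rfl
  rw [h1, h2, Nat.card_congr (MulAction.orbitEquivQuotientStabilizer A5 a), ← Subgroup.index_eq_card,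
    Subgroup.index_mul_card, card_A5]

/-- The hypotheses. -/
structure Act0 : Prop where
  card : Nat.card A = 16
  sq : ∀ a : A, a * a = 1
  inj : Function.Injective Φ

/-- The hypotheses, with two orbits. -/
structure Act : Prop extends Act0 Φ where
  two : ∃ a b : A, a ≠ 1 ∧ b ≠ 1 ∧ b ∉ orb Φ a

variable {Φ}

theorem card_fix_modEq {p : ℕ} [Fact p.Prime] {s : A5} (hs : s ^ p = 1) :
    16 ≡ Nat.card (fixS Φ s) [MOD p] ∨ Nat.card A ≠ 16 := by
  by_cases hc : Nat.card A = 16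
  swap
  · exact Or.inr hc
  refine Or.inl ?_
  letI : MulAction (Subgroup.zpowers s) A :=
    { smul := fun x a => Φ (x : A5) a
      one_smul := fun a => by show Φ ((1 : Subgroup.zpowers s) : A5) a = a; simp
      mul_smul := fun x y a => by
        show Φ ((x * y : Subgroup.zpowers s) : A5) a = Φ (x : A5) (Φ (y : A5) a)
        simp [MulAut.mul_apply] }
  obtain ⟨k, -, hk⟩ := (Nat.dvd_prime_pow (Fact.out : p.Prime)).1
    (show orderOf s ∣ p ^ 1 by rw [pow_one]; exact orderOf_dvd_of_pow_eq_one hs)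
  have hP : IsPGroup p (Subgroup.zpowers s) := IsPGroup.of_card (n := k) (by rw [Nat.card_zpowers, hk])
  have h := hP.card_modEq_card_fixedPoints A
  have e : MulAction.fixedPoints (Subgroup.zpowers s) A = (fixS Φ s : Set A) := by
    ext a
    constructor
    · intro ha
      exact ha ⟨s, Subgroup.mem_zpowers s⟩
    · intro ha x
      have hx : x.1 ∈ stabA Φ a := (Subgroup.zpowers_le.2 (show s ∈ stabA Φ a from ha)) x.2
      exact hx
  rw [e, hc] at h
  exact h

theorem fix_eq_top_iff (h : Act0 Φ) {x : A5} (hf : fixS Φ x = ⊤) : x = 1 :=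
  h.inj (by
    refine MulEquiv.ext fun a => ?_
    rw [map_one, MulAut.one_apply]
    exact mem_fixS Φ |>.1 (hf ▸ Subgroup.mem_top a : a ∈ fixS Φ x))

theorem card_fix_dvd (h : Act0 Φ) (x : A5) : Nat.card (fixS Φ x) ∣ 16 :=
  h.card ▸ Subgroup.card_subgroup_dvd_card _

/-- Elements of order 5 fix only the identity. -/
theorem fix_five (h : Act0 Φ) {s : A5} (hs : s ^ 5 = 1) (hs1 : s ≠ 1) {a : A} (ha : Φ s a = a) :
    a = 1 := by
  haveI : Fact (Nat.Prime 5) := ⟨Nat.prime_five⟩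
  have hm := (card_fix_modEq (Φ := Φ) hs).resolve_right (not_not.2 h.card)
  have hd := card_fix_dvd h s
  have hpos : 0 < Nat.card (fixS Φ s) := Nat.card_pos
  have hle := Nat.le_of_dvd (by norm_num) hd
  have h1 : Nat.card (fixS Φ s) = 1 ∨ Nat.card (fixS Φ s) = 16 := by
    unfold Nat.ModEq at hm
    interval_cases (Nat.card (fixS Φ s)) <;> omega
  rcases h1 with h1 | h1
  · exact (Subgroup.mem_bot).1 ((Subgroup.card_eq_one.1 h1) ▸ (ha : a ∈ fixS Φ s))
  · exact absurd (fix_eq_top_iff h (Subgroup.eq_top_of_card_eq _ (h1.trans h.card.symm))) hs1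

theorem five_not_dvd_stab (h : Act0 Φ) {a : A} (ha : a ≠ 1) : ¬ 5 ∣ Nat.card (stabA Φ a) := by
  intro hd
  haveI : Fact (Nat.Prime 5) := ⟨Nat.prime_five⟩
  obtain ⟨s, hs⟩ := exists_prime_orderOf_dvd_card' 5 hd
  refine ha (fix_five h (s := (s : A5)) ?_ ?_ s.2)
  · have := pow_orderOf_eq_one s
    rw [hs] at this
    simpa using congrArg Subtype.val this
  · intro h1
    rw [show s = 1 from Subtype.ext h1, orderOf_one] at hs
    omega

theorem one_notMem_orb {a : A} (ha : a ≠ 1) : (1 : A) ∉ orb Φ a := by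
  rintro ⟨x, hx⟩
  exact ha ((Φ x).injective (hx.trans (map_one _).symm))

/-- Orbit sizes are 5 or 10 and stabilisers have order 12 or 6. -/
theorem orb_cases (h : Act Φ) {a : A} (ha : a ≠ 1) :
    Nat.card (orb Φ a) = 5 ∧ Nat.card (stabA Φ a) = 12 ∨
      Nat.card (orb Φ a) = 10 ∧ Nat.card (stabA Φ a) = 6 := by
  classical
  haveI : Fintype A := Fintype.ofFinite A
  have five : ∀ {c : A}, c ≠ 1 → 5 ∣ Nat.card (orb Φ c) := by
    intro c hc
    have h5 : 5 ∣ Nat.card (orb Φ c) * Nat.card (stabA Φ c) := card_orb_mul Φ c ▸ (by norm_num)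
    exact (Nat.prime_five.dvd_mul.1 h5).resolve_right (five_not_dvd_stab h.toAct0 hc)
  obtain ⟨a₀, b₀, ha0, hb0, hab⟩ := h.two
  have hex : ∃ c : A, c ≠ 1 ∧ c ∉ orb Φ a := by
    by_contra hcon
    push Not at hcon
    exact hab (orb_eq_of_mem Φ (hcon a₀ ha0) ▸ hcon b₀ hb0)
  obtain ⟨c, hc1, hc⟩ := hex
  have hsub : orb Φ a ∪ orb Φ c ⊆ ({1}ᶜ : Set A) := by
    rintro x (hx | hx) hx1
    · exact one_notMem_orb ha (hx1 ▸ hx)
    · exact one_notMem_orb hc1 (hx1 ▸ hx)
  have hle := Set.ncard_le_ncard hsub (Set.toFinite _)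
  rw [Set.ncard_union_eq (orb_disjoint Φ hc) (Set.toFinite _) (Set.toFinite _), Set.ncard_compl,
    Set.ncard_singleton, h.card] at hle
  rw [← Nat.card_coe_set_eq, ← Nat.card_coe_set_eq] at hle
  have h5c : 5 ≤ Nat.card (orb Φ c) := by
    haveI : Nonempty (orb Φ c) := ⟨⟨c, self_mem_orb Φ c⟩⟩
    exact Nat.le_of_dvd Nat.card_pos (five hc1)
  have hm := card_orb_mul Φ a
  obtain ⟨k, hk⟩ := five ha
  have hk0 : k = 1 ∨ k = 2 := by
    have : k ≤ 2 := by omega
    interval_cases k <;> simp_all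
  rcases hk0 with rfl | rfl
  · left; exact ⟨hk, by rw [hk] at hm; omega⟩
  · right; exact ⟨hk, by rw [hk] at hm; omega⟩

/-- The permutation action on an orbit. -/
def orbHom (a : A) : A5 →* Equiv.Perm (orb Φ a) where
  toFun x :=
    { toFun := fun o => ⟨Φ x o, by obtain ⟨g, hg⟩ := o.2; exact ⟨x * g, by simp [MulAut.mul_apply, ← hg]⟩⟩
      invFun := fun o => ⟨Φ x⁻¹ o, by obtain ⟨g, hg⟩ := o.2; exact ⟨x⁻¹ * g, by simp [MulAut.mul_apply, ← hg]⟩⟩
      left_inv := fun o => Subtype.ext (by simp)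
      right_inv := fun o => Subtype.ext (by simp) }
  map_one' := Equiv.ext fun o => Subtype.ext (by simp)
  map_mul' x y := Equiv.ext fun o => Subtype.ext (by simp [MulAut.mul_apply])

/-- In an orbit of size five elements of order three fix two points, involutions one. -/
theorem ncard_fix_orb {a : A} (hO : Nat.card (orb Φ a) = 5) {x : A5} (hx1 : x ≠ 1) :
    (x ^ 3 = 1 → {b | b ∈ orb Φ a ∧ Φ x b = b}.ncard = 2) ∧
      (x ^ 2 = 1 → {b | b ∈ orb Φ a ∧ Φ x b = b}.ncard = 1) := by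
  classical
  haveI : Fintype A := Fintype.ofFinite A
  haveI : Fintype (orb Φ a) := Fintype.ofFinite _
  have hψ : orbHom (Φ := Φ) a ≠ 1 := by
    intro h1
    have hall : ∀ b ∈ orb Φ a, b = a := by
      rintro _ ⟨g, rfl⟩
      exact congrArg Subtype.val (Equiv.ext_iff.1 (DFunLike.congr_fun h1 g) ⟨a, self_mem_orb Φ a⟩)
    haveI : Subsingleton (orb Φ a) :=
      ⟨fun u v => Subtype.ext ((hall _ u.2).trans (hall _ v.2).symm)⟩
    have := Finite.card_le_one_iff_subsingleton.2 ‹Subsingleton (orb Φ a)›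
    omega
  have key := fixed_of_five (Nat.card_eq_fintype_card.symm.trans hO) (orbHom (Φ := Φ) a) hψ hx1
  have e : {b | b ∈ orb Φ a ∧ Φ x b = b}.ncard =
      (Finset.univ.filter fun o => orbHom (Φ := Φ) a x o = o).card := by
    rw [← Set.ncard_coe_finset, ← Set.ncard_image_of_injective _ Subtype.val_injective]
    congr 1
    ext b
    simp only [Finset.coe_filter, Finset.mem_univ, true_and, Set.mem_image, Set.mem_setOf_eq]
    constructor
    · rintro ⟨hb, hf⟩
      exact ⟨⟨b, hb⟩, Subtype.ext hf, rfl⟩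
    · rintro ⟨o, ho, rfl⟩
      exact ⟨o.2, congrArg Subtype.val ho⟩
  exact ⟨fun h3 => e.trans (key.1 h3), fun h2 => e.trans (key.2 h2)⟩

theorem sq_comm (h : Act0 Φ) (a b : A) : a * b = b * a := by
  have h1 := h.sq (a * b)
  calc a * b = a⁻¹ * b⁻¹ := by rw [inv_eq_of_mul_eq_one_right (h.sq a), inv_eq_of_mul_eq_one_right (h.sq b)]
    _ = (b * a)⁻¹ := (mul_inv_rev b a).symm
    _ = b * a := inv_eq_of_mul_eq_one_right (h.sq (b * a))

/-- An involution fixes a subgroup of order at least 4. -/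
theorem four_le_fix (h : Act0 Φ) {x : A5} (hx : x * x = 1) : 4 ≤ Nat.card (fixS Φ x) := by
  let f : A →* A :=
    { toFun := fun a => a * Φ x a
      map_one' := by simp
      map_mul' := fun a b => by
        rw [map_mul, mul_assoc, ← mul_assoc b, sq_comm h b (Φ x a), mul_assoc, ← mul_assoc a] }
  have hr : f.range ≤ fixS Φ x := by
    rintro _ ⟨a, rfl⟩
    show Φ x (a * Φ x a) = a * Φ x a
    rw [map_mul, ← MulAut.mul_apply, ← map_mul, hx, map_one, MulAut.one_apply, sq_comm h]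
  have hk : f.ker = fixS Φ x := by
    ext a
    rw [MonoidHom.mem_ker, mem_fixS]
    show a * Φ x a = 1 ↔ _
    rw [mul_eq_one_iff_eq_inv', inv_eq_of_mul_eq_one_right (h.sq a)]
  have h1 := Subgroup.card_mul_index f.ker
  rw [Subgroup.index_ker, hk, h.card] at h1
  have h2 := Subgroup.card_le_of_le hr
  nlinarith

/-- Involutions fix exactly four elements. -/
theorem fix_invol (h : Act0 Φ) {x : A5} (hx : x * x = 1) (hx1 : x ≠ 1) :
    Nat.card (fixS Φ x) = 4 := by
  have h4 := four_le_fix h hx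
  have hd := card_fix_dvd h x
  by_contra hne
  have h8 : 8 ≤ Nat.card (fixS Φ x) := by
    have := Nat.le_of_dvd (by norm_num) hd
    interval_cases (Nat.card (fixS Φ x)) <;> omega
  obtain ⟨g, hg1, hg5⟩ := exists_five x hx hx1
  set y := g * x * g⁻¹ with hy
  have hcard : Nat.card (fixS Φ y) = Nat.card (fixS Φ x) := by
    refine (Nat.card_congr ((Φ g).toEquiv.subtypeEquiv fun a => ?_)).symm
    show Φ x a = a ↔ Φ y (Φ g a) = Φ g a
    rw [← MulAut.mul_apply, ← map_mul, hy, inv_mul_cancel_right, map_mul, MulAut.mul_apply]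
    exact ⟨fun e => by rw [e], fun e => (Φ g).injective e⟩
  have hle : fixS Φ x ⊓ fixS Φ y ≤ ⊥ := by
    intro a ha
    refine Subgroup.mem_bot.2 (fix_five h hg5 hg1 ?_)
    rw [map_mul, MulAut.mul_apply, show Φ y a = a from ha.2, show Φ x a = a from ha.1]
  have hinj : Function.Injective fun p : fixS Φ x × fixS Φ y => (p.1 : A) * p.2 := by
    rintro ⟨p, q⟩ ⟨p', q'⟩ he
    have e : (p' : A)⁻¹ * p = q' * (q : A)⁻¹ := by
      rw [inv_mul_eq_iff_eq_mul, ← mul_assoc, ← show (p : A) * q = p' * q' from he,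
        mul_inv_cancel_right]
    have h1 : (p' : A)⁻¹ * p ∈ fixS Φ x ⊓ fixS Φ y :=
      Subgroup.mem_inf.2 ⟨mul_mem (inv_mem p'.2) p.2, e ▸ mul_mem q'.2 (inv_mem q.2)⟩
    have h2 := Subgroup.mem_bot.1 (hle h1)
    rw [h2, eq_comm, mul_inv_eq_one] at e
    rw [inv_mul_eq_one] at h2
    exact Prod.ext (Subtype.ext h2.symm) (Subtype.ext e.symm)
  have := Nat.card_le_card_of_injective _ hinj
  rw [Nat.card_prod, hcard, h.card] at this
  nlinarith

/-- The elements of the small orbit. -/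
def IsZ (Φ : A5 →* MulAut A) (a : A) : Prop := a ≠ 1 ∧ Nat.card (stabA Φ a) = 12

/-- The elements of the large orbit. -/
def IsB (Φ : A5 →* MulAut A) (a : A) : Prop := a ≠ 1 ∧ Nat.card (stabA Φ a) = 6

theorem isZ_or_isB (h : Act Φ) {a : A} (ha : a ≠ 1) : IsZ Φ a ∨ IsB Φ a := by
  rcases orb_cases h ha with h1 | h1
  · exact Or.inl ⟨ha, h1.2⟩
  · exact Or.inr ⟨ha, h1.2⟩

theorem not_isB_of_isZ {a : A} (ha : IsZ Φ a) : ¬ IsB Φ a := fun hb => by
  have := ha.2; rw [hb.2] at this; omega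

theorem card_stab_eq_of_orb {a b : A} (h : b ∈ orb Φ a) :
    Nat.card (stabA Φ b) = Nat.card (stabA Φ a) := by
  have h1 := card_orb_mul Φ a
  have h2 := card_orb_mul Φ b
  rw [orb_eq_of_mem Φ h, ← h1] at h2
  haveI : Nonempty (orb Φ a) := ⟨⟨a, self_mem_orb Φ a⟩⟩
  exact Nat.eq_of_mul_eq_mul_left Nat.card_pos h2

/-- The orbit structure: one orbit of size 5 and one of size 10. -/
theorem orbits (h : Act Φ) :
    ∃ z b : A, IsZ Φ z ∧ IsB Φ b ∧ {a | IsZ Φ a} = orb Φ z ∧ {a | IsB Φ a} = orb Φ b := by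
  classical
  haveI : Fintype A := Fintype.ofFinite A
  have hne : ({1}ᶜ : Set A).ncard = 15 := by
    rw [Set.ncard_compl, Set.ncard_singleton, h.card]
  have hoz : ∀ {a : A}, IsZ Φ a → (orb Φ a).ncard = 5 := fun {a} ha => by
    rw [← Nat.card_coe_set_eq]
    rcases orb_cases h ha.1 with h1 | h1
    · exact h1.1
    · exact absurd (h1.2.symm.trans ha.2) (by norm_num)
  have hob : ∀ {a : A}, IsB Φ a → (orb Φ a).ncard = 10 := fun {a} ha => by
    rw [← Nat.card_coe_set_eq]
    rcases orb_cases h ha.1 with h1 | h1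
    · exact absurd (h1.2.symm.trans ha.2) (by norm_num)
    · exact h1.1
  have mem1 : ∀ {a x : A}, a ≠ 1 → x ∈ orb Φ a → x ≠ 1 := fun ha hx he =>
    one_notMem_orb ha (he ▸ hx)
  have hZorb : ∀ {a : A}, IsZ Φ a → orb Φ a ⊆ {x | IsZ Φ x} := fun ha x hx =>
    ⟨mem1 ha.1 hx, (card_stab_eq_of_orb hx).trans ha.2⟩
  have hBorb : ∀ {a : A}, IsB Φ a → orb Φ a ⊆ {x | IsB Φ x} := fun ha x hx =>
    ⟨mem1 ha.1 hx, (card_stab_eq_of_orb hx).trans ha.2⟩
  have hsplit : {x | IsZ Φ x}.ncard + {x | IsB Φ x}.ncard = 15 := by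
    have hd : Disjoint {x | IsZ Φ x} {x | IsB Φ x} :=
      Set.disjoint_left.2 fun x hx => not_isB_of_isZ hx
    rw [← hne, ← Set.ncard_union_eq hd (Set.toFinite _) (Set.toFinite _)]
    congr 1
    ext x
    exact ⟨fun hx => hx.elim (·.1) (·.1), fun hx => isZ_or_isB h hx⟩
  -- some element lies in an orbit of size 10
  have hB : ∃ b, IsB Φ b := by
    by_contra hcon
    push Not at hcon
    have hall : ∀ a : A, a ≠ 1 → IsZ Φ a := fun a ha => (isZ_or_isB h ha).resolve_right (hcon a)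
    obtain ⟨a, b, ha, hb, hab⟩ := h.two
    have hu : (orb Φ a ∪ orb Φ b).ncard = 10 := by
      rw [Set.ncard_union_eq (orb_disjoint Φ hab) (Set.toFinite _) (Set.toFinite _), hoz (hall a ha),
        hoz (hall b hb)]
    obtain ⟨c, hc1, hc⟩ : ∃ c, c ∈ ({1}ᶜ : Set A) ∧ c ∉ orb Φ a ∪ orb Φ b :=
      Set.exists_mem_notMem_of_ncard_lt_ncard (by rw [hu, hne]; norm_num) (Set.toFinite _)
    simp only [Set.mem_union, not_or] at hc
    obtain ⟨r, hr1, hr3⟩ := exists_three_elt
    have hpart : (fixS Φ r : Set A) \ {1} = {x | x ∈ orb Φ a ∧ Φ r x = x} ∪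
        {x | x ∈ orb Φ b ∧ Φ r x = x} ∪ {x | x ∈ orb Φ c ∧ Φ r x = x} := by
      ext x
      constructor
      · rintro ⟨hx, hx1⟩
        have hx1' : x ≠ 1 := hx1
        by_cases h1 : x ∈ orb Φ a
        · exact Or.inl (Or.inl ⟨h1, hx⟩)
        by_cases h2 : x ∈ orb Φ b
        · exact Or.inl (Or.inr ⟨h2, hx⟩)
        refine Or.inr ⟨?_, hx⟩
        by_contra h3
        have hd : Disjoint (orb Φ a ∪ orb Φ b) (orb Φ c) :=
          Set.disjoint_union_left.2 ⟨orb_disjoint Φ hc.1, orb_disjoint Φ hc.2⟩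
        have hsub : insert x ((orb Φ a ∪ orb Φ b) ∪ orb Φ c) ⊆ ({1}ᶜ : Set A) := by
          refine Set.insert_subset hx1' ?_
          rintro y ((hy | hy) | hy)
          · exact mem1 ha hy
          · exact mem1 hb hy
          · exact mem1 hc1 hy
        have hle := Set.ncard_le_ncard hsub (Set.toFinite _)
        rw [Set.ncard_insert_of_notMem (by simp [h1, h2, h3]) (Set.toFinite _),
          Set.ncard_union_eq hd (Set.toFinite _) (Set.toFinite _), hu, hoz (hall c hc1), hne] at hle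
        omega
      · rintro ((hx | hx) | hx)
        · exact ⟨hx.2, mem1 ha hx.1⟩
        · exact ⟨hx.2, mem1 hb hx.1⟩
        · exact ⟨hx.2, mem1 hc1 hx.1⟩
    have hcnt := congrArg Set.ncard hpart
    have d1 : Disjoint {x | x ∈ orb Φ a ∧ Φ r x = x} {x | x ∈ orb Φ b ∧ Φ r x = x} :=
      (orb_disjoint Φ hab).mono (fun x hx => hx.1) (fun x hx => hx.1)
    have d2 : Disjoint ({x | x ∈ orb Φ a ∧ Φ r x = x} ∪ {x | x ∈ orb Φ b ∧ Φ r x = x})
        {x | x ∈ orb Φ c ∧ Φ r x = x} :=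
      Set.disjoint_union_left.2 ⟨(orb_disjoint Φ hc.1).mono (fun x hx => hx.1) (fun x hx => hx.1),
        (orb_disjoint Φ hc.2).mono (fun x hx => hx.1) (fun x hx => hx.1)⟩
    have hor : ∀ {d : A}, d ≠ 1 → {x | x ∈ orb Φ d ∧ Φ r x = x}.ncard = 2 := fun {d} hd =>
      (ncard_fix_orb (by rw [Nat.card_coe_set_eq]; exact hoz (hall d hd)) hr1).1 hr3
    rw [Set.ncard_diff_singleton_of_mem (fixS Φ r).one_mem, Set.ncard_union_eq d2 (Set.toFinite _)
      (Set.toFinite _), Set.ncard_union_eq d1 (Set.toFinite _) (Set.toFinite _), hor ha, hor hb,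
      hor hc1] at hcnt
    have hd := card_fix_dvd h.toAct0 r
    rw [show (fixS Φ r : Set A).ncard = Nat.card (fixS Φ r) from (Nat.card_coe_set_eq _).symm] at hcnt
    rw [show Nat.card (fixS Φ r) = 7 by omega] at hd
    omega
  obtain ⟨b, hb⟩ := hB
  have hb10 := Set.ncard_le_ncard (hBorb hb) (Set.toFinite _)
  rw [hob hb] at hb10
  have hZ : ∃ z, IsZ Φ z := by
    by_contra hcon
    push Not at hcon
    have hall : {x | IsB Φ x}.ncard = 15 := by
      have : {x | IsZ Φ x} = ∅ := Set.eq_empty_iff_forall_notMem.2 hcon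
      rw [this, Set.ncard_empty, zero_add] at hsplit
      exact hsplit
    obtain ⟨c, hc, hcb⟩ : ∃ c, c ∈ {x | IsB Φ x} ∧ c ∉ orb Φ b :=
      Set.exists_mem_notMem_of_ncard_lt_ncard (by rw [hob hb, hall]; norm_num) (Set.toFinite _)
    have hle := Set.ncard_le_ncard (Set.union_subset (hBorb hb) (hBorb hc)) (Set.toFinite _)
    rw [Set.ncard_union_eq (orb_disjoint Φ hcb) (Set.toFinite _) (Set.toFinite _), hob hb, hob hc,
      hall] at hle
    omega
  obtain ⟨z, hz⟩ := hZ
  have hz5 := Set.ncard_le_ncard (hZorb hz) (Set.toFinite _)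
  rw [hoz hz] at hz5
  refine ⟨z, b, hz, hb, (Set.eq_of_subset_of_ncard_le (hZorb hz) ?_ (Set.toFinite _)).symm,
    (Set.eq_of_subset_of_ncard_le (hBorb hb) ?_ (Set.toFinite _)).symm⟩
  · rw [hoz hz]; omega
  · rw [hob hb]; omega

theorem ncard_isZ (h : Act Φ) : {a | IsZ Φ a}.ncard = 5 := by
  obtain ⟨z, b, hz, -, hZ, -⟩ := orbits h
  rw [hZ, ← Nat.card_coe_set_eq]
  rcases orb_cases h hz.1 with h1 | h1
  · exact h1.1
  · exact absurd (h1.2.symm.trans hz.2) (by norm_num)

/-- Fixed points among the small orbit, and total fixed points of elements of order three. -/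
theorem fix_counts (h : Act Φ) {x : A5} (hx1 : x ≠ 1) :
    (x ^ 3 = 1 → {a | IsZ Φ a ∧ Φ x a = a}.ncard = 2 ∧ Nat.card (fixS Φ x) = 4) ∧
      (x ^ 2 = 1 → {a | IsZ Φ a ∧ Φ x a = a}.ncard = 1) := by
  classical
  obtain ⟨z, b, hz, -, hZ, -⟩ := orbits h
  have h5 : Nat.card (orb Φ z) = 5 := by rw [Nat.card_coe_set_eq, ← hZ, ncard_isZ h]
  have e : {a | IsZ Φ a ∧ Φ x a = a} = {a | a ∈ orb Φ z ∧ Φ x a = a} := by
    ext a; exact and_congr_left' (Set.ext_iff.1 hZ a)
  refine ⟨fun h3 => ?_, fun h2 => e ▸ (ncard_fix_orb h5 hx1).2 h2⟩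
  have h2 : {a | IsZ Φ a ∧ Φ x a = a}.ncard = 2 := e ▸ (ncard_fix_orb h5 hx1).1 h3
  refine ⟨h2, ?_⟩
  haveI : Fact (Nat.Prime 3) := ⟨Nat.prime_three⟩
  have hm := (card_fix_modEq (Φ := Φ) h3).resolve_right (not_not.2 h.card)
  have hd := card_fix_dvd h.toAct0 x
  have hge : 3 ≤ Nat.card (fixS Φ x) := by
    have hsub : insert 1 {a | IsZ Φ a ∧ Φ x a = a} ⊆ (fixS Φ x : Set A) := by
      refine Set.insert_subset (fixS Φ x).one_mem fun a ha => ha.2
    have := Set.ncard_le_ncard hsub (Set.toFinite _)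
    rw [Set.ncard_insert_of_notMem (fun hh => hh.1.1 rfl) (Set.toFinite _), h2,
      show (fixS Φ x : Set A).ncard = Nat.card (fixS Φ x) from (Nat.card_coe_set_eq _).symm] at this
    exact this
  have hne : Nat.card (fixS Φ x) ≠ 16 := fun h16 =>
    hx1 (fix_eq_top_iff h.toAct0 (Subgroup.eq_top_of_card_eq _ (h16.trans h.card.symm)))
  have hle := Nat.le_of_dvd (by norm_num) hd
  unfold Nat.ModEq at hm
  interval_cases (Nat.card (fixS Φ x)) <;> omega

/-- Involutions of the stabiliser of a point of the small orbit commute. -/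
theorem stabZ_commute (h : Act Φ) {z : A} (hz : IsZ Φ z) {x y : A5} (hx : x ∈ stabA Φ z)
    (hy : y ∈ stabA Φ z) (hx2 : x * x = 1) (hy2 : y * y = 1) : x * y = y * x := by
  by_cases hxy : x * y = 1
  · have hyx' : y = x := (inv_eq_of_mul_eq_one_right hxy).symm.trans (inv_eq_of_mul_eq_one_right hx2)
    rw [hyx']
  have hyx : y * x = (x * y)⁻¹ := by
    rw [mul_inv_rev, inv_eq_of_mul_eq_one_right hx2, inv_eq_of_mul_eq_one_right hy2]
  rcases order_cases (x * y) with h2 | h3 | h5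
  · rw [hyx, inv_eq_of_mul_eq_one_right (by rwa [pow_two] at h2)]
  · exfalso
    have hx1 : x ≠ 1 := by
      rintro rfl
      rw [one_mul] at h3 hxy
      rw [pow_succ, pow_two, hy2, one_mul] at h3
      exact hxy h3
    obtain ⟨hc, -⟩ := (fix_counts h hxy).1 h3
    have h1 := (fix_counts h hx1).2 (by rw [pow_two, hx2])
    obtain ⟨p, q, hpq, hs⟩ := Set.ncard_eq_two.1 hc
    obtain ⟨w, hw⟩ := Set.ncard_eq_one.1 h1
    have hzf : z ∈ {a | IsZ Φ a ∧ Φ (x * y) a = a} :=
      ⟨hz, (mul_mem hx hy : x * y ∈ stabA Φ z)⟩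
    have hzw : z = w := by
      have : z ∈ {a | IsZ Φ a ∧ Φ x a = a} := ⟨hz, hx⟩
      rwa [hw] at this
    obtain ⟨z', hz', hne⟩ : ∃ z', z' ∈ {a | IsZ Φ a ∧ Φ (x * y) a = a} ∧ z' ≠ z :=
      Set.exists_ne_of_one_lt_ncard (by omega) z
    have hmove : Φ x z' ∈ {a | IsZ Φ a ∧ Φ (x * y) a = a} := by
      refine ⟨⟨fun e => hz'.1.1 ((Φ x).injective (e.trans (map_one _).symm)),
        (card_stab_eq_of_orb (Φ := Φ) ⟨x, rfl⟩).trans hz'.1.2⟩, ?_⟩
      have hinv : Φ (x * y)⁻¹ z' = z' := (inv_mem (show x * y ∈ stabA Φ z' from hz'.2) : _)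
      calc Φ (x * y) (Φ x z') = Φ (x * (y * x)) z' := by
            rw [← MulAut.mul_apply, ← map_mul, mul_assoc]
        _ = Φ x (Φ (x * y)⁻¹ z') := by rw [hyx, map_mul, MulAut.mul_apply]
        _ = Φ x z' := by rw [hinv]
    have hfix : Φ x z' = z' := by
      rw [hs] at hmove hz' hzf
      have hz0 : Φ x z' ≠ z := fun e => hne ((Φ x).injective (e.trans (show Φ x z = z from hx).symm))
      simp only [Set.mem_insert_iff, Set.mem_singleton_iff] at hmove hz' hzf
      rcases hzf with rfl | rfl <;> rcases hz' with rfl | rfl <;> rcases hmove with e | e <;>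
        first | exact e | exact absurd rfl hne | exact absurd e hz0
    have : z' ∈ {a | IsZ Φ a ∧ Φ x a = a} := ⟨hz'.1, hfix⟩
    rw [hw] at this
    exact hne (this.trans hzw.symm)
  · exact absurd (fix_five h.toAct0 h5 hxy (mul_mem hx hy : x * y ∈ stabA Φ z)) hz.1

end H8.E16

namespace H8.E16

variable {A : Type*} [Group A] [Finite A] {Φ : A5 →* MulAut A}

/-- For an involution `x` every fixed element has the shape `b * Φ x b`. -/
theorem exists_comm (h : Act0 Φ) {x : A5} (hx : x * x = 1) (hx1 : x ≠ 1) {c : A} (hc : Φ x c = c) :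
    ∃ b : A, b * Φ x b = c := by
  let f : A →* A :=
    { toFun := fun a => a * Φ x a
      map_one' := by simp
      map_mul' := fun a b => by
        rw [map_mul, mul_assoc, ← mul_assoc b, sq_comm h b (Φ x a), mul_assoc, ← mul_assoc a] }
  have hr : f.range ≤ fixS Φ x := by
    rintro _ ⟨a, rfl⟩
    show Φ x (a * Φ x a) = a * Φ x a
    rw [map_mul, ← MulAut.mul_apply, ← map_mul, hx, map_one, MulAut.one_apply, sq_comm h]
  have hk : f.ker = fixS Φ x := by
    ext a
    rw [MonoidHom.mem_ker, mem_fixS]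
    show a * Φ x a = 1 ↔ _
    rw [mul_eq_one_iff_eq_inv', inv_eq_of_mul_eq_one_right (h.sq a)]
  have h1 := Subgroup.card_mul_index f.ker
  rw [Subgroup.index_ker, hk, h.card, fix_invol h hx hx1] at h1
  have : f.range = fixS Φ x :=
    Subgroup.eq_of_le_of_card_ge hr (by rw [fix_invol h hx hx1]; omega)
  exact (this.symm ▸ (hc : c ∈ fixS Φ x) : c ∈ f.range)

theorem isZ_conj {a : A} (x : A5) : IsZ Φ (Φ x a) ↔ IsZ Φ a := by
  have h1 : Φ x a ≠ 1 ↔ a ≠ 1 := not_congr ⟨fun e => (Φ x).injective (e.trans (map_one _).symm),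
    fun e => by rw [e, map_one]⟩
  exact and_congr h1 (by rw [card_stab_eq_of_orb (Φ := Φ) ⟨x, rfl⟩])

theorem isB_conj {a : A} (x : A5) : IsB Φ (Φ x a) ↔ IsB Φ a := by
  have h1 : Φ x a ≠ 1 ↔ a ≠ 1 := not_congr ⟨fun e => (Φ x).injective (e.trans (map_one _).symm),
    fun e => by rw [e, map_one]⟩
  exact and_congr h1 (by rw [card_stab_eq_of_orb (Φ := Φ) ⟨x, rfl⟩])

end H8.E16
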