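import Mathlib

/-!
Elementwise facts on the alternating group of degree 5, and the shape of an action by automorphisms
of it on an elementary abelian group of order 16 with two orbits (helper8).
-/

set_option autoImplicit false
set_option linter.style.haveILetI false
set_option linter.unusedSectionVars false

namespace H8.E16

/-- The alternating group of degree 5. -/
abbrev A5 := alternatingGroup (Fin 5)

set_option maxRecDepth 20000 in
set_option maxHeartbeats 2000000 in
theorem order_cases : ∀ x : A5, x ^ 2 = 1 ∨ x ^ 3 = 1 ∨ x ^ 5 = 1 := by decide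

/-- An involution of `A5`, used as a reference point. -/
def x₀ : A5 := ⟨Equiv.swap 0 1 * Equiv.swap 2 3, Equiv.Perm.mem_alternatingGroup.2 (by decide)⟩

set_option maxRecDepth 20000 in
set_option maxHeartbeats 2000000 in
theorem conj_x₀ : ∀ x : A5, x * x = 1 → x ≠ 1 → ∃ g : A5, g * x₀ * g⁻¹ = x := by decide

set_option maxRecDepth 20000 in
set_option maxHeartbeats 2000000 in
theorem exists_five : ∀ x : A5, x * x = 1 → x ≠ 1 →
    ∃ g : A5, x * (g * x * g⁻¹) ≠ 1 ∧ (x * (g * x * g⁻¹)) ^ 5 = 1 := by decide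

theorem conj_invol {x y : A5} (hx : x * x = 1) (hx1 : x ≠ 1) (hy : y * y = 1) (hy1 : y ≠ 1) :
    ∃ g : A5, g * x * g⁻¹ = y := by
  obtain ⟨g, rfl⟩ := conj_x₀ x hx hx1
  obtain ⟨k, rfl⟩ := conj_x₀ y hy hy1
  exact ⟨k * g⁻¹, by group⟩

set_option maxRecDepth 20000 in
theorem exists_five_elt : ∃ s : A5, s ≠ 1 ∧ s ^ 5 = 1 :=
  ⟨⟨Equiv.swap 0 1 * Equiv.swap 1 2 * Equiv.swap 2 3 * Equiv.swap 3 4,
    Equiv.Perm.mem_alternatingGroup.2 (by decide)⟩, by decide, by decide⟩

set_option maxRecDepth 20000 in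
theorem exists_three_elt : ∃ s : A5, s ≠ 1 ∧ s ^ 3 = 1 :=
  ⟨⟨Equiv.swap 0 1 * Equiv.swap 1 2, Equiv.Perm.mem_alternatingGroup.2 (by decide)⟩, by decide, by decide⟩

theorem card_A5 : Nat.card A5 = 60 := by
  rw [Nat.card_eq_fintype_card]; decide

theorem orderOf_of_pow {x : A5} {p : ℕ} (hp : p.Prime) (h : x ^ p = 1) (h1 : x ≠ 1) :
    orderOf x = p := by
  haveI : Fact p.Prime := ⟨hp⟩
  exact orderOf_eq_prime h h1

/-- A normal subgroup of `A5` with a nontrivial element is everything. -/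
theorem eq_top_of_mem {K : Subgroup A5} (hK : K.Normal) {x : A5} (hx : x ∈ K) (h1 : x ≠ 1) : K = ⊤ := by
  rcases hK.eq_bot_or_eq_top with h | h
  · rw [h, Subgroup.mem_bot] at hx; exact absurd hx h1
  · exact h

end H8.E16
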