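import Cfsg.Agent.H8.E16.Tools
import Cfsg.Agent.H85.BrauerSuzuki
import Cfsg.Agent.H66.Isolated
import Cfsg.Agent.H73.Fusion

/-!
The centralizer of an element of the large orbit is covered by its core and the normaliser of `A`,
once this is known for the small orbit (helper8).
-/

set_option autoImplicit false
set_option linter.style.haveILetI false
set_option linter.unusedSectionVars false

namespace H8.E16

open Subgroup
open scoped commutatorElement

universe u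

namespace Data

variable {G : Type u} [Group G] [Finite G] (D : Data G)

theorem π_mem_stab {n : D.N} {a : G} (ha : a ∈ D.A) (h : (n : G) * a = a * n) :
    D.π n ∈ stabA D.Φ ⟨a, ha⟩ := by
  refine Subtype.ext ?_
  rw [D.Φ_coe]
  show (n : G) * a * (n : G)⁻¹ = a
  rw [h, mul_inv_cancel_right]

theorem commute_of_π_mem_stab {n : D.N} {a : G} (ha : a ∈ D.A)
    (h : D.π n ∈ stabA D.Φ ⟨a, ha⟩) : (n : G) * a = a * n := by
  have h1 := congrArg Subtype.val (show D.Φ (D.π n) ⟨a, ha⟩ = ⟨a, ha⟩ from h)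
  rw [D.Φ_coe] at h1
  calc (n : G) * a = (n : G) * a * (n : G)⁻¹ * n := by group
    _ = a * n := by rw [h1]

/-- The second step: good centralizers on the large orbit. -/
theorem good_B (hZ : ∀ z, D.IsZg z → D.Good z) {a : G} (hB : D.IsBg a) : D.Good a := by
  haveI : Fact (Nat.Prime 2) := ⟨Nat.prime_two⟩
  have ha1 : a ≠ 1 := D.ne_one_of_isBg hB
  obtain ⟨haA, -, hst⟩ := hB
  set C := centralizer ({a} : Set G) with hC
  have hAC : D.A ≤ C := D.A_le_cent haA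
  set st := stabA D.Φ ⟨a, haA⟩ with hstdef
  have hπst : ∀ (n : D.N), (n : G) ∈ C → D.π n ∈ st := fun n hn =>
    D.π_mem_stab haA (mem_centralizer_singleton_iff.1 hn)
  -- in a 2-subgroup of the centralizer the elements outside `A` have one image
  have himg : ∀ T : Subgroup G, IsPGroup 2 T → D.A ≤ T → T ≤ C → ∀ x y : G, x ∈ T → y ∈ T →
      x ∉ D.A → y ∉ D.A → x⁻¹ * y ∈ D.A := by
    intro T hT hAT hTC x y hx hy hxA hyA
    have hTN := D.le_N_of_isPGroup hT hAT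
    set I := (T.subgroupOf D.N).map D.π with hI
    have hIp : IsPGroup 2 I := (hT.comap_subtype (K := D.N)).map _
    have hIle : I ≤ st := by
      rintro _ ⟨n, hn, rfl⟩
      exact hπst n (hTC hn)
    obtain ⟨k, hk⟩ := IsPGroup.iff_card.1 hIp
    have hd : Nat.card I ∣ 6 := hst ▸ Subgroup.card_dvd_of_le hIle
    have hne : ∀ w (hw : w ∈ T), w ∉ D.A → D.π ⟨w, hTN hw⟩ ≠ 1 := fun w hw hwA h1 => by
      obtain ⟨i, hi⟩ := hT ⟨w, hw⟩
      exact hwA (D.mem_A_of_ker (n := ⟨w, hTN hw⟩) h1 (k := i) (congrArg Subtype.val hi))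
    have h2 : Nat.card I = 2 := by
      have hle : k ≤ 1 := by
        by_contra hh
        have h4 : 2 ^ 2 ∣ 6 := (pow_dvd_pow 2 (by omega : 2 ≤ k)).trans (hk ▸ hd)
        norm_num at h4
      interval_cases k
      · have hbot := Subgroup.card_eq_one.1 hk
        exact absurd (Subgroup.mem_bot.1 (hbot ▸ (⟨⟨x, hTN hx⟩, hx, rfl⟩ : D.π ⟨x, hTN hx⟩ ∈ I)))
          (hne x hx hxA)
      · simpa using hk
    obtain ⟨w, -, hw⟩ := (Nat.card_eq_two_iff' (1 : I)).1 h2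
    have hxI : D.π ⟨x, hTN hx⟩ ∈ I := ⟨⟨x, hTN hx⟩, hx, rfl⟩
    have hyI : D.π ⟨y, hTN hy⟩ ∈ I := ⟨⟨y, hTN hy⟩, hy, rfl⟩
    have e1 : (⟨D.π ⟨x, hTN hx⟩, hxI⟩ : I) = ⟨D.π ⟨y, hTN hy⟩, hyI⟩ := by
      rw [hw ⟨_, hxI⟩ (fun e => hne x hx hxA (congrArg Subtype.val e)),
        hw ⟨_, hyI⟩ (fun e => hne y hy hyA (congrArg Subtype.val e))]
    have hmem : x⁻¹ * y ∈ T := mul_mem (inv_mem hx) hy
    obtain ⟨i, hi⟩ := hT ⟨_, hmem⟩
    refine D.mem_A_of_ker (n := (⟨x, hTN hx⟩ : D.N)⁻¹ * ⟨y, hTN hy⟩) ?_ (k := i)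
      (congrArg Subtype.val hi)
    rw [map_mul, map_inv, show D.π ⟨x, hTN hx⟩ = D.π ⟨y, hTN hy⟩ from congrArg Subtype.val e1,
      inv_mul_cancel]
  -- focal subgroup
  have hfocal : ∀ T : Subgroup G, H73.SylIn 2 T C → D.A ≤ T → T ⊓ ⁅C, C⁆ ≤ D.A := by
    intro T hT hAT
    refine H73.inf_commutator_le_of_focal hT fun u hu t ht hut => ?_
    by_cases htA : t ∈ D.A
    · exact mul_mem (D.mem_A_of_pgroup hT.isPGroup hAT htA hut) (inv_mem htA)
    · have hyA : u * t * u⁻¹ ∉ D.A := fun h => htA (by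
        have := D.mem_A_of_pgroup hT.isPGroup hAT h (g := u⁻¹)
          (by rwa [show u⁻¹ * (u * t * u⁻¹) * u⁻¹⁻¹ = t by group])
        rwa [show u⁻¹ * (u * t * u⁻¹) * u⁻¹⁻¹ = t by group] at this)
      have h1 := himg T hT.isPGroup hAT hT.le t _ ht hut htA hyA
      have h2 : u * t * u⁻¹ * t⁻¹ = t * (t⁻¹ * (u * t * u⁻¹)) * t⁻¹ := by group
      rw [h2]
      exact (mem_normalizer_iff.1 (D.le_N_of_isPGroup hT.isPGroup hAT ht) _).1 h1
  -- the subgroup `P0`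
  set P0 : Subgroup G := D.A ⊔ ⁅C, C⁆ with hP0
  have hC'C : ⁅C, C⁆ ≤ C := Subgroup.commutator_le.2 fun g hg h hh => by
    rw [commutatorElement_def]
    exact mul_mem (mul_mem (mul_mem hg hh) (inv_mem hg)) (inv_mem hh)
  have hP0C : P0 ≤ C := sup_le hAC hC'C
  have hP0conj : ∀ c ∈ C, ∀ p ∈ P0, c * p * c⁻¹ ∈ P0 := fun c hc p hp => by
    rw [show c * p * c⁻¹ = ⁅c, p⁆ * p by rw [commutatorElement_def]; group]
    exact mul_mem (mem_sup_right (Subgroup.commutator_mem_commutator hc (hP0C hp))) hp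
  have hC'n : C ≤ normalizer ((⁅C, C⁆ : Subgroup G) : Set G) := le_normalizer_of_conj fun c hc x hx => by
    rw [show c * x * c⁻¹ = ⁅c, x⁆ * x by rw [commutatorElement_def]; group]
    exact mul_mem (Subgroup.commutator_mem_commutator hc (hC'C hx)) hx
  have hP0mul : ∀ p ∈ P0, ∃ a' ∈ D.A, ∃ d ∈ ⁅C, C⁆, p = a' * d := by
    intro p hp
    rw [hP0, ← SetLike.mem_coe, coe_mul_of_left_le_normalizer_right _ _ (hAC.trans hC'n)] at hp
    obtain ⟨a', ha', d, hd, he⟩ := hp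
    exact ⟨a', ha', d, hd, he.symm⟩
  have hR : ∀ R : Subgroup G, IsPGroup 2 R → D.A ≤ R → R ≤ P0 → R ≤ D.A := by
    intro R hR hAR hRP x hx
    obtain ⟨T, hT⟩ := (hR.comap_subtype (K := C)).exists_le_sylow
    have hRT : R ≤ (T : Subgroup C).map C.subtype := fun y hy =>
      ⟨⟨y, hP0C (hRP hy)⟩, hT hy, rfl⟩
    obtain ⟨a', ha', d, hd, rfl⟩ := hP0mul x (hRP hx)
    refine mul_mem ha' (hfocal _ (H73.SylIn.of_sylow T) (hAR.trans hRT) (mem_inf.2 ⟨?_, hd⟩))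
    have := mul_mem (inv_mem (hRT (hAR ha'))) (hRT hx)
    rwa [inv_mul_cancel_left] at this
  have hinto : ∀ V : Subgroup G, IsPGroup 2 V → V ≤ P0 → ∃ p ∈ P0, ∀ x ∈ V, p * x * p⁻¹ ∈ D.A := by
    intro V hV hVP
    obtain ⟨T, hT, hAT, hTP, j, hj, hjV⟩ := exists_two_conj D.isPGroup_A hV le_sup_left hVP
    exact ⟨j, hj, fun x hx => hR T hT hAT hTP (hjV x hx)⟩
  -- elements of the normaliser in `P0`
  have hcube : ∀ n : D.N, (n : G) ∈ P0 → D.π n ^ 3 = 1 := by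
    intro n hn
    have hs := hπst n (hP0C hn)
    rcases order_cases (D.π n) with h2 | h3 | h5
    · obtain ⟨k, m, hm, hkm⟩ := Nat.exists_eq_two_pow_mul_odd (orderOf_pos n).ne'
      obtain ⟨j, hj⟩ := hm
      have hn' : ((n ^ m : D.N) : G) ^ 2 ^ k = 1 := by
        rw [← Subgroup.coe_pow, ← pow_mul, mul_comm, ← hkm, pow_orderOf_eq_one, Subgroup.coe_one]
      have hT := isPGroup_sup_zpowers D.isPGroup_A hn' (n ^ m).2
      have hle := hR _ hT le_sup_left (sup_le le_sup_left (zpowers_le.2 (by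
        rw [Subgroup.coe_pow]; exact pow_mem hn m)))
      have hA : ((n ^ m : D.N) : G) ∈ D.A := hle (mem_sup_right (mem_zpowers _))
      have h1 : D.π (n ^ m) = 1 := D.π_of_mem hA
      rw [map_pow, hj, pow_succ, pow_mul, h2, one_pow, one_mul] at h1
      rw [h1, one_pow]
    · exact h3
    · by_cases h : D.π n = 1
      · rw [h, one_pow]
      · exact absurd (congrArg Subtype.val (fix_five D.act0 h5 h hs)) ha1
  -- the point `z`
  obtain ⟨z, hzZ, hzfix⟩ : ∃ z : D.A, IsZ D.Φ z ∧ ∀ x ∈ st, x ^ 3 = 1 → D.Φ x z = z := by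
    haveI : Fact (Nat.Prime 3) := ⟨Nat.prime_three⟩
    obtain ⟨s, hs⟩ := exists_prime_orderOf_dvd_card' 3 (show 3 ∣ Nat.card st from hst ▸ (by norm_num))
    have hs3 : (s : A5) ^ 3 = 1 := by
      rw [← Subgroup.coe_pow, ← hs, pow_orderOf_eq_one, Subgroup.coe_one]
    have hs1 : (s : A5) ≠ 1 := fun e => by
      rw [show s = 1 from Subtype.ext e, orderOf_one] at hs; omega
    obtain ⟨hc, -⟩ := (fix_counts D.act hs1).1 hs3
    obtain ⟨z, hz⟩ := Set.nonempty_of_ncard_ne_zero (by rw [hc]; norm_num :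
      {b | IsZ D.Φ b ∧ D.Φ (s : A5) b = b}.ncard ≠ 0)
    refine ⟨z, hz.1, fun x hx hx3 => ?_⟩
    have hidx : (zpowers s).index = 2 := by
      have := Subgroup.card_mul_index (zpowers s)
      rw [Nat.card_zpowers, hs, hst] at this
      omega
    have hxs : (⟨x, hx⟩ : st) ∈ zpowers s := by
      have h2 := Subgroup.sq_mem_of_index_two hidx (⟨x, hx⟩ : st)
      have h4 := mul_mem h2 h2
      rwa [show (⟨x, hx⟩ : st) ^ 2 * (⟨x, hx⟩ : st) ^ 2 = ⟨x, hx⟩ from Subtype.ext (by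
        rw [Subgroup.coe_mul, Subgroup.coe_pow, ← pow_add, show (2 + 2) = 3 + 1 from rfl, pow_succ,
          hx3, one_mul])] at h4
    obtain ⟨i, hi⟩ := mem_zpowers_iff.1 hxs
    have hzs : (s : A5) ∈ stabA D.Φ z := hz.2
    have := zpow_mem hzs i
    rw [← Subgroup.coe_zpow, hi] at this
    exact this
  have hzA : (z : G) ∈ D.A := z.2
  have hz1 : (z : G) ≠ 1 := fun e => hzZ.1 (Subtype.ext e)
  have hzg : D.IsZg (z : G) := ⟨hzA, hzZ⟩
  have hzP : (z : G) ∈ P0 := mem_sup_left hzA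
  have hfixN : ∀ n ∈ D.N ⊓ P0, n * (z : G) * n⁻¹ = z := by
    intro n hn
    obtain ⟨hnN, hnP⟩ := mem_inf.1 hn
    rw [← D.Φ_coe ⟨n, hnN⟩ z, hzfix _ (hπst ⟨n, hnN⟩ (hP0C hnP)) (hcube _ hnP)]
  -- `z` is isolated in `P0`
  have hiso : Cfsg.IsIsolatedInvolution (⟨z, hzP⟩ : P0) := by
    refine ⟨orderOf_eq_prime (Subtype.ext (D.el.2 _ hzA)) (fun e => hz1 (congrArg Subtype.val e)),
      fun g hg => Subtype.ext ?_⟩
    set w : G := (g : G) * z * (g : G)⁻¹ with hw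
    show w = z
    have hcomm : (z : G) * w = w * z := congrArg Subtype.val hg.eq
    have hw2 : w ^ 2 = 1 := by rw [hw, conj_pow, D.el.2 _ hzA, mul_one, mul_inv_cancel]
    have hV : IsPGroup 2 ↥(zpowers (z : G) ⊔ zpowers w) := by
      refine isPGroup_sup_zpowers (IsPGroup.of_card (n := 1) (by
        rw [Nat.card_zpowers, D.orderOf_two hzA hz1, pow_one])) (k := 1) (by rwa [pow_one]) ?_
      refine (Subgroup.centralizer_le_normalizer _) (mem_centralizer_iff.2 ?_)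
      rintro _ ⟨i, rfl⟩
      exact (Commute.zpow_left (show Commute (z : G) w from hcomm) i).eq
    obtain ⟨p, hp, hpV⟩ := hinto _ hV (sup_le (zpowers_le.2 hzP)
      (zpowers_le.2 (mul_mem (mul_mem g.2 hzP) (inv_mem g.2))))
    obtain ⟨n1, hn1, he1⟩ := D.fusion (H := P0) le_sup_left hzA
      (hpV _ (mem_sup_left (mem_zpowers _))) hp rfl
    obtain ⟨n2, hn2, he2⟩ := D.fusion (H := P0) le_sup_left hzA
      (hpV _ (mem_sup_right (mem_zpowers _))) (mul_mem hp g.2) (by rw [hw]; group)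
    rw [hfixN n1 hn1] at he1
    rw [hfixN n2 hn2] at he2
    exact mul_left_cancel (mul_right_cancel (he2.symm.trans he1))
  have hzs := H85.zStar hiso
  -- the core
  set R := core P0 with hRdef
  have hRC : C ≤ normalizer (R : Set G) := le_normalizer_of_conj fun c hc x hx =>
    core_conj (fun h => ⟨hP0conj c hc h, fun hh => by
      simpa [mul_assoc] using hP0conj c⁻¹ (inv_mem hc) _ hh⟩) hx
  have hROc : R ≤ Oc a := le_Oc ((core_le P0).trans hP0C) (core_card P0) hRC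
  have hOcA : ∀ k ∈ Oc a, ∀ b ∈ D.A, k * b * k⁻¹ ∈ D.A ⊔ Oc a := fun k hk b hb =>
    conj_mem_sup hb hk (Oc_conj (hAC hb) (inv_mem hk))
  have hsup : ∀ k ∈ Oc a, ∀ x ∈ D.A ⊔ Oc a, k * x * k⁻¹ ∈ D.A ⊔ Oc a := by
    intro k hk x hx
    exact mul_mem (mul_mem (mem_sup_right hk) hx) (inv_mem (mem_sup_right hk))
  have hdec : ∀ g ∈ P0, ∃ k ∈ R, ∃ c ∈ P0, c * (z : G) = z * c ∧ g = k * c := by
    intro g hg
    obtain ⟨k, hk, -, -, hk3⟩ := H66.iso_exists_conj hiso ⟨g, hg⟩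
    haveI := H1.pPrimeCore_normal' 2 ↥P0
    have hmem : (⟨z, hzP⟩ : P0) * (⟨g, hg⟩ * ⟨z, hzP⟩ * ⟨g, hg⟩⁻¹) ∈ Cfsg.pPrimeCore 2 ↥P0 := by
      have h := hzs ⟨g, hg⟩
      rw [H66.inv_eq_self_of_sq (H66.iso_sq hiso)] at h
      simpa only [mul_assoc] using h
    have hkR : (k : G) ∈ R := ⟨k, (zpowers_le.2 hmem) hk, rfl⟩
    have h3 := congrArg Subtype.val hk3
    simp only [Subgroup.coe_mul, Subgroup.coe_inv] at h3
    refine ⟨k, hkR, (k : G)⁻¹ * g, mul_mem (inv_mem k.2) hg, ?_, by rw [mul_inv_cancel_left]⟩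
    calc (k : G)⁻¹ * g * z = (k : G)⁻¹ * (g * z * g⁻¹) * g := by group
      _ = (k : G)⁻¹ * ((k : G) * z * (k : G)⁻¹) * g := by rw [h3]
      _ = z * ((k : G)⁻¹ * g) := by group
  -- `Oc z ⊓ P0` lies in the core
  set D0 : Subgroup G := Oc (z : G) ⊓ P0 with hD0
  have hD0R : D0 ≤ R := by
    have hn1 : D0 ≤ normalizer (R : Set G) := inf_le_right.trans (hP0C.trans hRC)
    refine le_sup_right.trans (le_core (sup_le (core_le P0) inf_le_right) (coprime_sup hn1 (core_card P0)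
      ((Oc_card (z : G)).coprime_dvd_left (Subgroup.card_dvd_of_le inf_le_left))) ?_)
    intro g hg x hx
    obtain ⟨k, hk, c, hc, hcz, rfl⟩ := hdec g hg
    have h1 : c * x * c⁻¹ ∈ R ⊔ D0 := by
      have hmap : (R ⊔ D0).map (MulAut.conj c).toMonoidHom ≤ R ⊔ D0 := by
        rw [Subgroup.map_sup]
        refine sup_le ?_ ?_
        · rintro _ ⟨r, hr, rfl⟩
          exact mem_sup_left ((mem_normalizer_iff.1 (hRC (hP0C hc)) r).1 hr)
        · rintro _ ⟨d, hd, rfl⟩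
          exact mem_sup_right (mem_inf.2 ⟨Oc_conj (mem_centralizer_singleton_iff.2 hcz) (mem_inf.1 hd).1,
            mul_mem (mul_mem hc (mem_inf.1 hd).2) (inv_mem hc)⟩)
      exact hmap ⟨x, hx, rfl⟩
    rw [show k * c * x * (k * c)⁻¹ = k * (c * x * c⁻¹) * k⁻¹ by group]
    exact mul_mem (mul_mem (mem_sup_left hk) h1) (inv_mem (mem_sup_left hk))
  -- `P0` preserves `A` modulo the core
  have hP0A : ∀ g ∈ P0, ∀ b ∈ D.A, g * b * g⁻¹ ∈ D.A ⊔ Oc a := by
    intro g hg b hb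
    obtain ⟨k, hk, c, hc, hcz, rfl⟩ := hdec g hg
    rw [show k * c * b * (k * c)⁻¹ = k * (c * b * c⁻¹) * k⁻¹ by group]
    refine hsup k (hROc hk) _ ?_
    have hcC := mem_centralizer_singleton_iff.1 (hP0C hc)
    obtain ⟨o, ho, n, hn, rfl⟩ := D.good_decomp (hZ _ hzg) (mem_centralizer_singleton_iff.2 hcz)
    obtain ⟨hnN, hnz⟩ := mem_inf.1 hn
    have hna : n * a * n⁻¹ ∈ D.A := (mem_normalizer_iff.1 hnN a).1 haA
    have hcomm : n * a * n⁻¹ = a := by
      have h1 : n * a * n⁻¹ = o⁻¹ * (a * o * a⁻¹) * a := by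
        calc n * a * n⁻¹ = o⁻¹ * (o * n * a) * n⁻¹ := by group
          _ = o⁻¹ * (a * (o * n)) * n⁻¹ := by rw [hcC]
          _ = o⁻¹ * (a * o * a⁻¹) * a := by group
      have h2 : n * a * n⁻¹ * a⁻¹ ∈ Oc (z : G) := by
        rw [h1, mul_inv_cancel_right]
        exact mul_mem (inv_mem ho) (Oc_conj (D.A_le_cent hzA haA) ho)
      exact mul_inv_eq_one.1 (eq_one_of_odd_pow_two (k := 1)
        (by rw [pow_one]; exact D.el.2 _ (mul_mem hna (inv_mem haA))) (odd_of_mem (Oc_card _) h2))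
    have hnC : n ∈ C := mem_centralizer_singleton_iff.2 (by
      calc n * a = n * a * n⁻¹ * n := by group
        _ = a * n := by rw [hcomm])
    have hoC : o ∈ C := by
      have := mul_mem (hP0C hc) (inv_mem hnC)
      rwa [mul_inv_cancel_right] at this
    have hb' : n * b * n⁻¹ ∈ D.A := (mem_normalizer_iff.1 hnN b).1 hb
    rw [show o * n * b * (o * n)⁻¹ = o * (n * b * n⁻¹) * o⁻¹ * (n * b * n⁻¹)⁻¹ * (n * b * n⁻¹) by group]
    refine mul_mem (mem_sup_right (hROc (hD0R (mem_inf.2 ⟨?_, ?_⟩)))) (mem_sup_left hb')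
    · rw [show o * (n * b * n⁻¹) * o⁻¹ * (n * b * n⁻¹)⁻¹ =
        o * ((n * b * n⁻¹) * o⁻¹ * (n * b * n⁻¹)⁻¹) by group]
      exact mul_mem ho (Oc_conj (D.A_le_cent hzA hb') (inv_mem ho))
    · rw [← commutatorElement_def]
      exact mem_sup_right (Subgroup.commutator_mem_commutator hoC (hAC hb'))
  -- Frattini
  refine D.good_of_normal haA fun c hc b hb => ?_
  have hV := D.isPGroup_A.map (MulAut.conj c).toMonoidHom
  obtain ⟨p, hp, hpV⟩ := hinto _ hV (by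
    rintro _ ⟨x, hx, rfl⟩
    exact hP0conj c hc x (mem_sup_left hx))
  have hpc : p * c * b * (p * c)⁻¹ ∈ D.A := by
    have := hpV _ ⟨b, hb, rfl⟩
    rwa [show p * ((MulAut.conj c).toMonoidHom b) * p⁻¹ = p * c * b * (p * c)⁻¹ by
      simp [mul_assoc]] at this
  have := hP0A p⁻¹ (inv_mem hp) _ hpc
  rwa [show p⁻¹ * (p * c * b * (p * c)⁻¹) * p⁻¹⁻¹ = c * b * c⁻¹ by group] at this

end Data

end H8.E16
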