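import Cfsg.Prelude.Def_CaseTheorems
import Cfsg.Prelude.Def_TwoFusion
import Cfsg.Prelude.Def_Transfer
import Cfsg.Agent.H1.Cores
import Cfsg.Agent.H5.Burnside
import Cfsg.Agent.H8.E16.Action

/-!
An elementary abelian subgroup `A` of order 16 whose normaliser induces the alternating group of
degree 5 in a group with Sylow 2-subgroups of order 64 and three classes of involutions: the action
and the fusion (helper8).
-/

set_option autoImplicit false
set_option linter.style.haveILetI false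
set_option linter.unusedSectionVars false

namespace H8.E16

open Subgroup
open scoped commutatorElement

universe u

/-- The hypotheses. -/
structure Data (G : Type u) [Group G] where
  A : Subgroup G
  π : ↥(normalizer (A : Set G)) →* A5
  surj : Function.Surjective π
  ker : π.ker = A.subgroupOf (normalizer (A : Set G)) ⊔ Cfsg.oddCore ↥(normalizer (A : Set G))
  el : Cfsg.IsElementaryAbelian 2 A
  card : Nat.card A = 16
  three : Nat.card {c : ConjClasses G // ∃ x ∈ c.carrier, orderOf x = 2} = 3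
  syl : ∀ S : Sylow 2 G, Nat.card (S : Subgroup G) = 64 ∧
    ¬ IsMulCommutative ↥(S : Subgroup G)

theorem orderOf_conj_eq {G : Type*} [Group G] (g x : G) : orderOf (g * x * g⁻¹) = orderOf x :=
  (MulAut.conj g).orderOf_eq x

theorem eq_one_of_odd_pow_two {G : Type*} [Group G] {x : G} {k : ℕ} (h : x ^ 2 ^ k = 1)
    (hodd : Odd (orderOf x)) : x = 1 := by
  rw [← orderOf_eq_one_iff]
  obtain ⟨j, -, hj⟩ := (Nat.dvd_prime_pow Nat.prime_two).1 (orderOf_dvd_of_pow_eq_one h)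
  rcases Nat.eq_zero_or_pos j with rfl | hj0
  · simpa using hj
  · rw [hj] at hodd
    exact absurd hodd (by
      rw [Nat.not_odd_iff_even]; exact (Nat.even_pow).2 ⟨even_two, by omega⟩)

/-- A 2-group normalised by an element of 2-power order generates with it a 2-group. -/
theorem isPGroup_sup_zpowers {G : Type*} [Group G] [Finite G] {R : Subgroup G} (hR : IsPGroup 2 R)
    {x : G} {k : ℕ} (hx : x ^ 2 ^ k = 1) (hn : x ∈ normalizer (R : Set G)) :
    IsPGroup 2 ↥(R ⊔ zpowers x) := by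
  obtain ⟨j, -, hj⟩ := (Nat.dvd_prime_pow Nat.prime_two).1 (orderOf_dvd_of_pow_eq_one hx)
  exact IsPGroup.to_sup_of_normal_left' hR (IsPGroup.of_card (n := j) (by rw [Nat.card_zpowers, hj]))
    (zpowers_le.2 hn)

namespace Data

variable {G : Type u} [Group G] (D : Data G)

/-- The normaliser of `A`. -/
abbrev N : Subgroup G := normalizer (D.A : Set G)

theorem A_le_N : D.A ≤ D.N := le_normalizer

theorem sq_one {a : G} (ha : a ∈ D.A) : a * a = 1 := by
  rw [← pow_two]; exact D.el.2 a ha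

theorem comm {a b : G} (ha : a ∈ D.A) (hb : b ∈ D.A) : a * b = b * a :=
  congrArg Subtype.val (D.el.1.is_comm.comm ⟨a, ha⟩ ⟨b, hb⟩)

theorem inv_eq {a : G} (ha : a ∈ D.A) : a⁻¹ = a := inv_eq_of_mul_eq_one_right (D.sq_one ha)

theorem orderOf_two {a : G} (ha : a ∈ D.A) (h1 : a ≠ 1) : orderOf a = 2 :=
  orderOf_eq_prime (D.el.2 a ha) h1

theorem isPGroup_A : IsPGroup 2 D.A := IsPGroup.of_card (n := 4) (by rw [D.card]; norm_num)

/-- The odd core of the normaliser, inside `G`. -/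
def K : Subgroup G := (Cfsg.oddCore ↥D.N).map D.N.subtype

theorem K_le : D.K ≤ D.N := map_subtype_le _

variable [Finite G]

theorem K_conj {n k : G} (hn : n ∈ D.N) (hk : k ∈ D.K) : n * k * n⁻¹ ∈ D.K := by
  obtain ⟨k, hk, rfl⟩ := hk
  exact ⟨⟨n, hn⟩ * k * ⟨n, hn⟩⁻¹, (H1.pPrimeCore_normal' 2 _).conj_mem _ hk _, rfl⟩

theorem K_card : (Nat.card D.K).Coprime 2 := by
  rw [K, ← Nat.card_congr (equivMapOfInjective _ _ D.N.subtype_injective).toEquiv]
  exact H1.card_pPrimeCore_coprime 2 _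

theorem odd_of_mem_K {k : G} (hk : k ∈ D.K) : Odd (orderOf k) :=
  (Nat.coprime_two_right.1 D.K_card).of_dvd_nat (Subgroup.orderOf_dvd_natCard _ hk)

theorem inf_K : D.A ⊓ D.K = ⊥ := (eq_bot_iff_forall _).2 fun x hx =>
  eq_one_of_odd_pow_two (k := 1) (by rw [pow_one]; exact D.el.2 x (mem_inf.1 hx).1)
    (D.odd_of_mem_K (mem_inf.1 hx).2)

theorem commute_K {a k : G} (ha : a ∈ D.A) (hk : k ∈ D.K) : Commute a k := by
  refine commutatorElement_eq_one_iff_commute.1 ?_
  have h1 : ⁅a, k⁆ ∈ D.A ⊓ D.K := by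
    rw [commutatorElement_def]
    refine mem_inf.2 ⟨?_, mul_mem (D.K_conj (D.A_le_N ha) hk) (inv_mem hk)⟩
    rw [mul_assoc, mul_assoc]
    exact mul_mem ha (by
      simpa [mul_assoc] using (mem_normalizer_iff.1 (D.K_le hk) a⁻¹).1 (inv_mem ha))
  rwa [D.inf_K, mem_bot] at h1

theorem mem_ker_iff {n : D.N} : D.π n = 1 ↔ ∃ a ∈ D.A, ∃ k ∈ D.K, (n : G) = a * k := by
  rw [← MonoidHom.mem_ker, D.ker]
  constructor
  · intro h
    haveI := H1.pPrimeCore_normal' 2 ↥D.N
    obtain ⟨a, ha, k, hk, rfl⟩ := mem_sup_of_normal_right.1 h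
    exact ⟨a, ha, k, ⟨k, hk, rfl⟩, rfl⟩
  · rintro ⟨a, ha, k, ⟨k, hk, rfl⟩, e⟩
    have : n = ⟨a, D.A_le_N ha⟩ * k := Subtype.ext e
    rw [this]
    exact mul_mem (mem_sup_left (show (⟨a, D.A_le_N ha⟩ : D.N) ∈ D.A.subgroupOf D.N from ha))
      (mem_sup_right hk)

theorem π_of_mem {a : G} (ha : a ∈ D.A) : D.π ⟨a, D.A_le_N ha⟩ = 1 :=
  D.mem_ker_iff.2 ⟨a, ha, 1, one_mem _, (mul_one a).symm⟩

theorem π_of_mem_K {k : G} (hk : k ∈ D.K) : D.π ⟨k, D.K_le hk⟩ = 1 :=
  D.mem_ker_iff.2 ⟨1, one_mem _, k, hk, (one_mul k).symm⟩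

/-- A 2-element of the kernel lies in `A`. -/
theorem mem_A_of_ker {n : D.N} (h : D.π n = 1) {k : ℕ} (hn : (n : G) ^ 2 ^ k = 1) :
    (n : G) ∈ D.A := by
  obtain ⟨a, ha, o, ho, e⟩ := D.mem_ker_iff.1 h
  rw [e, (D.commute_K ha ho).mul_pow] at hn
  have h1 : o ^ 2 ^ k ∈ D.A ⊓ D.K := by
    refine mem_inf.2 ⟨?_, pow_mem ho _⟩
    rw [← inv_eq_of_mul_eq_one_right hn]
    exact inv_mem (pow_mem ha _)
  rw [D.inf_K, mem_bot] at h1
  rw [e, eq_one_of_odd_pow_two h1 (D.odd_of_mem_K ho), mul_one]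
  exact ha

/-- An element of odd order in the kernel lies in the core. -/
theorem mem_K_of_ker {n : D.N} (h : D.π n = 1) (hn : Odd (orderOf (n : G))) : (n : G) ∈ D.K := by
  obtain ⟨a, ha, o, ho, e⟩ := D.mem_ker_iff.1 h
  have h1 := pow_orderOf_eq_one (n : G)
  conv_lhs at h1 => arg 1; rw [e]
  rw [(D.commute_K ha ho).mul_pow] at h1
  have ha2 : a ^ orderOf (n : G) = a := by
    obtain ⟨m, hm⟩ := hn
    rw [hm, pow_succ, pow_mul, D.el.2 a ha, one_pow, one_mul]
  rw [ha2] at h1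
  have : a ∈ D.A ⊓ D.K := mem_inf.2 ⟨ha, by rw [eq_inv_of_mul_eq_one_left h1]; exact inv_mem (pow_mem ho _)⟩
  rw [D.inf_K, mem_bot] at this
  rw [e, this, one_mul]
  exact ho

theorem card_ker : Nat.card D.π.ker = 16 * Nat.card D.K := by
  let f : D.A × D.K → D.π.ker := fun p =>
    ⟨⟨(p.1 : G) * p.2, mul_mem (D.A_le_N p.1.2) (D.K_le p.2.2)⟩,
      D.mem_ker_iff.2 ⟨_, p.1.2, _, p.2.2, rfl⟩⟩
  have hbij : Function.Bijective f := by
    constructor
    · rintro ⟨a, k⟩ ⟨a', k'⟩ he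
      have e : (a : G) * k = a' * k' := congrArg (fun x : D.π.ker => ((x : D.N) : G)) he
      have e1 : (a' : G)⁻¹ * a = k' * (k : G)⁻¹ := by
        rw [inv_mul_eq_iff_eq_mul, ← mul_assoc, ← e, mul_inv_cancel_right]
      have h1 : (a' : G)⁻¹ * a ∈ D.A ⊓ D.K :=
        mem_inf.2 ⟨mul_mem (inv_mem a'.2) a.2, e1 ▸ mul_mem k'.2 (inv_mem k.2)⟩
      rw [D.inf_K, mem_bot] at h1
      rw [h1, eq_comm, mul_inv_eq_one] at e1
      rw [inv_mul_eq_one] at h1
      exact Prod.ext (Subtype.ext h1.symm) (Subtype.ext e1.symm)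
    · rintro ⟨n, hn⟩
      obtain ⟨a, ha, k, hk, e⟩ := D.mem_ker_iff.1 hn
      exact ⟨⟨⟨a, ha⟩, ⟨k, hk⟩⟩, Subtype.ext (Subtype.ext e.symm)⟩
  rw [← Nat.card_congr (Equiv.ofBijective f hbij), Nat.card_prod, D.card]

theorem card_N : ∃ m, Odd m ∧ Nat.card D.N = 2 ^ 6 * m := by
  refine ⟨15 * Nat.card D.K, (show Odd 15 by decide).mul (Nat.coprime_two_right.1 D.K_card), ?_⟩
  rw [← Subgroup.index_mul_card D.π.ker, Subgroup.index_ker, MonoidHom.range_eq_top.2 D.surj,
    Subgroup.card_top, card_A5, D.card_ker]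
  ring

theorem exists_sylow : ∃ S : Sylow 2 G, (S : Subgroup G) ≤ D.N := by
  haveI : Fact (Nat.Prime 2) := ⟨Nat.prime_two⟩
  obtain ⟨P⟩ : Nonempty (Sylow 2 D.N) := inferInstance
  have hP : Nat.card (P : Subgroup D.N) = 64 := by
    obtain ⟨m, hm, hN⟩ := D.card_N
    rw [P.card_eq_multiplicity, hN, Nat.factorization_mul (by norm_num) (Nat.ne_of_odd_add hm),
      Finsupp.add_apply, Nat.prime_two.factorization_pow, Finsupp.single_eq_same,
      Nat.factorization_eq_zero_of_not_dvd (fun h => (Nat.not_even_iff_odd.2 hm) (even_iff_two_dvd.2 h))]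
    norm_num
  have hc : Nat.card ((P : Subgroup D.N).map D.N.subtype) = 64 := by
    rw [← hP, Nat.card_congr (equivMapOfInjective _ _ D.N.subtype_injective).toEquiv]
  obtain ⟨S, hS⟩ := (IsPGroup.of_card (p := 2) (n := 6) (by rw [hc]; norm_num)).exists_le_sylow
  refine ⟨S, ?_⟩
  rw [← Subgroup.eq_of_le_of_card_ge hS (by rw [hc, (D.syl S).1])]
  exact map_subtype_le _

theorem A_le_of_sylow {S : Sylow 2 G} (hS : (S : Subgroup G) ≤ D.N) : D.A ≤ (S : Subgroup G) := by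
  have h := IsPGroup.to_sup_of_normal_left' D.isPGroup_A S.2 hS
  exact le_sup_left.trans (S.3 h le_sup_right).le

/-- Conjugation of the normaliser on `A`. -/
def conjA : ↥D.N →* MulAut D.A := D.A.normalizerMonoidHom

theorem conjA_apply (n : D.N) (a : D.A) : ((D.conjA n a : D.A) : G) = n * a * (n : G)⁻¹ := rfl

theorem conjA_ker : D.π.ker ≤ D.conjA.ker := by
  intro n hn
  obtain ⟨a, ha, k, hk, e⟩ := D.mem_ker_iff.1 (MonoidHom.mem_ker.1 hn)
  refine MonoidHom.mem_ker.2 (MulEquiv.ext fun b => Subtype.ext ?_)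
  rw [D.conjA_apply, MulAut.one_apply, e,
    show a * k * b * (a * k)⁻¹ = a * (k * b * k⁻¹) * a⁻¹ by group,
    ← (D.commute_K b.2 hk).eq, mul_inv_cancel_right, D.comm ha b.2, mul_inv_cancel_right]

/-- The induced action of `A5` on `A`. -/
noncomputable def Φ : A5 →* MulAut D.A :=
  D.π.liftOfRightInverse _ (Function.rightInverse_surjInv D.surj) ⟨D.conjA, D.conjA_ker⟩

theorem Φ_π (n : D.N) : D.Φ (D.π n) = D.conjA n :=
  D.π.liftOfRightInverse_comp_apply _ _ _ n

theorem Φ_coe (n : D.N) (a : D.A) : ((D.Φ (D.π n) a : D.A) : G) = n * a * (n : G)⁻¹ := by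
  rw [D.Φ_π, D.conjA_apply]

theorem Φ_ne_one : D.Φ ≠ 1 := by
  intro h1
  classical
  obtain ⟨S, hS⟩ := D.exists_sylow
  haveI : Fact (Nat.Prime 2) := ⟨Nat.prime_two⟩
  have hfix : ∀ n ∈ D.N, ∀ a ∈ D.A, n * a * n⁻¹ = a := fun n hn a ha => by
    rw [← D.Φ_coe ⟨n, hn⟩ ⟨a, ha⟩, h1]; simp
  have hAS := D.A_le_of_sylow hS
  set Z : Subgroup G := (S : Subgroup G) ⊓ centralizer ((S : Subgroup G) : Set G) with hZ
  have hAc : D.A ≤ centralizer ((S : Subgroup G) : Set G) := fun a ha => mem_centralizer_iff.2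
    fun s hs => mul_inv_eq_iff_eq_mul.1 (hfix s (hS hs) a ha)
  have hZA : Z = D.A := by
    refine (Subgroup.eq_of_le_of_card_ge (le_inf hAS hAc) ?_).symm
    by_contra hlt
    push Not at hlt
    rw [D.card] at hlt
    refine (D.syl S).2 ⟨⟨fun a b => ?_⟩⟩
    have hcard := Subgroup.card_mul_index (Subgroup.center ↥(S : Subgroup G))
    have hc : Nat.card (Subgroup.center ↥(S : Subgroup G)) = Nat.card Z := by
      refine Nat.card_congr ⟨fun x => ⟨(x : ↥(S : Subgroup G)), mem_inf.2 ⟨x.1.2, mem_centralizer_iff.2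
        fun s hs => congrArg Subtype.val (mem_center_iff.1 x.2 ⟨s, hs⟩)⟩⟩,
        fun x => ⟨⟨x.1, (mem_inf.1 x.2).1⟩, mem_center_iff.2 fun s =>
          Subtype.ext (mem_centralizer_iff.1 (mem_inf.1 x.2).2 s s.2)⟩,
        fun x => rfl, fun x => rfl⟩
    have hdvd : Nat.card (Subgroup.center ↥(S : Subgroup G)) ∣ 2 ^ 6 :=
      ⟨_, by rw [hcard, (D.syl S).1]; norm_num⟩
    obtain ⟨j, hj, hj'⟩ := (Nat.dvd_prime_pow Nat.prime_two).1 hdvd
    rw [hc] at hj'
    rw [hc, hj', (D.syl S).1] at hcard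
    rw [hj'] at hlt
    have hidx : (Subgroup.center ↥(S : Subgroup G)).index ≤ 2 := by
      have : 5 ≤ j := by
        by_contra hh
        have : 2 ^ j ≤ 2 ^ 4 := Nat.pow_le_pow_right (by norm_num) (by omega)
        omega
      interval_cases j <;> omega
    haveI : IsCyclic (↥(S : Subgroup G) ⧸ Subgroup.center ↥(S : Subgroup G)) := by
      rcases Nat.lt_or_ge (Subgroup.center ↥(S : Subgroup G)).index 2 with h | h
      · haveI : Subsingleton (↥(S : Subgroup G) ⧸ Subgroup.center ↥(S : Subgroup G)) :=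
          Finite.card_le_one_iff_subsingleton.1 (by rw [← Subgroup.index_eq_card]; omega)
        infer_instance
      · exact isCyclic_of_prime_card (p := 2) (by rw [← Subgroup.index_eq_card]; omega)
    exact ((QuotientGroup.mk' (Subgroup.center ↥(S : Subgroup G))).isMulCommutative_of_isCyclic_of_ker_le_center
      (by rw [QuotientGroup.ker_mk'])).is_comm.comm a b
  -- elements of `A` are pairwise non-conjugate
  have hinj : Function.Injective fun a : {a : G // a ∈ D.A ∧ a ≠ 1} =>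
      (⟨ConjClasses.mk (a : G), a, ConjClasses.mem_carrier_mk, D.orderOf_two a.2.1 a.2.2⟩ :
        {c : ConjClasses G // ∃ x ∈ c.carrier, orderOf x = 2}) := by
    intro a b hab
    obtain ⟨g, hg⟩ := isConj_iff.1 (ConjClasses.mk_eq_mk_iff_isConj.1 (congrArg Subtype.val hab))
    obtain ⟨n, hn, hnab⟩ := H5.burnside_fusion_elem S (hAc a.2.1) (hAc b.2.1) hg
    have hnN : n ∈ D.N := by
      have hnS : ∀ x, x ∈ (S : Subgroup G) ↔ n * x * n⁻¹ ∈ (S : Subgroup G) :=
        fun x => mem_normalizer_iff.1 hn x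
      refine mem_normalizer_iff.2 fun x => ?_
      rw [← hZA, hZ, mem_inf, mem_inf, ← hnS, mem_centralizer_iff, mem_centralizer_iff]
      refine and_congr_right fun _ => ⟨fun h s hs => ?_, fun h s hs => ?_⟩
      · have h2 := h (n⁻¹ * s * n) ((hnS _).2 (by
          rw [show n * (n⁻¹ * s * n) * n⁻¹ = s by group]; exact hs))
        calc s * (n * x * n⁻¹) = n * (n⁻¹ * s * n * x) * n⁻¹ := by group
          _ = n * (x * (n⁻¹ * s * n)) * n⁻¹ := by rw [h2]
          _ = n * x * n⁻¹ * s := by group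
      · have h2 := h (n * s * n⁻¹) ((hnS s).1 hs)
        calc s * x = n⁻¹ * (n * s * n⁻¹ * (n * x * n⁻¹)) * n := by group
          _ = n⁻¹ * (n * x * n⁻¹ * (n * s * n⁻¹)) * n := by rw [h2]
          _ = x * s := by group
    exact Subtype.ext ((hfix n hnN a a.2.1).symm.trans hnab)
  have h15 := Nat.card_le_card_of_injective _ hinj
  rw [D.three] at h15
  have : Nat.card {a : G // a ∈ D.A ∧ a ≠ 1} = 15 := by
    have e : {a : G | a ∈ D.A ∧ a ≠ 1} = (D.A : Set G) \ {1} := rfl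
    have h2 : ({a : G | a ∈ D.A ∧ a ≠ 1}).ncard = 15 := by
      rw [e, Set.ncard_diff_singleton_of_mem D.A.one_mem, ← Nat.card_coe_set_eq]
      show Nat.card D.A - 1 = 15
      rw [D.card]
    rwa [← Nat.card_coe_set_eq] at h2
  omega

theorem Φ_inj : Function.Injective D.Φ := by
  rw [← MonoidHom.ker_eq_bot_iff]
  refine (D.Φ.normal_ker.eq_bot_or_eq_top).resolve_right fun h => D.Φ_ne_one ?_
  exact MonoidHom.ext fun x => MonoidHom.mem_ker.1 (h ▸ mem_top x : x ∈ D.Φ.ker)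

theorem exists_lift (x : A5) : ∃ n : D.N, D.π n = x := D.surj x

/-- Fixed subgroups have order four (transitivity not yet excluded). -/
theorem act0 : Act0 D.Φ :=
  ⟨D.card, fun a => Subtype.ext (D.sq_one a.2), D.Φ_inj⟩

end Data

end H8.E16
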