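import Cfsg.Agent.H8.E16.Three
import Cfsg.Agent.H8.E16.Setup

/-!
Four-subgroups given by two commuting involutions, and index two (helper8).
-/

set_option autoImplicit false
set_option linter.style.haveILetI false
set_option linter.unusedSectionVars false

namespace H8.E16

open Subgroup

variable {Y : Type*} [Group Y]

/-- The subgroup `{1, b, c, bc}`. -/
def klein (b c : Y) (hb : b * b = 1) (hc : c * c = 1) (h : b * c = c * b) : Subgroup Y where
  carrier := {x | x = 1 ∨ x = b ∨ x = c ∨ x = b * c}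
  one_mem' := Or.inl rfl
  inv_mem' := by
    have hbi : b⁻¹ = b := inv_eq_of_mul_eq_one_right hb
    have hci : c⁻¹ = c := inv_eq_of_mul_eq_one_right hc
    rintro x (rfl | rfl | rfl | rfl)
    · exact Or.inl inv_one
    · exact Or.inr (Or.inl hbi)
    · exact Or.inr (Or.inr (Or.inl hci))
    · exact Or.inr (Or.inr (Or.inr (by rw [mul_inv_rev, hbi, hci, h])))
  mul_mem' := by
    have hbbc : b * (b * c) = c := by rw [← mul_assoc, hb, one_mul]
    have hcb : c * b = b * c := h.symm
    have hbcb : b * c * b = c := by rw [mul_assoc, hcb, hbbc]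
    have hbcc : b * c * c = b := by rw [mul_assoc, hc, mul_one]
    have hcbc : c * (b * c) = b := by rw [← mul_assoc, hcb, hbcc]
    have hbcbc : b * c * (b * c) = 1 := by rw [← mul_assoc, hbcb, hc]
    rintro x y (rfl | rfl | rfl | rfl) (rfl | rfl | rfl | rfl)
    all_goals simp only [Set.mem_setOf_eq, one_mul, mul_one, hb, hc, hbbc, hbcb, hbcc, hcbc, hbcbc, hcb,
      true_or, or_true]

theorem mem_klein {b c : Y} {hb : b * b = 1} {hc : c * c = 1} {h : b * c = c * b} {x : Y} :
    x ∈ klein b c hb hc h ↔ x = 1 ∨ x = b ∨ x = c ∨ x = b * c := Iff.rfl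

theorem klein_comm {b c : Y} {hb : b * b = 1} {hc : c * c = 1} {h : b * c = c * b} {x y : Y}
    (hx : x ∈ klein b c hb hc h) (hy : y ∈ klein b c hb hc h) : x * y = y * x := by
  have hxx : Commute x b ∧ Commute x c := by
    rcases mem_klein.1 hx with e | e | e | e <;> rw [e]
    · exact ⟨Commute.one_left _, Commute.one_left _⟩
    · exact ⟨Commute.refl _, h⟩
    · exact ⟨Commute.symm h, Commute.refl _⟩
    · exact ⟨(Commute.refl b).mul_left (Commute.symm h), Commute.mul_left h (Commute.refl c)⟩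
  rcases mem_klein.1 hy with e | e | e | e <;> rw [e]
  · rw [mul_one, one_mul]
  · exact hxx.1
  · exact hxx.2
  · exact hxx.1.mul_right hxx.2

theorem ncard_four {α : Type*} {a b c d : α} (hab : a ≠ b) (hac : a ≠ c) (had : a ≠ d) (hbc : b ≠ c)
    (hbd : b ≠ d) (hcd : c ≠ d) : ({a, b, c, d} : Set α).ncard = 4 := by
  rw [Set.ncard_insert_of_notMem (by simp [hab, hac, had]) (Set.toFinite _),
    Set.ncard_insert_of_notMem (by simp [hbc, hbd]) (Set.toFinite _), Set.ncard_pair hcd]

theorem mem_inf_left_iff {P M : Subgroup Y} {x : Y} (hx : x ∈ P) : x ∈ P ⊓ M ↔ x ∈ M :=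
  ⟨fun h => h.2, fun h => ⟨hx, h⟩⟩

/-- A subgroup of index two contains every element of odd order. -/
theorem mem_of_index_two_of_odd {M : Subgroup Y} (hM : M.index = 2) {x : Y}
    (hx : Odd (orderOf x)) : x ∈ M := by
  obtain ⟨j, hj⟩ := hx
  have h1 : x ^ (2 * (j + 1)) = x := by
    rw [show 2 * (j + 1) = orderOf x + 1 by omega, pow_succ, pow_orderOf_eq_one, one_mul]
  rw [← h1, pow_mul]
  exact pow_mem (Subgroup.sq_mem_of_index_two hM x) _

end H8.E16
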