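import Cfsg.Agent.H6.Transfer
import Cfsg.Agent.H8.E16.Klein

/-!
The centralizer of a central involution modulo the involution and the core: a group with trivial odd
core and a Sylow 2-subgroup of order 32 in which the image of `A` is normal (helper8).
-/

set_option autoImplicit false
set_option linter.style.haveILetI false
set_option linter.unusedSectionVars false

namespace H8.E16

open Subgroup

/-- The hypotheses. -/
structure QData (Y : Type*) [Group Y] where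
  T : Sylow 2 Y
  Ab : Subgroup Y
  Vb : Subgroup Y
  a : Y
  r : Y
  u : Y
  core : Cfsg.pPrimeCore 2 Y = ⊥
  hVA : Vb ≤ Ab
  hAT : Ab ≤ (T : Subgroup Y)
  cardT : Nat.card (T : Subgroup Y) = 32
  cardV : Nat.card Vb = 4
  ha : a ∈ Ab
  haV : a ∉ Vb
  ha2 : a * a = 1
  hA : ∀ x ∈ Ab, x ∈ Vb ∨ x * a ∈ Vb
  hVc : ∀ v ∈ Vb, ∀ t ∈ (T : Subgroup Y), v * t = t * v
  hVsc : ∀ x ∈ Vb, ∀ g : Y, g * x * g⁻¹ ∈ (T : Subgroup Y) → g * x * g⁻¹ ∈ Vb
  hAsc : ∀ x ∈ Ab, ∀ g : Y, g * x * g⁻¹ ∈ (T : Subgroup Y) → g * x * g⁻¹ ∈ Ab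
  hCa : ∀ t ∈ (T : Subgroup Y), t * a = a * t → t ∈ Ab
  hsq : ∀ t ∈ (T : Subgroup Y), t * t ∈ Vb
  hra : r * a = a * r
  hrodd : Odd (orderOf r)
  hrT : ∀ t ∈ (T : Subgroup Y), r * t * r⁻¹ ∈ (T : Subgroup Y)
  hr3 : ∀ t ∈ (T : Subgroup Y), r ^ 3 * t = t * r ^ 3
  hrfpf : ∀ t ∈ (T : Subgroup Y), r * t * r⁻¹ * t⁻¹ ∈ Ab → t ∈ Ab
  hrV : ∀ v ∈ Vb, r * v * r⁻¹ = v → v = 1
  hu : u ∈ (T : Subgroup Y)
  hw : u * (r * u * r⁻¹) * (u * (r * u * r⁻¹)) = 1
  hwA : u * (r * u * r⁻¹) ∉ Ab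

namespace QData

variable {Y : Type*} [Group Y] [Finite Y] (D : QData Y)

theorem aT : D.a ∈ (D.T : Subgroup Y) := D.hAT D.ha

theorem VT : D.Vb ≤ (D.T : Subgroup Y) := D.hVA.trans D.hAT

theorem comm_mem {x y : Y} (hx : x ∈ (D.T : Subgroup Y)) (hy : y ∈ (D.T : Subgroup Y)) :
    x * y * x⁻¹ * y⁻¹ ∈ D.Vb := by
  have h : x * y * x⁻¹ * y⁻¹ = (x * x) * ((x⁻¹ * y) * (x⁻¹ * y)) * (y * y)⁻¹ := by group
  rw [h]
  exact mul_mem (mul_mem (D.hsq x hx) (D.hsq _ (mul_mem (inv_mem hx) hy))) (inv_mem (D.hsq y hy))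

theorem r_conj_pow_mem {t : Y} (ht : t ∈ (D.T : Subgroup Y)) (i : ℕ) :
    D.r ^ i * t * (D.r ^ i)⁻¹ ∈ (D.T : Subgroup Y) := by
  induction i with
  | zero => simpa using ht
  | succ i ih =>
    have h := D.hrT _ ih
    rwa [show D.r * (D.r ^ i * t * (D.r ^ i)⁻¹) * D.r⁻¹ = D.r ^ (i + 1) * t * (D.r ^ (i + 1))⁻¹ by
      rw [pow_succ', mul_inv_rev]; group] at h

theorem r_three {t : Y} (ht : t ∈ (D.T : Subgroup Y)) :
    D.r * (D.r * (D.r * t * D.r⁻¹) * D.r⁻¹) * D.r⁻¹ = t := by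
  calc D.r * (D.r * (D.r * t * D.r⁻¹) * D.r⁻¹) * D.r⁻¹ = D.r ^ 3 * t * (D.r ^ 3)⁻¹ := by
        simp only [pow_succ, pow_zero, one_mul]; group
    _ = t := by rw [D.hr3 t ht, mul_inv_cancel_right]

theorem rV {v : Y} (hv : v ∈ D.Vb) : D.r * v * D.r⁻¹ ∈ D.Vb :=
  D.hVsc v hv D.r (D.hrT v (D.VT hv))

/-- A subgroup of index two in the whole group avoiding `a`. -/
theorem exists_index_two : ∃ M : Subgroup Y, M.Normal ∧ M.index = 2 ∧ D.a ∉ M := by
  classical
  set T : Subgroup Y := (D.T : Subgroup Y)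
  obtain ⟨Q, hVQ, hQmax⟩ := Finite.exists_le_maximal
    (p := fun K : Subgroup Y => D.Vb ≤ K ∧ K ≤ T ∧ D.a ∉ K) (a := D.Vb) ⟨le_rfl, D.VT, D.haV⟩
  obtain ⟨hVQ', hQT, haQ⟩ := hQmax.1
  have hQn : T ≤ normalizer (Q : Set Y) := by
    have key : ∀ t ∈ T, ∀ q ∈ Q, t * q * t⁻¹ ∈ Q := fun t ht q hq => by
      rw [show t * q * t⁻¹ = (t * q * t⁻¹ * q⁻¹) * q by group]
      exact mul_mem (hVQ (D.comm_mem ht (hQT hq))) hq
    intro t ht
    refine mem_normalizer_iff.2 fun q => ⟨key t ht q, fun hq => ?_⟩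
    simpa [mul_assoc] using key t⁻¹ (inv_mem ht) _ hq
  have hidx : (Q.subgroupOf T).index = 2 := by
    refine Subgroup.index_eq_two_iff.2 ⟨⟨D.a, D.aT⟩, fun t => ?_⟩
    by_cases ht : (t : Y) ∈ Q
    · refine Or.inr ⟨ht, fun h => haQ ?_⟩
      have h' : (t : Y) * D.a ∈ Q := h
      have := mul_mem (inv_mem ht) h'
      rwa [inv_mul_cancel_left] at this
    · refine Or.inl ⟨?_, ht⟩
      show (t : Y) * D.a ∈ Q
      have hnK : zpowers (t : Y) ≤ normalizer (Q : Set Y) := zpowers_le.2 (hQn t.2)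
      have haK : D.a ∈ Q ⊔ zpowers (t : Y) := by
        by_contra h
        have := hQmax.2 (y := Q ⊔ zpowers (t : Y))
          ⟨hVQ'.trans le_sup_left, sup_le hQT (zpowers_le.2 t.2), h⟩ le_sup_left
        exact ht (this (mem_sup_right (mem_zpowers _)))
      rw [← SetLike.mem_coe, coe_mul_of_right_le_normalizer_left _ _ hnK] at haK
      obtain ⟨q, hq, s, ⟨i, rfl⟩, he⟩ := haK
      have ht2 : (t : Y) ^ (2 : ℤ) ∈ Q := by
        rw [zpow_two]; exact hVQ' (D.hsq _ t.2)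
      rcases Int.even_or_odd i with ⟨j, hj⟩ | ⟨j, hj⟩
      · refine absurd ?_ haQ
        rw [← he]
        refine mul_mem hq ?_
        show (t : Y) ^ i ∈ Q
        rw [hj, ← two_mul, zpow_mul]
        exact zpow_mem ht2 j
      · have he' : D.a = q * ((t : Y) ^ (2 : ℤ)) ^ j * t := by
          rw [← he, mul_assoc, ← zpow_mul]
          show q * (t : Y) ^ i = _
          rw [hj, zpow_add_one]
        set q' := q * ((t : Y) ^ (2 : ℤ)) ^ j with hq'
        have htq : (t : Y) = q'⁻¹ * D.a := by rw [he', inv_mul_cancel_left]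
        rw [htq, mul_assoc, D.ha2, mul_one]
        exact inv_mem (mul_mem hq (zpow_mem ht2 j))
  rcases H6.thompson_transfer D.T Q hQT hidx D.a (orderOf_eq_prime (by rw [pow_two, D.ha2])
    (fun e => D.haV (e ▸ one_mem _))) with h | ⟨g, hg⟩
  · exact h
  · exfalso
    have hA := D.hAsc D.a D.ha g (hQT hg)
    rcases D.hA _ hA with hv | hv
    · have := D.hVsc _ hv g⁻¹ (by
        rw [show g⁻¹ * (g * D.a * g⁻¹) * g⁻¹⁻¹ = D.a by group]; exact D.aT)
      rw [show g⁻¹ * (g * D.a * g⁻¹) * g⁻¹⁻¹ = D.a by group] at this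
      exact D.haV this
    · have := mul_mem (inv_mem hg) (hVQ hv)
      rw [inv_mul_cancel_left] at this
      exact haQ this

/-- The image of `A` is normal. -/
theorem normal_Ab : ∀ y : Y, ∀ x ∈ D.Ab, y * x * y⁻¹ ∈ D.Ab := by
  classical
  haveI : Fact (Nat.Prime 2) := ⟨Nat.prime_two⟩
  obtain ⟨M, hMn, hMi, haM⟩ := D.exists_index_two
  haveI := hMn
  set T : Subgroup Y := (D.T : Subgroup Y) with hTdef
  set V := D.Vb with hVdef
  set a := D.a with hadef
  set r := D.r with hrdef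
  have hai : a⁻¹ = a := inv_eq_of_mul_eq_one_right D.ha2
  have hrM : r ∈ M := mem_of_index_two_of_odd hMi D.hrodd
  have hpar : ∀ y, y ∈ M ∨ y * a ∈ M := fun y => by
    by_cases h : y ∈ M
    · exact Or.inl h
    · exact Or.inr ((Subgroup.mul_mem_iff_of_index_two hMi).2 (by simp [h, haM]))
  have hVcomm : ∀ v ∈ V, ∀ v' ∈ V, v * v' = v' * v := fun v hv v' hv' => D.hVc v hv v' (D.VT hv')
  have hVM : V ≤ M := by
    let f : V → V := fun v => ⟨r * v * r⁻¹ * (v : Y)⁻¹, mul_mem (D.rV v.2) (inv_mem v.2)⟩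
    have hf : Function.Injective f := by
      intro v v' he
      have h := congrArg Subtype.val he
      simp only [f] at h
      have h1 : r * ((v' : Y)⁻¹ * v) * r⁻¹ = (v' : Y)⁻¹ * v := by
        calc r * ((v' : Y)⁻¹ * v) * r⁻¹ = (r * v' * r⁻¹)⁻¹ * (r * v * r⁻¹ * (v : Y)⁻¹) * v := by group
          _ = (r * v' * r⁻¹)⁻¹ * (r * v' * r⁻¹ * (v' : Y)⁻¹) * v := by rw [h]
          _ = (v' : Y)⁻¹ * v := by group
      have h2 := D.hrV _ (mul_mem (inv_mem v'.2) v.2) h1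
      exact Subtype.ext (inv_mul_eq_one.1 h2).symm
    intro v hv
    obtain ⟨v', hv'⟩ := (Finite.injective_iff_surjective.1 hf) ⟨v, hv⟩
    rw [← show r * v' * r⁻¹ * (v' : Y)⁻¹ = v from congrArg Subtype.val hv', show r * (v' : Y) * r⁻¹ *
      (v' : Y)⁻¹ = r * ((v' : Y) * r⁻¹ * (v' : Y)⁻¹) by group]
    exact mul_mem hrM (hMn.conj_mem _ (inv_mem hrM) _)
  set P : Subgroup Y := T ⊓ M with hPdef
  have hAM : ∀ x ∈ D.Ab, x ∈ M → x ∈ V := fun x hx hxM => by
    rcases D.hA x hx with h | h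
    · exact h
    · exact absurd (by simpa using mul_mem (inv_mem hxM) (hVM h)) haM
  have hrP : ∀ x ∈ P, r * x * r⁻¹ ∈ P := fun x hx =>
    mem_inf.2 ⟨D.hrT x (mem_inf.1 hx).1, hMn.conj_mem x (mem_inf.1 hx).2 r⟩
  have hPT : P ≤ T := inf_le_left
  have hVP : V ≤ P := le_inf D.VT hVM
  -- the order of `P`
  have hPidx : (M.subgroupOf T).index = 2 := by
    refine Subgroup.index_eq_two_iff.2 ⟨⟨a, D.aT⟩, fun t => ?_⟩
    by_cases ht : (t : Y) ∈ M
    · refine Or.inr ⟨ht, fun h => haM ?_⟩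
      have h' : (t : Y) * a ∈ M := h
      simpa using mul_mem (inv_mem ht) h'
    · exact Or.inl ⟨(hpar t).resolve_left ht, ht⟩
  have hPcard : Nat.card P = 16 := by
    have h := Subgroup.card_mul_index (M.subgroupOf T)
    rw [hPidx, D.cardT] at h
    have e : Nat.card P = Nat.card (M.subgroupOf T) := by
      rw [← Nat.card_congr (subgroupOfEquivOfLe hPT).toEquiv, hPdef, Subgroup.inf_subgroupOf_left]
    omega
  have hP2 : IsPGroup 2 P := IsPGroup.of_card (n := 4) (by rw [hPcard]; norm_num)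
  -- key lemma on involutions of `P` outside `V`
  have hkey : ∀ x ∈ P, x ∉ V → x * x = 1 →
      r * (r * x * r⁻¹) * r⁻¹ = r * x * r⁻¹ * x ∧ x * (r * x * r⁻¹) = r * x * r⁻¹ * x := by
    intro x hx hxV hx2
    set x1 := r * x * r⁻¹ with hx1
    set x2 := r * x1 * r⁻¹ with hx2def
    have h1P := hrP x hx
    have h2P := hrP x1 h1P
    set c := x * x1 * x2 with hc
    have hcP : c ∈ P := mul_mem (mul_mem hx h1P) h2P
    have hrc : r * c * r⁻¹ = x⁻¹ * c * x := by
      rw [hc]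
      calc r * (x * x1 * x2) * r⁻¹ = r * x * r⁻¹ * (r * x1 * r⁻¹) * (r * x2 * r⁻¹) := by group
        _ = x1 * x2 * x := by rw [← hx1, ← hx2def, hx2def, hx1, D.r_three (hPT hx)]
        _ = x⁻¹ * (x * x1 * x2) * x := by group
    have hcA : c ∈ D.Ab := by
      refine D.hrfpf c (hPT hcP) (D.hVA ?_)
      rw [hrc]
      have := D.comm_mem (inv_mem (hPT hx)) (hPT hcP)
      rwa [inv_inv] at this
    have hcV := hAM c hcA (mem_inf.1 hcP).2
    have hc1 : c = 1 := D.hrV c hcV (by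
      rw [hrc, mul_assoc, D.hVc c hcV x (hPT hx), inv_mul_cancel_left])
    have hxi : x⁻¹ = x := inv_eq_of_mul_eq_one_right hx2
    have h11 : x1 * x1 = 1 := by
      rw [hx1, show r * x * r⁻¹ * (r * x * r⁻¹) = r * (x * x) * r⁻¹ by group, hx2, mul_one,
        mul_inv_cancel]
    have hx1i : x1⁻¹ = x1 := inv_eq_of_mul_eq_one_right h11
    have e2 : x2 = x1 * x := by
      calc x2 = x1⁻¹ * x⁻¹ * (x * x1 * x2) := by group
        _ = x1 * x := by rw [← hc, hc1, mul_one, hxi, hx1i]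
    refine ⟨e2, ?_⟩
    have e3 : x2 * x1 = x := by
      have := D.r_three (hPT hx)
      rw [← hx1, ← hx2def, e2, show r * (x1 * x) * r⁻¹ = r * x1 * r⁻¹ * (r * x * r⁻¹) by group,
        ← hx1, ← hx2def] at this
      exact this
    rw [e2] at e3
    calc x * x1 = x1 * x * x1 * x1 := by rw [e3]
      _ = x1 * x := by rw [mul_assoc, h11, mul_one]
  -- the involution
  set b := D.u * (r * D.u * r⁻¹) with hb
  have hbP : b ∈ P := by
    refine mem_inf.2 ⟨mul_mem D.hu (D.hrT _ D.hu), (Subgroup.mul_mem_iff_of_index_two hMi).2 ?_⟩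
    exact ⟨fun h => hMn.conj_mem _ h r, fun h => by simpa [mul_assoc] using hMn.conj_mem _ h r⁻¹⟩
  have hbV : b ∉ V := fun h => D.hwA (D.hVA h)
  obtain ⟨hrb, hbc⟩ := hkey b hbP hbV D.hw
  have hsq1 : ∀ x, x * x = 1 → r * x * r⁻¹ * (r * x * r⁻¹) = 1 := fun x hx => by
    rw [show r * x * r⁻¹ * (r * x * r⁻¹) = r * (x * x) * r⁻¹ by group, hx, mul_one, mul_inv_cancel]
  set U := klein b (r * b * r⁻¹) D.hw (hsq1 b D.hw) hbc with hU
  have hUV : ∀ x, x ∉ V → r * x * r⁻¹ ∉ V := fun x hx h => hx (by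
    have h1 := D.rV (D.rV h)
    by_cases hxT : x ∈ T
    · rwa [D.r_three hxT] at h1
    · exfalso
      exact hxT (by
        have h2 := D.r_conj_pow_mem (D.VT h) (orderOf r - 1)
        have e : r ^ (orderOf r - 1) * r = 1 := by
          rw [← pow_succ, Nat.sub_add_cancel (orderOf_pos r), pow_orderOf_eq_one]
        rwa [eq_inv_of_mul_eq_one_left e, show r⁻¹ * (r * x * r⁻¹) * r⁻¹⁻¹ = x by group] at h2))
  have hinf : ∀ (x : Y) (hx : x * x = 1) (hc : x * (r * x * r⁻¹) = r * x * r⁻¹ * x), x ∈ P → x ∉ V →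
      ∀ y ∈ klein x (r * x * r⁻¹) hx (hsq1 x hx) hc, y ∈ V → y = 1 := by
    intro x hx hc hxP hxV y hy hyV
    rcases mem_klein.1 hy with rfl | rfl | rfl | rfl
    · rfl
    · exact absurd hyV hxV
    · exact absurd hyV (hUV x hxV)
    · exfalso
      refine hxV (hAM x (D.hrfpf x (hPT hxP) (D.hVA ?_)) (mem_inf.1 hxP).2)
      rwa [inv_eq_of_mul_eq_one_right hx, ← hc]
  have hUP : U ≤ P := by
    rintro y (rfl | rfl | rfl | rfl)
    · exact one_mem _
    · exact hbP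
    · exact hrP b hbP
    · exact mul_mem hbP (hrP b hbP)
  have hUcard : Nat.card U = 4 := by
    have hne1 : b ≠ 1 := fun e => hbV (e ▸ one_mem _)
    have hne2 : r * b * r⁻¹ ≠ 1 := fun e => hUV b hbV (e ▸ one_mem _)
    have hne3 : b ≠ r * b * r⁻¹ := fun e => by
      refine hbV (hAM b (D.hrfpf b (hPT hbP) ?_) (mem_inf.1 hbP).2)
      rw [← e, mul_inv_cancel]
      exact one_mem _
    have hne4 : b * (r * b * r⁻¹) ≠ 1 := fun e => hne3 (by
      calc b = b * (b * (r * b * r⁻¹)) := by rw [e, mul_one]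
        _ = r * b * r⁻¹ := by rw [← mul_assoc, D.hw, one_mul])
    have e : (U : Set Y) = {1, b, r * b * r⁻¹, b * (r * b * r⁻¹)} := by
      ext y
      simp only [Set.mem_insert_iff, Set.mem_singleton_iff]
      exact mem_klein
    have h4 : ({1, b, r * b * r⁻¹, b * (r * b * r⁻¹)} : Set Y).ncard = 4 := by
      rw [Set.ncard_insert_of_notMem (by simp [hne1.symm, hne2.symm, hne4.symm]) (Set.toFinite _),
        Set.ncard_insert_of_notMem (by
          simp only [Set.mem_insert_iff, Set.mem_singleton_iff, not_or]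
          exact ⟨hne3, fun e => hne2 (mul_eq_left.1 e.symm)⟩) (Set.toFinite _),
        Set.ncard_pair (fun e => hne1 (mul_eq_right.1 e.symm))]
    rw [← SetLike.coe_sort_coe, Nat.card_coe_set_eq, e, h4]
  have hPdec : ∀ x ∈ P, ∃ v ∈ V, ∃ y ∈ U, x = v * y := by
    let g : V × U → P := fun p => ⟨(p.1 : Y) * p.2, mul_mem (hVP p.1.2) (hUP p.2.2)⟩
    have hg : Function.Injective g := by
      rintro ⟨v, y⟩ ⟨v', y'⟩ he
      have h : (v : Y) * y = v' * y' := congrArg Subtype.val he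
      have h1 : (v' : Y)⁻¹ * v = y' * (y : Y)⁻¹ := by
        rw [inv_mul_eq_iff_eq_mul, ← mul_assoc, ← h, mul_inv_cancel_right]
      have h2 := hinf b D.hw hbc hbP hbV _ (mul_mem y'.2 (inv_mem y.2))
        (h1 ▸ mul_mem (inv_mem v'.2) v.2)
      rw [h2] at h1
      rw [inv_mul_eq_one] at h1
      rw [mul_inv_eq_one] at h2
      exact Prod.ext (Subtype.ext h1.symm) (Subtype.ext h2.symm)
    have hsurj := ((Nat.bijective_iff_injective_and_card g).2 ⟨hg, by
      rw [Nat.card_prod, D.cardV, hUcard, hPcard]⟩).2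
    intro x hx
    obtain ⟨⟨v, y⟩, he⟩ := hsurj ⟨x, hx⟩
    exact ⟨v, v.2, y, y.2, (congrArg Subtype.val he).symm⟩
  have hUcomm : ∀ y ∈ U, ∀ y' ∈ U, y * y' = y' * y := fun y hy y' hy' => klein_comm hy hy'
  have hPcomm : ∀ x ∈ P, ∀ x' ∈ P, x * x' = x' * x := by
    intro x hx x' hx'
    obtain ⟨v, hv, y, hy, rfl⟩ := hPdec x hx
    obtain ⟨v', hv', y', hy', rfl⟩ := hPdec x' hx'
    have e1 := D.hVc v' hv' y (hPT (hUP hy))
    have e2 := D.hVc v hv y' (hPT (hUP hy'))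
    calc v * y * (v' * y') = v * (y * v') * y' := by group
      _ = v * v' * (y * y') := by rw [← e1]; group
      _ = v' * v * (y' * y) := by rw [hVcomm v hv v' hv', hUcomm y hy y' hy']
      _ = v' * (v * y') * y := by group
      _ = v' * y' * (v * y) := by rw [e2]; group
  have hrV3 : ∀ v ∈ V, v ≠ 1 →
      r * v * r⁻¹ ≠ v ∧ r * (r * v * r⁻¹) * r⁻¹ ≠ v ∧
        r * (r * v * r⁻¹) * r⁻¹ ≠ r * v * r⁻¹ := by
    intro v hv hv1
    have h1 : r * v * r⁻¹ ≠ v := fun e => hv1 (D.hrV v hv e)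
    refine ⟨h1, fun e => h1 ?_, fun e => h1 (mul_left_cancel (mul_right_cancel e))⟩
    have h3 := D.r_three (D.VT hv)
    rwa [e] at h3
  have hVsq : ∀ v ∈ V, v * v = 1 := by
    intro v hv
    by_contra hne
    have hv1 : v ≠ 1 := fun e => hne (by rw [e, one_mul])
    have hd : orderOf v ∣ 4 := D.cardV ▸ Subgroup.orderOf_dvd_natCard _ hv
    -- a group of order four with a fixed-point-free map of order three has exponent two
    have hvv : v * v ∈ V := mul_mem hv hv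
    have h4 : v * v * (v * v) = 1 := by
      rw [← pow_two, ← pow_two, ← pow_mul]
      exact orderOf_dvd_iff_pow_eq_one.1 hd
    obtain ⟨hA, hB, hC⟩ := hrV3 v hv hv1
    have hset : ({1, v, r * v * r⁻¹, r * (r * v * r⁻¹) * r⁻¹} : Set Y) = (V : Set Y) := by
      refine Set.eq_of_subset_of_ncard_le ?_ ?_ (Set.toFinite _)
      · rintro y (rfl | rfl | rfl | rfl)
        · exact one_mem V
        · exact hv
        · exact D.rV hv
        · exact D.rV (D.rV hv)
      · rw [← Nat.card_coe_set_eq, show Nat.card (V : Set Y) = 4 from D.cardV,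
          ncard_four hv1.symm (fun e => hv1 (conj_eq_one_iff.1 e.symm))
            (fun e => hv1 (conj_eq_one_iff.1 (conj_eq_one_iff.1 e.symm))) hA.symm hB.symm hC.symm]
    have hmem : v * v ∈ ({1, v, r * v * r⁻¹, r * (r * v * r⁻¹) * r⁻¹} : Set Y) := hset ▸ hvv
    simp only [Set.mem_insert_iff, Set.mem_singleton_iff] at hmem
    rcases hmem with e | e | e | e
    · exact hne e
    · exact hv1 (mul_eq_left.1 e)
    · rw [e] at h4
      rw [show r * v * r⁻¹ * (r * v * r⁻¹) = r * (v * v) * r⁻¹ by group, conj_eq_one_iff] at h4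
      exact hne h4
    · rw [e] at h4
      rw [show r * (r * v * r⁻¹) * r⁻¹ * (r * (r * v * r⁻¹) * r⁻¹) = r * (r * (v * v) * r⁻¹) * r⁻¹ by
        group, conj_eq_one_iff, conj_eq_one_iff] at h4
      exact hne h4
  have hPsq : ∀ x ∈ P, x * x = 1 := by
    intro x hx
    obtain ⟨v, hv, y, hy, rfl⟩ := hPdec x hx
    have hy2 : y * y = 1 := by
      rcases mem_klein.1 hy with rfl | rfl | rfl | rfl
      · exact mul_one _
      · exact D.hw
      · exact hsq1 b D.hw
      · calc b * (r * b * r⁻¹) * (b * (r * b * r⁻¹)) = b * (r * b * r⁻¹ * b) * (r * b * r⁻¹) := by group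
          _ = (b * b) * (r * b * r⁻¹ * (r * b * r⁻¹)) := by rw [← hbc]; group
          _ = 1 := by rw [D.hw, hsq1 b D.hw, one_mul]
    calc v * y * (v * y) = v * (y * v) * y := by group
      _ = v * v * (y * y) := by rw [← D.hVc v hv y (hPT (hUP hy))]; group
      _ = 1 := by rw [hVsq v hv, hy2, one_mul]
  -- the group `M`
  set PM : Subgroup M := P.subgroupOf M with hPM
  have hPMcard : Nat.card PM = 16 := by
    rw [hPM, Nat.card_congr (subgroupOfEquivOfLe (inf_le_right : P ≤ M)).toEquiv, hPcard]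
  have hPMp : IsPGroup 2 PM := IsPGroup.of_card (n := 4) (by rw [hPMcard]; norm_num)
  have hPMnd : ¬ 2 ∣ PM.index := by
    have h1 := Subgroup.card_mul_index PM
    have h2 := Subgroup.card_mul_index M
    have h3 := Subgroup.card_mul_index T
    rw [hPMcard] at h1
    rw [hMi, ← h1] at h2
    rw [D.cardT] at h3
    have h4 : PM.index = T.index := by omega
    rw [h4]
    exact D.T.not_dvd_index
  set PS : Sylow 2 M := hPMp.toSylow hPMnd with hPS
  have hPSc : (PS : Subgroup M) = PM := rfl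
  haveI hPScomm : IsMulCommutative PS := ⟨⟨fun x y =>
    Subtype.ext (Subtype.ext (hPcomm _ x.2 _ y.2))⟩⟩
  have hTPn : ∀ t ∈ T, ∀ x ∈ P, t * x * t⁻¹ ∈ P := fun t ht x hx =>
    mem_inf.2 ⟨mul_mem (mul_mem ht (mem_inf.1 hx).1) (inv_mem ht), hMn.conj_mem x (mem_inf.1 hx).2 t⟩
  -- 2-elements normalising `P`
  have htwo : ∀ s ∈ M, (∀ x, x ∈ P ↔ s * x * s⁻¹ ∈ P) → ∀ k : ℕ, s ^ 2 ^ k = 1 → s ∈ P := by
    intro s hs hn k hk
    have h := isPGroup_sup_zpowers hP2 hk (mem_normalizer_iff.2 hn)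
    have h2 : IsPGroup 2 ((P ⊔ zpowers s).subgroupOf M) := h.comap_subtype
    have h3 := PS.3 h2 (show PM ≤ _ from Subgroup.comap_mono le_sup_left)
    have h4 : (⟨s, hs⟩ : M) ∈ (P ⊔ zpowers s).subgroupOf M := mem_sup_right (mem_zpowers s)
    rw [h3] at h4
    exact h4
  -- automorphisms trivial on `V` and on the quotient are trivial
  have hstab : ∀ m ∈ M, (∀ x, x ∈ P ↔ m * x * m⁻¹ ∈ P) → (∀ v ∈ V, m * v = v * m) →
      (∀ x ∈ P, m * x * m⁻¹ * x⁻¹ ∈ V) → ∀ x ∈ P, m * x * m⁻¹ = x := by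
    intro m hm hn hmV hmq x hx
    have h2 : ∀ x ∈ P, m ^ 2 * x = x * m ^ 2 := by
      intro x hx
      set h := m * x * m⁻¹ * x⁻¹ with hh
      have hv := hmq x hx
      have e : m * x * m⁻¹ = h * x := by rw [hh]; group
      calc m ^ 2 * x = m * (m * x * m⁻¹) * m := by rw [pow_two]; group
        _ = m * (h * x) * m := by rw [e]
        _ = m * h * m⁻¹ * (m * x * m⁻¹) * m * m := by group
        _ = h * (h * x) * m * m := by rw [hmV h hv, mul_inv_cancel_right, e]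
        _ = x * m ^ 2 := by rw [← mul_assoc h h x, hVsq h hv, one_mul, pow_two, mul_assoc]
    obtain ⟨k, o, ho, hko⟩ := Nat.exists_eq_two_pow_mul_odd (orderOf_pos m).ne'
    obtain ⟨j, rfl⟩ := ho
    have hnn : m ∈ normalizer (P : Set Y) := mem_normalizer_iff.2 hn
    have hs := htwo (m ^ (2 * j + 1)) (pow_mem hm _) (mem_normalizer_iff.1 (pow_mem hnn _)) k
      (by rw [← pow_mul, mul_comm, ← hko, pow_orderOf_eq_one])
    have h1 := hPcomm _ hs x hx
    have h3 : (m ^ 2) ^ j * x = x * (m ^ 2) ^ j := (Commute.pow_left (show Commute (m ^ 2) x from h2 x hx) j)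
    rw [pow_succ, pow_mul] at h1
    have h5 : (m ^ 2) ^ j * (m * x) = (m ^ 2) ^ j * (x * m) := by
      rw [← mul_assoc, h1, ← mul_assoc, ← h3, mul_assoc]
    rw [mul_left_cancel h5, mul_inv_cancel_right]
  -- the automizer of `P`
  have haut : ∀ n ∈ M, (∀ x, x ∈ P ↔ n * x * n⁻¹ ∈ P) → ∃ i : ℕ, ∀ x ∈ P,
      n * x * n⁻¹ = r ^ i * x * (r ^ i)⁻¹ := by
    intro n hn hnP
    obtain ⟨v0, hv0, hv01⟩ : ∃ v ∈ V, v ≠ 1 := by
      have hnb : V ≠ ⊥ := fun e => by have := D.cardV; rw [← hVdef, e, Subgroup.card_bot] at this; omega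
      exact (Subgroup.bot_or_exists_ne_one V).resolve_left hnb
    set v1 := r * v0 * r⁻¹ with hv1
    set v2 := r * v1 * r⁻¹ with hv2
    have hv1V : v1 ∈ V := D.rV hv0
    have hv2V : v2 ∈ V := D.rV hv1V
    obtain ⟨hA, hB, hC⟩ := hrV3 v0 hv0 hv01
    have hv11 : v1 ≠ 1 := fun e => hv01 (conj_eq_one_iff.1 e)
    have hv21 : v2 ≠ 1 := fun e => hv11 (conj_eq_one_iff.1 e)
    have hset : ({1, v0, v1, v2} : Set Y) = (V : Set Y) := by
      refine Set.eq_of_subset_of_ncard_le ?_ ?_ (Set.toFinite _)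
      · rintro y (rfl | rfl | rfl | rfl)
        · exact one_mem V
        · exact hv0
        · exact hv1V
        · exact hv2V
      · rw [← Nat.card_coe_set_eq, show Nat.card (V : Set Y) = 4 from D.cardV,
          ncard_four hv01.symm hv11.symm hv21.symm hA.symm hB.symm hC.symm]
    have hmem : ∀ v ∈ V, v = 1 ∨ v = v0 ∨ v = v1 ∨ v = v2 := fun v hv => by
      have : v ∈ ({1, v0, v1, v2} : Set Y) := hset ▸ hv
      simpa using this
    have hri : ∀ i : ℕ, ∀ x, x ∈ P ↔ r ^ i * x * (r ^ i)⁻¹ ∈ P := by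
      intro i
      refine mem_normalizer_iff.1 (pow_mem (Subgroup.mem_normalizer_iff.2 fun x => ?_) i)
      refine ⟨hrP x, fun h => ?_⟩
      have h1 := hrP _ (hrP _ h)
      have hxT : x ∈ T := by
        have h2 := D.r_conj_pow_mem (hPT h) (orderOf r - 1)
        have e : r ^ (orderOf r - 1) * r = 1 := by
          rw [← pow_succ, Nat.sub_add_cancel (orderOf_pos r), pow_orderOf_eq_one]
        rwa [eq_inv_of_mul_eq_one_left e, show r⁻¹ * (r * x * r⁻¹) * r⁻¹⁻¹ = x by group] at h2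
      rwa [D.r_three hxT] at h1
    obtain ⟨i, hi⟩ : ∃ i : ℕ, n * v0 * n⁻¹ = r ^ i * v0 * (r ^ i)⁻¹ := by
      have hnv : n * v0 * n⁻¹ ∈ V := D.hVsc v0 hv0 n (hPT ((hnP v0).1 (hVP hv0)))
      rcases hmem _ hnv with e | e | e | e
      · exact absurd (conj_eq_one_iff.1 e) hv01
      · exact ⟨0, by simp [e]⟩
      · exact ⟨1, by rw [pow_one, e]⟩
      · exact ⟨2, by rw [e, hv2, hv1, pow_two, mul_inv_rev]; group⟩
    refine ⟨i, ?_⟩
    set m := (r ^ i)⁻¹ * n with hm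
    have hmM : m ∈ M := mul_mem (inv_mem (pow_mem hrM i)) hn
    have hmn : m ∈ normalizer (P : Set Y) :=
      mul_mem (inv_mem (mem_normalizer_iff.2 (hri i))) (mem_normalizer_iff.2 hnP)
    have hm0 : m * v0 * m⁻¹ = v0 := by
      calc m * v0 * m⁻¹ = (r ^ i)⁻¹ * (n * v0 * n⁻¹) * r ^ i := by rw [hm]; group
        _ = v0 := by rw [hi]; group
    have hmVmem : ∀ v ∈ V, m * v * m⁻¹ ∈ V := fun v hv =>
      D.hVsc v hv m (hPT ((mem_normalizer_iff.1 hmn v).1 (hVP hv)))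
    have h012 : v2 = v0 * v1 := by
      rcases hmem _ (mul_mem hv0 hv1V) with e | e | e | e
      · exact absurd ((eq_inv_of_mul_eq_one_right e).trans (inv_eq_of_mul_eq_one_right (hVsq v0 hv0))) hA
      · exact absurd (mul_eq_left.1 e) hv11
      · exact absurd (mul_eq_right.1 e) hv01
      · exact e.symm
    -- `m` fixes `v1`
    have hm1 : m * v1 * m⁻¹ = v1 := by
      rcases hmem _ (hmVmem v1 hv1V) with e | e | e | e
      · exact absurd (conj_eq_one_iff.1 e) hv11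
      · exact absurd (mul_left_cancel (mul_right_cancel (e.trans hm0.symm))) hA
      · exact e
      · exfalso
        have hm2 : m * v2 * m⁻¹ = v1 := by
          calc m * v2 * m⁻¹ = (m * v0 * m⁻¹) * (m * v1 * m⁻¹) := by rw [h012]; group
            _ = v1 := by rw [hm0, e, h012, ← mul_assoc, hVsq v0 hv0, one_mul]
        have hsq2 : m ^ 2 * v1 = v1 * m ^ 2 := by
          calc m ^ 2 * v1 = m * (m * v1 * m⁻¹) * m⁻¹ * m * m := by rw [pow_two]; group
            _ = v1 * m ^ 2 := by rw [e, hm2, pow_two, mul_assoc]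
        obtain ⟨k, o, ho, hko⟩ := Nat.exists_eq_two_pow_mul_odd (orderOf_pos m).ne'
        obtain ⟨j, rfl⟩ := ho
        have hs := htwo (m ^ (2 * j + 1)) (pow_mem hmM _) (mem_normalizer_iff.1 (pow_mem hmn _)) k
          (by rw [← pow_mul, mul_comm, ← hko, pow_orderOf_eq_one])
        have h1 := hPcomm _ hs v1 (hVP hv1V)
        rw [pow_succ, pow_mul] at h1
        have h3 : (m ^ 2) ^ j * v1 = v1 * (m ^ 2) ^ j :=
          (Commute.pow_left (show Commute (m ^ 2) v1 from hsq2) j)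
        have h5 : (m ^ 2) ^ j * (m * v1) = (m ^ 2) ^ j * (v1 * m) := by
          rw [← mul_assoc, h1, ← mul_assoc, ← h3, mul_assoc]
        rw [mul_left_cancel h5, mul_inv_cancel_right] at e
        exact hC e.symm
    have hmV : ∀ v ∈ V, m * v = v * m := by
      intro v hv
      have hconj : m * v * m⁻¹ = v := by
        rcases hmem v hv with rfl | rfl | rfl | rfl
        · rw [mul_one, mul_inv_cancel]
        · exact hm0
        · exact hm1
        · rw [h012, show m * (v0 * v1) * m⁻¹ = (m * v0 * m⁻¹) * (m * v1 * m⁻¹) by group, hm0, hm1]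
      exact mul_inv_eq_iff_eq_mul.1 hconj
    have hmP : ∀ x, x ∈ P ↔ m * x * m⁻¹ ∈ P := mem_normalizer_iff.1 hmn
    have haP : ∀ x, x ∈ P ↔ a * x * a⁻¹ ∈ P := fun x => ⟨hTPn a D.aT x, fun h => by
      have := hTPn a D.aT _ h
      rwa [show a * (a * x * a⁻¹) * a⁻¹ = a * a * x * (a * a)⁻¹ by group, D.ha2, one_mul, inv_one,
        mul_one] at this⟩
    have haV : ∀ v ∈ V, a * v = v * a := fun v hv => (D.hVc v hv a D.aT).symm
    have hmiP : ∀ x ∈ P, m⁻¹ * x * m ∈ P := fun x hx =>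
      (hmP _).2 (by rwa [show m * (m⁻¹ * x * m) * m⁻¹ = x by group])
    set n' := a * m * a⁻¹ * m⁻¹ with hn'
    have hn'M : n' ∈ M := mul_mem (hMn.conj_mem m hmM a) (inv_mem hmM)
    have hn'P : ∀ x, x ∈ P ↔ n' * x * n'⁻¹ ∈ P := mem_normalizer_iff.1
      (mul_mem (mul_mem (mul_mem (mem_normalizer_iff.2 haP) hmn) (inv_mem (mem_normalizer_iff.2 haP)))
        (inv_mem hmn))
    have hn'c := hstab n' hn'M hn'P (fun v hv => by
      have hCV : n' ∈ centralizer (V : Set Y) := by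
        have h1 : a ∈ centralizer (V : Set Y) := mem_centralizer_iff.2 fun v hv => (haV v hv).symm
        have h2 : m ∈ centralizer (V : Set Y) := mem_centralizer_iff.2 fun v hv => (hmV v hv).symm
        exact mul_mem (mul_mem (mul_mem h1 h2) (inv_mem h1)) (inv_mem h2)
      exact (mem_centralizer_iff.1 hCV v hv).symm) (fun x hx => by
      set y := m⁻¹ * x * m with hy
      have hyP : y ∈ P := hmiP x hx
      obtain ⟨v, hv, e⟩ : ∃ v ∈ V, a⁻¹ * y * a = v * y := ⟨_, D.comm_mem (x := a⁻¹) (inv_mem D.aT) (hPT hyP), by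
        group⟩
      obtain ⟨v', hv', e'⟩ : ∃ v ∈ V, a * x * a⁻¹ = v * x := ⟨_, D.comm_mem (x := a) D.aT (hPT hx), by group⟩
      have : n' * x * n'⁻¹ = v * v' * x := by
        calc n' * x * n'⁻¹ = a * (m * (a⁻¹ * y * a) * m⁻¹) * a⁻¹ := by rw [hn', hy]; group
          _ = a * (m * v * m⁻¹ * x) * a⁻¹ := by rw [e, hy]; group
          _ = a * v * a⁻¹ * (a * x * a⁻¹) := by rw [hmV v hv, mul_inv_cancel_right]; group
          _ = v * v' * x := by rw [haV v hv, mul_inv_cancel_right, e', mul_assoc]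
      rw [this, mul_inv_cancel_right]
      exact mul_mem hv hv')
    have hfin := hstab m hmM hmP hmV fun x hx => by
      have hmx : m * x * m⁻¹ ∈ P := (hmP x).1 hx
      set d := x⁻¹ * (m * x * m⁻¹) with hd
      have hdP : d ∈ P := mul_mem (inv_mem hx) hmx
      have hy : a * x * a⁻¹ ∈ P := (haP x).1 hx
      have h1 := hn'c (m * (a * x * a⁻¹) * m⁻¹) ((hmP _).1 hy)
      have h2 : a * (m * x * m⁻¹) * a⁻¹ = m * (a * x * a⁻¹) * m⁻¹ := by
        rw [← h1, hn']; group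
      have hφ := D.comm_mem D.aT (hPT hx)
      set φ := a * x * a⁻¹ * x⁻¹ with hφd
      have h3 : a * x * a⁻¹ = φ * x := by rw [hφd]; group
      have h4 : a * d * a⁻¹ = d := by
        rw [hd, show a * (x⁻¹ * (m * x * m⁻¹)) * a⁻¹ = (a * x * a⁻¹)⁻¹ * (a * (m * x * m⁻¹) * a⁻¹) by
          group, h2, h3, show m * (φ * x) * m⁻¹ = m * φ * m⁻¹ * (m * x * m⁻¹) by group, hmV φ hφ,
          mul_inv_cancel_right, mul_inv_rev]
        group
      have hdA : d ∈ D.Ab := D.hCa d (hPT hdP) (by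
        calc d * a = a * d * a⁻¹ * a := by rw [h4]
          _ = a * d := by group)
      have hdV := hAM d hdA (mem_inf.1 hdP).2
      have e : m * x * m⁻¹ = x * d := by rw [hd]; group
      rw [e, ← D.hVc d hdV x (hPT hx), mul_inv_cancel_right]
      exact hdV
    intro x hx
    have h := hfin x hx
    calc n * x * n⁻¹ = r ^ i * (m * x * m⁻¹) * (r ^ i)⁻¹ := by rw [hm]; group
      _ = r ^ i * x * (r ^ i)⁻¹ := by rw [h]
  -- strongly closed subgroups of `M`
  have hclosed : ∀ S : Subgroup Y, S ≤ P → (∀ x ∈ S, r * x * r⁻¹ ∈ S) →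
      Cfsg.IsStronglyClosed (S.subgroupOf M) (PS : Subgroup M) := by
    intro S hSP hSr
    refine ⟨fun x hx => show (x : Y) ∈ P from hSP hx, fun x hx g hg => ?_⟩
    obtain ⟨k, hk, hke⟩ := H5.control_of_commutative PS x (show (x : Y) ∈ P from hSP hx) g hg
    have hkP : ∀ y, y ∈ P ↔ (k : Y) * y * (k : Y)⁻¹ ∈ P := by
      intro y
      constructor
      · intro hy
        exact (mem_normalizer_iff.1 hk ⟨y, (mem_inf.1 hy).2⟩).1 hy
      · intro hy
        have hyM : y ∈ M := by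
          have := hMn.conj_mem _ (mem_inf.1 hy).2 (k : Y)⁻¹
          rwa [show (k : Y)⁻¹ * ((k : Y) * y * (k : Y)⁻¹) * (k : Y)⁻¹⁻¹ = y by group] at this
        exact (mem_normalizer_iff.1 hk ⟨y, hyM⟩).2 hy
    obtain ⟨i, hi⟩ := haut k k.2 hkP
    have hri : ∀ i : ℕ, ∀ y ∈ S, r ^ i * y * (r ^ i)⁻¹ ∈ S := by
      intro i
      induction i with
      | zero => intro y hy; simpa using hy
      | succ i ih =>
        intro y hy
        rw [show r ^ (i + 1) * y * (r ^ (i + 1))⁻¹ = r * (r ^ i * y * (r ^ i)⁻¹) * r⁻¹ by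
          rw [pow_succ', mul_inv_rev]; group]
        exact hSr _ (ih y hy)
    show ((g * x * g⁻¹ : M) : Y) ∈ S
    rw [← hke]
    simp only [Subgroup.coe_mul, Subgroup.coe_inv]
    rw [hi (x : Y) (hSP hx)]
    exact hri i _ hx
  have hUr : ∀ (x : Y) (hx : x * x = 1) (hc : x * (r * x * r⁻¹) = r * x * r⁻¹ * x),
      r * (r * x * r⁻¹) * r⁻¹ = r * x * r⁻¹ * x → x ∈ P →
      ∀ y ∈ klein x (r * x * r⁻¹) hx (hsq1 x hx) hc,
        r * y * r⁻¹ ∈ klein x (r * x * r⁻¹) hx (hsq1 x hx) hc := by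
    intro x hx hc hr2 hxP y hy
    rcases mem_klein.1 hy with rfl | rfl | rfl | rfl
    · simp [mem_klein]
    · exact Or.inr (Or.inr (Or.inl rfl))
    · exact Or.inr (Or.inr (Or.inr (hr2.trans hc.symm)))
    · refine Or.inr (Or.inl ?_)
      rw [show r * (x * (r * x * r⁻¹)) * r⁻¹ = r * x * r⁻¹ * (r * (r * x * r⁻¹) * r⁻¹) by group, hr2,
        ← mul_assoc, hsq1 x hx, one_mul]
  obtain ⟨v0, hv0, hv01⟩ : ∃ v ∈ V, v ≠ 1 := by
    have hnb : V ≠ ⊥ := fun e => by have := D.cardV; rw [← hVdef, e, Subgroup.card_bot] at this; omega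
    exact (Subgroup.bot_or_exists_ne_one V).resolve_left hnb
  set b' := b * v0 with hb'
  have hb'P : b' ∈ P := mul_mem hbP (hVP hv0)
  have hb'V : b' ∉ V := fun h => hbV (by simpa [hb'] using mul_mem h (inv_mem hv0))
  obtain ⟨hrb', hbc'⟩ := hkey b' hb'P hb'V (hPsq _ hb'P)
  set U' := klein b' (r * b' * r⁻¹) (hPsq _ hb'P) (hsq1 b' (hPsq _ hb'P)) hbc' with hU'
  have hU'P : U' ≤ P := by
    rintro y (rfl | rfl | rfl | rfl)
    · exact one_mem _
    · exact hb'P
    · exact hrP b' hb'P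
    · exact mul_mem hb'P (hrP b' hb'P)
  set v0' := r * v0 * r⁻¹ with hv0'
  have hrb'' : r * b' * r⁻¹ = r * b * r⁻¹ * v0' := by rw [hb', hv0']; group
  have hprod : b' * (r * b' * r⁻¹) = b * (r * b * r⁻¹) * (v0 * v0') := by
    rw [hrb'', hb', mul_assoc b v0, ← mul_assoc v0, D.hVc v0 hv0 _ (hPT (hrP b hbP))]
    group
  have hUU' : ∀ y ∈ U, y ∈ U' → y = 1 := by
    intro y hy hy'
    have hv0'1 : v0' ≠ 1 := fun e => hv01 (conj_eq_one_iff.1 e)
    have hvv : v0 * v0' ≠ 1 := fun e => (hrV3 v0 hv0 hv01).1 (by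
      rw [← hv0', eq_inv_of_mul_eq_one_right e]
      exact inv_eq_of_mul_eq_one_right (hVsq v0 hv0))
    by_contra hy1
    -- distinct cosets of `V`
    obtain ⟨v, hv, hv1, hvU⟩ : ∃ v ∈ V, v ≠ 1 ∧ ∃ p ∈ U, p * v ∈ U := by
      rcases mem_klein.1 hy' with e | e | e | e
      · exact absurd e hy1
      · exact ⟨v0, hv0, hv01, b, Or.inr (Or.inl rfl), by rw [← hb', ← e]; exact hy⟩
      · exact ⟨v0', D.rV hv0, hv0'1, r * b * r⁻¹, Or.inr (Or.inr (Or.inl rfl)), by
          rw [← hrb'', ← e]; exact hy⟩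
      · exact ⟨v0 * v0', mul_mem hv0 (D.rV hv0), hvv, b * (r * b * r⁻¹), Or.inr (Or.inr (Or.inr rfl)), by
          rw [← hprod, ← e]; exact hy⟩
    obtain ⟨p, hp, hpv⟩ := hvU
    exact hv1 (hinf b D.hw hbc hbP hbV v (by simpa using mul_mem (inv_mem hp) hpv) hv)
  have hsubinf : ∀ {S S' : Subgroup Y}, (∀ y ∈ S', y ∈ S → y = 1) →
      S.subgroupOf M ⊓ S'.subgroupOf M = ⊥ := by
    intro S S' h
    refine (eq_bot_iff_forall _).2 fun y hy => Subtype.ext (h _ (mem_inf.1 hy).2 (mem_inf.1 hy).1)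
  have hOM : Cfsg.pPrimeCore 2 M = ⊥ := by
    rw [← (Subgroup.map_eq_bot_iff_of_injective _ M.subtype_injective),
      H1.pPrimeCore_subgroup_map_eq 2 M, D.core, bot_inf_eq]
  have hnormal : (PS : Subgroup M).Normal := by
    refine sylow_normal_of_three hOM PS (hclosed V hVP fun v hv => D.rV hv)
      (hclosed U hUP (hUr b D.hw hbc hrb hbP)) (hclosed U' hU'P (hUr b' _ hbc' hrb' hb'P))
      (hsubinf fun y hy hyV => hinf b D.hw hbc hbP hbV y hy hyV)
      (hsubinf fun y hy hyV => hinf b' _ hbc' hb'P hb'V y hy hyV)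
      (hsubinf fun y hy hyU => hUU' y hyU hy)
      (fun x hx y hy => Subtype.ext (hPcomm _ hx _ hy)) ?_ ?_ ?_
    · intro x hx
      obtain ⟨v, hv, y, hy, e⟩ := hPdec x hx
      have : x = (⟨v, hVM hv⟩ : M) * ⟨y, (mem_inf.1 (hUP hy)).2⟩ := Subtype.ext e
      rw [this]
      exact mul_mem (mem_sup_right (show (⟨v, hVM hv⟩ : M) ∈ V.subgroupOf M from hv))
        (mem_sup_left (show (⟨y, (mem_inf.1 (hUP hy)).2⟩ : M) ∈ U.subgroupOf M from hy))
    · rw [← subgroupOf_sup (hU'P.trans inf_le_right) hVM]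
      refine Subgroup.comap_mono ?_
      have hb1 : b ∈ U' ⊔ V := by
        have := mul_mem (mem_sup_left (show b' ∈ U' from Or.inr (Or.inl rfl)) : b' ∈ U' ⊔ V)
          (mem_sup_right (inv_mem hv0))
        simpa [hb'] using this
      have hb2 : r * b * r⁻¹ ∈ U' ⊔ V := by
        have := mul_mem (mem_sup_left (show r * b' * r⁻¹ ∈ U' from Or.inr (Or.inr (Or.inl rfl))) :
          r * b' * r⁻¹ ∈ U' ⊔ V) (mem_sup_right (inv_mem (show v0' ∈ V from D.rV hv0)))
        rwa [hrb'', mul_inv_cancel_right] at this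
      rintro y (rfl | rfl | rfl | rfl)
      · exact one_mem _
      · exact hb1
      · exact hb2
      · exact mul_mem hb1 hb2
    · rw [← subgroupOf_sup (hUP.trans inf_le_right) (hU'P.trans inf_le_right)]
      refine Subgroup.comap_mono ?_
      have h1 : v0 ∈ U ⊔ U' := by
        have := mul_mem (mem_sup_left (inv_mem (show b ∈ U from Or.inr (Or.inl rfl))) : b⁻¹ ∈ U ⊔ U')
          (mem_sup_right (show b' ∈ U' from Or.inr (Or.inl rfl)))
        simpa [hb'] using this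
      have h2 : v0' ∈ U ⊔ U' := by
        have := mul_mem (mem_sup_left (inv_mem (show r * b * r⁻¹ ∈ U from Or.inr (Or.inr (Or.inl rfl)))) :
          (r * b * r⁻¹)⁻¹ ∈ U ⊔ U') (mem_sup_right (show r * b' * r⁻¹ ∈ U' from Or.inr (Or.inr (Or.inl rfl))))
        rwa [hrb'', inv_mul_cancel_left] at this
      have hA' := (hrV3 v0 hv0 hv01).1
      have hset : ({1, v0, v0', v0 * v0'} : Set Y) = (V : Set Y) := by
        refine Set.eq_of_subset_of_ncard_le ?_ ?_ (Set.toFinite _)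
        · rintro y (rfl | rfl | rfl | rfl)
          · exact one_mem V
          · exact hv0
          · exact D.rV hv0
          · exact mul_mem hv0 (D.rV hv0)
        · have hv0'1 : v0' ≠ 1 := fun e => hv01 (conj_eq_one_iff.1 e)
          have hvv : v0 * v0' ≠ 1 := fun e => hA' (by
            rw [← hv0', eq_inv_of_mul_eq_one_right e]
            exact inv_eq_of_mul_eq_one_right (hVsq v0 hv0))
          rw [← Nat.card_coe_set_eq, show Nat.card (V : Set Y) = 4 from D.cardV,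
            Set.ncard_insert_of_notMem (by simp [hv01.symm, hv0'1.symm, hvv.symm]) (Set.toFinite _),
            Set.ncard_insert_of_notMem (by
              simp only [Set.mem_insert_iff, Set.mem_singleton_iff, not_or]
              exact ⟨fun e => hA' e.symm, fun e => hv0'1 (mul_eq_left.1 e.symm)⟩) (Set.toFinite _),
            Set.ncard_pair (fun e => hv01 (mul_eq_right.1 e.symm))]
      intro v hv
      have : v ∈ ({1, v0, v0', v0 * v0'} : Set Y) := hset ▸ hv
      simp only [Set.mem_insert_iff, Set.mem_singleton_iff] at this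
      rcases this with rfl | rfl | rfl | rfl
      · exact one_mem _
      · exact h1
      · exact h2
      · exact mul_mem h1 h2
  have hMP : ∀ n ∈ M, ∀ x, x ∈ P ↔ n * x * n⁻¹ ∈ P := by
    have key : ∀ n ∈ M, ∀ x ∈ P, n * x * n⁻¹ ∈ P := fun n hn x hx =>
      hnormal.conj_mem ⟨x, (mem_inf.1 hx).2⟩ hx ⟨n, hn⟩
    exact fun n hn x => ⟨key n hn x, fun h => by simpa [mul_assoc] using key n⁻¹ (inv_mem hn) _ h⟩
  -- `P` is its own centraliser in `M`
  haveI := hnormal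
  set CM : Subgroup M := centralizer ((PS : Subgroup M) : Set M) with hCM
  have hPC : (PS : Subgroup M) ≤ CM := fun x hx => mem_centralizer_iff.2 fun y hy =>
    Subtype.ext (hPcomm _ hy _ hx)
  have hC2 : IsPGroup 2 CM := isPGroup_of_central hOM inferInstance hPC
    (fun x hx y hy => mem_centralizer_iff.1 hy x hx)
    ((Nat.not_even_iff_odd.1 fun h => hPMnd (even_iff_two_dvd.1 h)).of_dvd_nat
      (relIndex_dvd_index_of_le hPC))
  have hCP : CM = (PS : Subgroup M) := PS.3 hC2 hPC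
  have hAb : ∀ g, (∀ v ∈ V, g * v * g⁻¹ ∈ V) → g * a * g⁻¹ ∈ D.Ab →
      ∀ x ∈ D.Ab, g * x * g⁻¹ ∈ D.Ab := by
    intro g hgV hga x hx
    rcases D.hA x hx with h | h
    · exact D.hVA (hgV x h)
    · rw [show g * x * g⁻¹ = g * (x * a) * g⁻¹ * (g * a * g⁻¹)⁻¹ by group]
      exact mul_mem (D.hVA (hgV _ h)) (inv_mem hga)
  have hTA : ∀ t ∈ T, ∀ x ∈ D.Ab, t * x * t⁻¹ ∈ D.Ab := fun t ht => hAb t
    (fun v hv => D.hVsc v hv t (mul_mem (mul_mem ht (D.VT hv)) (inv_mem ht)))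
    (D.hAsc a D.ha t (mul_mem (mul_mem ht D.aT) (inv_mem ht)))
  have hRA : ∀ i : ℕ, ∀ x ∈ D.Ab, r ^ i * x * (r ^ i)⁻¹ ∈ D.Ab := fun i => hAb (r ^ i)
    (fun v hv => D.hVsc v hv _ (D.r_conj_pow_mem (D.VT hv) i))
    (by rw [(Commute.pow_left (show Commute r a from D.hra) i).eq, mul_inv_cancel_right]; exact D.ha)
  have hM : ∀ n ∈ M, ∀ x ∈ D.Ab, n * x * n⁻¹ ∈ D.Ab := by
    intro n hn x hx
    obtain ⟨i, hi⟩ := haut n hn (hMP n hn)
    have hmem : (⟨(r ^ i)⁻¹ * n, mul_mem (inv_mem (pow_mem hrM i)) hn⟩ : M) ∈ CM := by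
      refine mem_centralizer_iff.2 fun y hy => Subtype.ext ?_
      show (y : Y) * ((r ^ i)⁻¹ * n) = (r ^ i)⁻¹ * n * y
      calc (y : Y) * ((r ^ i)⁻¹ * n) = (r ^ i)⁻¹ * (r ^ i * y * (r ^ i)⁻¹) * n := by group
        _ = (r ^ i)⁻¹ * (n * y * (n)⁻¹) * n := by rw [hi y hy]
        _ = (r ^ i)⁻¹ * n * y := by group
    rw [hCP] at hmem
    have hp : (r ^ i)⁻¹ * n ∈ T := hPT hmem
    have := hRA i _ (hTA _ hp x hx)
    rwa [show r ^ i * ((r ^ i)⁻¹ * n * x * ((r ^ i)⁻¹ * n)⁻¹) * (r ^ i)⁻¹ = n * x * n⁻¹ by group] at this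
  intro y x hx
  rcases hpar y with h | h
  · exact hM y h x hx
  · have := hM _ h _ (hTA a D.aT x hx)
    rwa [show y * a * (a * x * a⁻¹) * (y * a)⁻¹ = y * (a * a) * x * (a * a)⁻¹ * y⁻¹ by group, D.ha2,
      mul_one, inv_one, mul_one] at this

end QData

end H8.E16
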