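import Cfsg.Agent.H8.E16.Ca
import Cfsg.Agent.H8.E16.Quot

/-!
The centralizer of an element of the small orbit is covered by its core and the normaliser of `A`
(helper8).
-/

set_option autoImplicit false
set_option linter.style.haveILetI false
set_option linter.unusedSectionVars false

namespace H8.E16

open Subgroup

universe u

namespace Data

variable {G : Type u} [Group G] [Finite G] (D : Data G)

include D in
theorem card_le_of_two {R : Subgroup G} (hR : IsPGroup 2 R) : Nat.card R ≤ 64 := by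
  haveI : Fact (Nat.Prime 2) := ⟨Nat.prime_two⟩
  obtain ⟨S, hS⟩ := hR.exists_le_sylow
  exact (Subgroup.card_le_of_le hS).trans (D.syl S).1.le

set_option maxHeartbeats 1000000 in
/-- The first step: good centralizers on the small orbit. -/
theorem good_Z {z : G} (hz : D.IsZg z) : D.Good z := by
  classical
  haveI : Fact (Nat.Prime 2) := ⟨Nat.prime_two⟩
  have hzg : z ≠ 1 := D.ne_one_of_isZg hz
  obtain ⟨hzA, hzZ⟩ := hz
  set z' : D.A := ⟨z, hzA⟩ with hz'
  set st := stabA D.Φ z' with hstdef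
  have hst : Nat.card st = 12 := hzZ.2
  have hz2 : z * z = 1 := D.sq_one hzA
  set C := centralizer ({z} : Set G) with hC
  have hAC : D.A ≤ C := D.A_le_cent hzA
  have hzC : z ∈ C := hAC hzA
  have hzp : ∀ x ∈ zpowers z, x = 1 ∨ x = z := by
    rintro x ⟨i, rfl⟩
    rcases Int.even_or_odd i with ⟨j, hj⟩ | ⟨j, hj⟩
    · left
      show z ^ i = 1
      rw [hj, ← two_mul, zpow_mul, zpow_two, hz2, one_zpow]
    · right
      show z ^ i = z
      rw [hj, zpow_add_one, zpow_mul, zpow_two, hz2, one_zpow, one_mul]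
  set J : Subgroup G := D.N ⊓ C with hJ
  have hπJ : ∀ n : D.N, (n : G) ∈ C ↔ D.π n ∈ st := fun n =>
    ⟨fun h => D.π_mem_stab hzA (mem_centralizer_singleton_iff.1 h),
      fun h => mem_centralizer_singleton_iff.2 (D.commute_of_π_mem_stab hzA h)⟩
  have hAJ : D.A ≤ J := le_inf D.A_le_N hAC
  -- a Sylow subgroup
  have hJcard : Nat.card J = 2 ^ 6 * (3 * Nat.card D.K) := by
    let f : J →* A5 := D.π.comp (Subgroup.inclusion (inf_le_left : J ≤ D.N))
    have hr : f.range = st := by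
      ext x
      constructor
      · rintro ⟨n, rfl⟩
        exact (hπJ _).1 (mem_inf.1 n.2).2
      · intro hx
        obtain ⟨n, rfl⟩ := D.surj x
        exact ⟨⟨n, mem_inf.2 ⟨n.2, (hπJ n).2 hx⟩⟩, rfl⟩
    have hk : Nat.card f.ker = Nat.card D.π.ker := by
      refine Nat.card_congr ⟨fun n => ⟨Subgroup.inclusion inf_le_left n.1, n.2⟩,
        fun n => ⟨⟨(n.1 : G), mem_inf.2 ⟨n.1.2, (hπJ n.1).2 (by
          rw [MonoidHom.mem_ker.1 n.2]; exact one_mem _)⟩⟩, n.2⟩, fun n => rfl, fun n => rfl⟩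
    rw [← Subgroup.card_mul_index f.ker, Subgroup.index_ker, hr, hst, hk, D.card_ker]
    ring
  obtain ⟨T, hT, hAT, hTJ, hT64⟩ : ∃ T : Subgroup G, IsPGroup 2 T ∧ D.A ≤ T ∧ T ≤ J ∧ Nat.card T = 64 := by
    obtain ⟨T, hT⟩ := (D.isPGroup_A.comap_subtype (K := J)).exists_le_sylow
    refine ⟨(T : Subgroup J).map J.subtype, T.2.map _, fun x hx => ⟨⟨x, hAJ hx⟩, hT hx, rfl⟩,
      map_subtype_le _, ?_⟩
    obtain ⟨m, hm, hJm⟩ : ∃ m, Odd m ∧ Nat.card J = 2 ^ 6 * m :=
      ⟨_, (show Odd 3 by decide).mul (Nat.coprime_two_right.1 D.K_card), hJcard⟩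
    rw [← Nat.card_congr (equivMapOfInjective _ _ J.subtype_injective).toEquiv, T.card_eq_multiplicity,
      hJm, Nat.factorization_mul (by norm_num) (Nat.ne_of_odd_add hm), Finsupp.add_apply,
      Nat.prime_two.factorization_pow, Finsupp.single_eq_same,
      Nat.factorization_eq_zero_of_not_dvd
        (fun h => (Nat.not_even_iff_odd.2 hm) (even_iff_two_dvd.2 h))]
    norm_num
  have hTN : T ≤ D.N := hTJ.trans inf_le_left
  have hTC : T ≤ C := hTJ.trans inf_le_right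
  have hTmax : ∀ R : Subgroup G, IsPGroup 2 R → T ≤ R → R = T := fun R hR hTR =>
    (Subgroup.eq_of_le_of_card_ge hTR (hT64.symm ▸ D.card_le_of_two hR)).symm
  have hinto : ∀ (H R : Subgroup G), IsPGroup 2 R → T ≤ H → R ≤ H →
      ∃ j ∈ H, ∀ x ∈ R, j * x * j⁻¹ ∈ T := by
    intro H R hR hTH hRH
    obtain ⟨T', hT', hTT', -, j, hj, hjR⟩ := exists_two_conj hT hR hTH hRH
    exact ⟨j, hj, fun x hx => hTmax T' hT' hTT' ▸ hjR x hx⟩
  have hA_of_ker : ∀ (t : G) (ht : t ∈ T), D.π ⟨t, hTN ht⟩ = 1 → t ∈ D.A := fun t ht h => by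
    obtain ⟨i, hi⟩ := hT ⟨t, ht⟩
    exact D.mem_A_of_ker (n := ⟨t, hTN ht⟩) h (k := i) (congrArg Subtype.val hi)
  -- the four-group
  set V : Subgroup A5 := (T.subgroupOf D.N).map D.π with hV
  have hπT : ∀ (t : G) (ht : t ∈ T), D.π ⟨t, hTN ht⟩ ∈ V := fun t ht => ⟨⟨t, hTN ht⟩, ht, rfl⟩
  have hVp : IsPGroup 2 V := (hT.comap_subtype (K := D.N)).map _
  have hVst : V ≤ st := by
    rintro _ ⟨n, hn, rfl⟩
    exact (hπJ n).1 (hTC hn)
  have hV4 : Nat.card V = 4 := by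
    let f : T →* A5 := D.π.comp (Subgroup.inclusion hTN)
    have hr : f.range = V := by
      ext x
      constructor
      · rintro ⟨t, rfl⟩; exact hπT t t.2
      · rintro ⟨n, hn, rfl⟩; exact ⟨⟨n, hn⟩, rfl⟩
    have hk : Nat.card f.ker = 16 := by
      rw [← D.card]
      exact Nat.card_congr ⟨fun t => ⟨t.1, hA_of_ker t.1 t.1.2 t.2⟩,
        fun a => ⟨⟨a, hAT a.2⟩, D.π_of_mem a.2⟩, fun t => rfl, fun a => rfl⟩
    have h := Subgroup.card_mul_index f.ker
    rw [Subgroup.index_ker, hr, hk, hT64] at h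
    omega
  have hVinv : ∀ x ∈ V, x * x = 1 := by
    intro x hx
    have h4 : x ^ 4 = 1 := orderOf_dvd_iff_pow_eq_one.1 (hV4 ▸ Subgroup.orderOf_dvd_natCard _ hx)
    rcases order_cases x with h | h | h
    · rwa [pow_two] at h
    · rw [pow_succ, h, one_mul] at h4; rw [h4, one_mul]
    · rw [pow_succ, h4, one_mul] at h; rw [h, one_mul]
  have hVmem : ∀ x ∈ st, x * x = 1 → x ∈ V := by
    intro x hx hx2
    have hn : x ∈ normalizer (V : Set A5) := by
      refine (Subgroup.centralizer_le_normalizer _) (mem_centralizer_iff.2 fun v hv => ?_)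
      exact stabZ_commute D.act hzZ (hVst hv) hx (hVinv v hv) hx2
    have hP := isPGroup_sup_zpowers hVp (k := 1) (by rw [pow_one, pow_two, hx2]) hn
    obtain ⟨k, hk⟩ := IsPGroup.iff_card.1 hP
    have hd : Nat.card ↥(V ⊔ zpowers x) ∣ 12 :=
      hst ▸ Subgroup.card_dvd_of_le (sup_le hVst (zpowers_le.2 hx))
    have hle : Nat.card ↥(V ⊔ zpowers x) ≤ 4 := by
      rw [hk]
      by_contra hh
      have h3 : 3 ≤ k := by
        by_contra hk3
        have := Nat.pow_le_pow_right (show 0 < 2 by norm_num) (show k ≤ 2 by omega)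
        omega
      have := (pow_dvd_pow 2 h3).trans (hk ▸ hd)
      norm_num at this
    rw [Subgroup.eq_of_le_of_card_ge (le_sup_left : V ≤ V ⊔ zpowers x) (by omega)]
    exact mem_sup_right (mem_zpowers x)
  have hVcomm : ∀ x ∈ V, ∀ y ∈ V, x * y = y * x := fun x hx y hy =>
    stabZ_commute D.act hzZ (hVst hx) (hVst hy) (hVinv x hx) (hVinv y hy)
  have hVset : ∀ x ∈ V, ∀ y ∈ V, x ≠ 1 → y ≠ 1 → x ≠ y → ∀ v ∈ V, v = 1 ∨ v = x ∨ v = y ∨ v = x * y := by
    intro x hx y hy hx1 hy1 hxy v hv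
    have hset : ({1, x, y, x * y} : Set A5) = (V : Set A5) := by
      refine Set.eq_of_subset_of_ncard_le ?_ ?_ (Set.toFinite _)
      · rintro w (rfl | rfl | rfl | rfl)
        · exact one_mem V
        · exact hx
        · exact hy
        · exact mul_mem hx hy
      · rw [← Nat.card_coe_set_eq, show Nat.card (V : Set A5) = 4 from hV4,
          ncard_four hx1.symm hy1.symm
            (fun e => hxy ((inv_eq_of_mul_eq_one_right (hVinv x hx)).symm.trans
              (inv_eq_of_mul_eq_one_right e.symm)))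
            hxy (fun e => hy1 (mul_eq_left.1 e.symm)) (fun e => hx1 (mul_eq_right.1 e.symm))]
    have : v ∈ ({1, x, y, x * y} : Set A5) := hset ▸ hv
    simpa using this
  -- fixed points
  have hF4 : ∀ x ∈ V, x ≠ 1 → Nat.card (fixS D.Φ x) = 4 := fun x hx h1 =>
    fix_invol D.act0 (hVinv x hx) h1
  have hzF : ∀ x ∈ V, z' ∈ fixS D.Φ x := fun x hx => hVst hx
  have hFF : ∀ x ∈ V, ∀ y ∈ V, x ≠ 1 → y ≠ 1 → x ≠ y → ∀ w : D.A, D.Φ x w = w → D.Φ y w = w →
      w = 1 ∨ w = z' := by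
    intro x hx y hy hx1 hy1 hxy w hwx hwy
    by_cases hw1 : w = 1
    · exact Or.inl hw1
    rcases isZ_or_isB D.act hw1 with hZ | hB
    · right
      obtain ⟨u, hu⟩ := Set.ncard_eq_one.1 ((fix_counts D.act hx1).2 (by rw [pow_two]; exact hVinv x hx))
      have h1 : w ∈ {a | IsZ D.Φ a ∧ D.Φ x a = a} := ⟨hZ, hwx⟩
      have h2 : z' ∈ {a | IsZ D.Φ a ∧ D.Φ x a = a} := ⟨hzZ, hzF x hx⟩
      rw [hu] at h1 h2
      exact h1.trans h2.symm
    · exfalso
      have hle : V ≤ stabA D.Φ w := by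
        intro v hv
        rcases hVset x hx y hy hx1 hy1 hxy v hv with rfl | rfl | rfl | rfl
        · exact one_mem _
        · exact hwx
        · exact hwy
        · exact mul_mem (show x ∈ stabA D.Φ w from hwx) (show y ∈ stabA D.Φ w from hwy)
      have := Subgroup.card_dvd_of_le hle
      rw [hV4, hB.2] at this
      norm_num at this
  obtain ⟨x1, hx1V, hx11, x2, hx2V, hx21, hx12⟩ : ∃ x ∈ V, x ≠ 1 ∧ ∃ y ∈ V, y ≠ 1 ∧ x ≠ y := by
    have hV' : (V : Set A5).ncard = 4 := by rw [← Nat.card_coe_set_eq]; exact hV4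
    obtain ⟨x, hx, hx1⟩ := Set.exists_ne_of_one_lt_ncard (by omega : 1 < (V : Set A5).ncard) 1
    have h2 : ({1, x} : Set A5).ncard < (V : Set A5).ncard := by
      rw [Set.ncard_pair hx1.symm, hV']; norm_num
    obtain ⟨y, hy, hy'⟩ := Set.exists_mem_notMem_of_ncard_lt_ncard h2 (Set.toFinite _)
    simp only [Set.mem_insert_iff, Set.mem_singleton_iff, not_or] at hy'
    exact ⟨x, hx, hx1, y, hy, hy'.1, Ne.symm hy'.2⟩
  set x3 := x1 * x2 with hx3
  have hx31 : x3 ≠ 1 := fun e => hx12 ((inv_eq_of_mul_eq_one_right (hVinv x1 hx1V)).symm.trans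
    (inv_eq_of_mul_eq_one_right e))
  have hx13 : x1 ≠ x3 := fun e => hx21 (mul_eq_left.1 e.symm)
  have hx23 : x2 ≠ x3 := fun e => hx11 (mul_eq_right.1 e.symm)
  have hx3V : x3 ∈ V := mul_mem hx1V hx2V
  -- the subgroup `W0`
  haveI hnorm : ∀ H : Subgroup D.A, H.Normal := fun H => ⟨fun a ha g => by
    rwa [show g * a * g⁻¹ = a by rw [sq_comm D.act0 g a, mul_inv_cancel_right]]⟩
  set P2 : Set D.A := (fixS D.Φ x2 : Set D.A) \ {1, z'} with hP2
  have hz'1 : z' ≠ 1 := hzZ.1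
  have hpair : ({1, z'} : Set D.A).ncard = 2 := Set.ncard_pair hz'1.symm
  have hFd : ∀ x ∈ V, x ≠ 1 → ((fixS D.Φ x : Set D.A) \ {1, z'}).ncard = 2 := by
    intro x hx h1
    rw [Set.ncard_diff (by
      rintro w (rfl | rfl)
      · exact one_mem _
      · exact hzF x hx) (Set.toFinite _), hpair,
      show (fixS D.Φ x : Set D.A).ncard = 4 from (Nat.card_coe_set_eq _).symm.trans (hF4 x hx h1)]
  obtain ⟨b2, hb2⟩ := Set.nonempty_of_ncard_ne_zero (by rw [hFd x2 hx2V hx21]; norm_num :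
    ((fixS D.Φ x2 : Set D.A) \ {1, z'}).ncard ≠ 0)
  obtain ⟨hb2F, hb2'⟩ := hb2
  simp only [Set.mem_insert_iff, Set.mem_singleton_iff, not_or] at hb2'
  set W0 : Subgroup D.A := fixS D.Φ x1 ⊔ zpowers b2 with hW0
  have hW0le : Nat.card W0 ≤ 8 := by
    haveI := hnorm (zpowers b2)
    refine Nat.le_of_dvd (by norm_num) ((H1.card_sup_dvd_mul _ _).trans ?_)
    rw [hF4 x1 hx1V hx11, Nat.card_zpowers,
      orderOf_eq_prime (p := 2) (by rw [pow_two, D.act0.sq]) hb2'.1]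
  have hF2 : fixS D.Φ x2 ≤ W0 := by
    have hset : ({1, z', b2, z' * b2} : Set D.A) = (fixS D.Φ x2 : Set D.A) := by
      refine Set.eq_of_subset_of_ncard_le ?_ ?_ (Set.toFinite _)
      · rintro w (rfl | rfl | rfl | rfl)
        · exact one_mem _
        · exact hzF x2 hx2V
        · exact hb2F
        · exact mul_mem (hzF x2 hx2V) hb2F
      · rw [show (fixS D.Φ x2 : Set D.A).ncard = 4 from
            (Nat.card_coe_set_eq _).symm.trans (hF4 x2 hx2V hx21),
          ncard_four hz'1.symm (Ne.symm hb2'.1)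
            (fun e => hb2'.2 ((inv_eq_of_mul_eq_one_right e.symm).symm.trans
              (inv_eq_of_mul_eq_one_right (D.act0.sq z'))))
            (Ne.symm hb2'.2) (fun e => hb2'.1 (mul_eq_left.1 e.symm))
            (fun e => hz'1 (mul_eq_right.1 e.symm))]
    intro w hw
    have : w ∈ ({1, z', b2, z' * b2} : Set D.A) := hset ▸ hw
    simp only [Set.mem_insert_iff, Set.mem_singleton_iff] at this
    rcases this with rfl | rfl | rfl | rfl
    · exact one_mem _
    · exact mem_sup_left (hzF x1 hx1V)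
    · exact mem_sup_right (mem_zpowers _)
    · exact mul_mem (mem_sup_left (hzF x1 hx1V)) (mem_sup_right (mem_zpowers _))
  have hΦ2 : ∀ x ∈ V, ∀ w : D.A, D.Φ x (D.Φ x w) = w := fun x hx w => by
    rw [← MulAut.mul_apply, ← map_mul, hVinv x hx, map_one, MulAut.one_apply]
  have hΦc : ∀ x ∈ V, ∀ y ∈ V, ∀ w : D.A, D.Φ x (D.Φ y w) = D.Φ y (D.Φ x w) := fun x hx y hy w => by
    rw [← MulAut.mul_apply, ← map_mul, hVcomm x hx y hy, map_mul, MulAut.mul_apply]
  have hfix_comm : ∀ x ∈ V, ∀ w : D.A, D.Φ x (w * D.Φ x w) = w * D.Φ x w := fun x hx w => by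
    rw [map_mul, hΦ2 x hx, sq_comm D.act0]
  have hF3 : fixS D.Φ x3 ≤ W0 := by
    intro w hw
    obtain ⟨b, rfl⟩ := exists_comm D.act0 (hVinv x3 hx3V) hx31 hw
    have e : b * D.Φ x3 b = (b * D.Φ x1 b) * (D.Φ x1 b * D.Φ x1 (D.Φ x2 b)) := by
      rw [mul_assoc b, ← mul_assoc (D.Φ x1 b) (D.Φ x1 b), D.act0.sq, one_mul, hx3, map_mul,
        MulAut.mul_apply]
    rw [e, ← map_mul (D.Φ x1)]
    refine mul_mem (mem_sup_left (hfix_comm x1 hx1V b)) (hF2 ?_)
    show D.Φ x2 (D.Φ x1 _) = _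
    rw [hΦc x2 hx2V x1 hx1V, hfix_comm x2 hx2V]
  set U : Set D.A := (fixS D.Φ x1 : Set D.A) ∪ ((fixS D.Φ x2 : Set D.A) \ {1, z'}) ∪
    ((fixS D.Φ x3 : Set D.A) \ {1, z'}) with hU
  have hU8 : U.ncard = 8 := by
    have d1 : Disjoint (fixS D.Φ x1 : Set D.A) ((fixS D.Φ x2 : Set D.A) \ {1, z'}) :=
      Set.disjoint_left.2 fun w h1 h2 => h2.2 (hFF x1 hx1V x2 hx2V hx11 hx21 hx12 w h1 h2.1)
    have d2 : Disjoint ((fixS D.Φ x1 : Set D.A) ∪ ((fixS D.Φ x2 : Set D.A) \ {1, z'}))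
        ((fixS D.Φ x3 : Set D.A) \ {1, z'}) := by
      refine Set.disjoint_left.2 fun w h1 h2 => h2.2 ?_
      rcases h1 with h1 | h1
      · exact hFF x1 hx1V x3 hx3V hx11 hx31 hx13 w h1 h2.1
      · exact hFF x2 hx2V x3 hx3V hx21 hx31 hx23 w h1.1 h2.1
    rw [hU, Set.ncard_union_eq d2 (Set.toFinite _) (Set.toFinite _),
      Set.ncard_union_eq d1 (Set.toFinite _) (Set.toFinite _), hFd x2 hx2V hx21, hFd x3 hx3V hx31,
      show (fixS D.Φ x1 : Set D.A).ncard = 4 from (Nat.card_coe_set_eq _).symm.trans (hF4 x1 hx1V hx11)]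
  have hUW : U = (W0 : Set D.A) := by
    refine Set.eq_of_subset_of_ncard_le ?_ ?_ (Set.toFinite _)
    · rintro w ((h | h) | h)
      · exact mem_sup_left h
      · exact hF2 h.1
      · exact hF3 h.1
    · rw [hU8, ← Nat.card_coe_set_eq]; exact hW0le
  have hW8 : Nat.card W0 = 8 := by
    rw [show Nat.card W0 = (W0 : Set D.A).ncard from Nat.card_coe_set_eq _, ← hUW, hU8]
  have hWiff : ∀ w : D.A, w ∈ W0 ↔ ∃ x ∈ V, x ≠ 1 ∧ D.Φ x w = w := by
    intro w
    constructor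
    · intro hw
      have : w ∈ U := hUW ▸ hw
      rcases this with (h | h) | h
      · exact ⟨x1, hx1V, hx11, h⟩
      · exact ⟨x2, hx2V, hx21, h.1⟩
      · exact ⟨x3, hx3V, hx31, h.1⟩
    · rintro ⟨x, hx, h1, hw⟩
      rcases hVset x1 hx1V x2 hx2V hx11 hx21 hx12 x hx with rfl | rfl | rfl | rfl
      · exact absurd rfl h1
      · exact mem_sup_left hw
      · exact hF2 hw
      · exact hF3 hw
  have hzW0 : z' ∈ W0 := (hWiff z').2 ⟨x1, hx1V, hx11, hzF x1 hx1V⟩
  set W : Subgroup G := W0.map D.A.subtype with hW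
  have hWA : W ≤ D.A := map_subtype_le _
  have hWmem : ∀ {w : G} (hw : w ∈ D.A), w ∈ W ↔ (⟨w, hw⟩ : D.A) ∈ W0 := fun {w} hw =>
    ⟨fun ⟨v, hv, e⟩ => (show v = ⟨w, hw⟩ from Subtype.ext e) ▸ hv, fun h => ⟨_, h, rfl⟩⟩
  have hVconj : ∀ g ∈ st, ∀ x ∈ V, g * x * g⁻¹ ∈ V := fun g hg x hx =>
    hVmem _ (mul_mem (mul_mem hg (hVst hx)) (inv_mem hg)) (by
      rw [show g * x * g⁻¹ * (g * x * g⁻¹) = g * (x * x) * g⁻¹ by group, hVinv x hx, mul_one,
        mul_inv_cancel])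
  have hWJ : ∀ n ∈ J, ∀ w ∈ W, n * w * n⁻¹ ∈ W := by
    intro n hn w hw
    obtain ⟨hnN, hnC⟩ := mem_inf.1 hn
    have hwA := hWA hw
    obtain ⟨x, hx, h1, hfw⟩ := (hWiff _).1 ((hWmem hwA).1 hw)
    have hg := (hπJ ⟨n, hnN⟩).1 hnC
    refine (hWmem ((mem_normalizer_iff.1 hnN w).1 hwA)).2 ((hWiff _).2 ⟨_, hVconj _ hg x hx,
      fun e => h1 (conj_eq_one_iff.1 e), ?_⟩)
    rw [show (⟨n * w * n⁻¹, _⟩ : D.A) = D.Φ (D.π ⟨n, hnN⟩) ⟨w, hwA⟩ from
      Subtype.ext (D.Φ_coe ⟨n, hnN⟩ ⟨w, hwA⟩).symm]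
    rw [← MulAut.mul_apply, ← map_mul, inv_mul_cancel_right, map_mul, MulAut.mul_apply, hfw]
  -- the element `r`
  haveI : Fact (Nat.Prime 3) := ⟨Nat.prime_three⟩
  have h6 : ∀ {x y : A5}, x * x = 1 → x ≠ 1 → y ^ 3 = 1 → y ≠ 1 → x * y ≠ y * x := by
    intro x y hx hx1 hy hy1 hc
    have hc' : Commute x y := hc
    rcases order_cases (x * y) with h | h | h
    · rw [hc'.mul_pow, pow_two x, hx, one_mul] at h
      exact hy1 (by rw [pow_succ, h, one_mul] at hy; exact hy)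
    · rw [hc'.mul_pow, hy, mul_one, pow_succ, pow_two, hx, one_mul] at h
      exact hx1 h
    · rw [hc'.mul_pow, show x ^ 5 = (x * x) * (x * x) * x by simp only [pow_succ, pow_zero, one_mul, mul_assoc], hx, one_mul, one_mul,
        show y ^ 5 = y ^ 3 * y ^ 2 by group, hy, one_mul] at h
      have hxy : x = y := by
        calc x = x * y ^ 3 := by rw [hy, mul_one]
          _ = x * y ^ 2 * y := by group
          _ = y := by rw [h, one_mul]
      subst hxy
      rw [pow_succ, pow_two, hx, one_mul] at hy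
      exact hy1 hy
  obtain ⟨r, hrJ, hrodd, hrT, hy1, hy3⟩ : ∃ r : G, ∃ hr : r ∈ J, Odd (orderOf r) ∧
      (∀ t ∈ T, r * t * r⁻¹ ∈ T) ∧ D.π ⟨r, (mem_inf.1 hr).1⟩ ≠ 1 ∧
        D.π ⟨r, (mem_inf.1 hr).1⟩ ^ 3 = 1 := by
    obtain ⟨s, hs⟩ := exists_prime_orderOf_dvd_card' 3 (show 3 ∣ Nat.card st from hst ▸ (by norm_num))
    obtain ⟨n0, hn0⟩ := D.surj (s : A5)
    set JV : Subgroup G := (V.comap D.π).map D.N.subtype with hJV
    have hTJV : T ≤ JV := fun t ht => ⟨⟨t, hTN ht⟩, hπT t ht, rfl⟩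
    obtain ⟨j, hj, hjT⟩ := hinto JV _ (hT.map (MulAut.conj (n0 : G)).toMonoidHom) hTJV (by
      rintro _ ⟨t, ht, rfl⟩
      refine ⟨n0 * ⟨t, hTN ht⟩ * n0⁻¹, ?_, rfl⟩
      show D.π _ ∈ V
      rw [map_mul, map_mul, map_inv, hn0]
      exact hVconj _ s.2 _ (hπT t ht))
    obtain ⟨j', hj', rfl⟩ := hj
    set g : D.N := j' * n0 with hg
    set x := D.π g with hx
    have hxst : x ∈ st := by
      rw [hx, hg, map_mul, hn0]
      exact mul_mem (hVst hj') s.2
    have hxV : x ∉ V := by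
      intro h
      rw [hx, hg, map_mul, hn0] at h
      have hsV : (s : A5) ∈ V := by simpa using mul_mem (inv_mem (show D.π j' ∈ V from hj')) h
      have h2 := hVinv _ hsV
      have h3 : (s : A5) ^ 3 = 1 := by
        rw [← Subgroup.coe_pow, ← hs, pow_orderOf_eq_one, Subgroup.coe_one]
      rw [pow_succ, pow_two, h2, one_mul] at h3
      rw [show s = 1 from Subtype.ext h3, orderOf_one] at hs
      omega
    have hx3' : x ^ 3 = 1 := by
      rcases order_cases x with h | h | h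
      · exact absurd (hVmem x hxst (by rwa [← pow_two])) hxV
      · exact h
      · by_cases h1 : x = 1
        · rw [h1, one_pow]
        · exact absurd (fix_five D.act0 h h1 hxst) hzZ.1
    obtain ⟨k, m, hm, hkm⟩ := Nat.exists_eq_two_pow_mul_odd (orderOf_pos (g : G)).ne'
    have hgJ : (g : G) ∈ J := mem_inf.2 ⟨g.2, (hπJ g).2 hxst⟩
    have hgT : ∀ t ∈ T, (g : G) * t * (g : G)⁻¹ ∈ T := by
      intro t ht
      have := hjT _ ⟨t, ht, rfl⟩
      simpa [hg, mul_assoc] using this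
    refine ⟨(g : G) ^ 2 ^ k, pow_mem hgJ _, ?_, ?_, ?_, ?_⟩
    · exact hm.of_dvd_nat (orderOf_dvd_of_pow_eq_one (by rw [← pow_mul, ← hkm, pow_orderOf_eq_one]))
    · generalize 2 ^ k = e
      induction e with
      | zero => intro t ht; simpa using ht
      | succ e ih =>
        intro t ht
        have := hgT _ (ih t ht)
        rwa [show (g : G) * ((g : G) ^ e * t * ((g : G) ^ e)⁻¹) * (g : G)⁻¹ =
          (g : G) ^ (e + 1) * t * ((g : G) ^ (e + 1))⁻¹ by rw [pow_succ', mul_inv_rev]; group] at this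
    · rw [show (⟨(g : G) ^ 2 ^ k, _⟩ : D.N) = g ^ 2 ^ k from rfl, map_pow, ← hx]
      intro h
      refine hxV ?_
      rw [show x = 1 from orderOf_eq_one_iff.1 (Nat.eq_one_of_dvd_coprimes
        ((show Nat.Coprime 3 2 by norm_num).pow_right k) (orderOf_dvd_of_pow_eq_one hx3')
        (orderOf_dvd_of_pow_eq_one h))]
      exact one_mem _
    · rw [show (⟨(g : G) ^ 2 ^ k, _⟩ : D.N) = g ^ 2 ^ k from rfl, map_pow, ← hx, ← pow_mul, mul_comm,
        pow_mul, hx3', one_pow]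
  obtain ⟨hrN, hrC⟩ := mem_inf.1 hrJ
  set y := D.π ⟨r, hrN⟩ with hy
  have hyst : y ∈ st := (hπJ ⟨r, hrN⟩).1 hrC
  have hycomm : ∀ x ∈ V, x ≠ 1 → y * x * y⁻¹ ≠ x := fun x hx h1 e =>
    h6 (hVinv x hx) h1 hy3 hy1 (mul_inv_eq_iff_eq_mul.1 e).symm
  -- the fixed point of `r`
  obtain ⟨ar, har1, harB⟩ : ∃ a : D.A, D.Φ y a = a ∧ IsB D.Φ a := by
    obtain ⟨hc, h4⟩ := (fix_counts D.act hy1).1 hy3
    have h : ({1} ∪ {a | IsZ D.Φ a ∧ D.Φ y a = a} : Set D.A).ncard < (fixS D.Φ y : Set D.A).ncard := by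
      rw [show (fixS D.Φ y : Set D.A).ncard = 4 from (Nat.card_coe_set_eq _).symm.trans h4]
      exact lt_of_le_of_lt (Set.ncard_union_le _ _) (by rw [hc, Set.ncard_singleton]; norm_num)
    obtain ⟨a, ha, ha'⟩ := Set.exists_mem_notMem_of_ncard_lt_ncard h (Set.toFinite _)
    simp only [Set.mem_union, Set.mem_singleton_iff, not_or] at ha'
    exact ⟨a, ha, (isZ_or_isB D.act ha'.1).resolve_left fun h => ha'.2 ⟨h, ha⟩⟩
  have harW : ar ∉ W0 := by
    intro h
    obtain ⟨x, hx, hx1, hfx⟩ := (hWiff ar).1 h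
    have hxs : x ∈ stabA D.Φ ar := hfx
    have hys : y ∈ stabA D.Φ ar := har1
    have hle : V ≤ stabA D.Φ ar := by
      intro v hv
      rcases hVset x hx _ (hVconj y hyst x hx) hx1 (fun e => hx1 (conj_eq_one_iff.1 e))
        (Ne.symm (hycomm x hx hx1)) v hv with rfl | rfl | rfl | rfl
      · exact one_mem _
      · exact hxs
      · exact mul_mem (mul_mem hys hxs) (inv_mem hys)
      · exact mul_mem hxs (mul_mem (mul_mem hys hxs) (inv_mem hys))
    have := Subgroup.card_dvd_of_le hle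
    rw [hV4, harB.2] at this
    norm_num at this
  have hW0idx : W0.index = 2 := by
    have := Subgroup.card_mul_index W0
    rw [hW8, D.card] at this
    omega
  have hA' : ∀ w : D.A, w ∈ W0 ∨ w * ar ∈ W0 := fun w => by
    by_cases h : w ∈ W0
    · exact Or.inl h
    · exact Or.inr ((Subgroup.mul_mem_iff_of_index_two hW0idx).2 (by simp [h, harW]))
  -- commutators
  have hWc : ∀ w ∈ W0, ∀ x ∈ V, D.Φ x w * w = 1 ∨ D.Φ x w * w = z' := by
    intro w hw x hx
    by_cases h1 : x = 1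
    · left; rw [h1, map_one, MulAut.one_apply, D.act0.sq]
    obtain ⟨x', hx', hx'1, hf⟩ := (hWiff w).1 hw
    by_cases he : x = x'
    · left; rw [he, hf, D.act0.sq]
    refine hFF x hx x' hx' h1 hx'1 he _ ?_ ?_
    · rw [map_mul, hΦ2 x hx, sq_comm D.act0]
    · rw [map_mul, hΦc x' hx' x hx, hf]
  have hCar : ∀ (t : G) (ht : t ∈ T), t * ar * t⁻¹ * (ar : G)⁻¹ ∈ zpowers z → t ∈ D.A := by
    intro t ht hc
    by_contra htA
    set x := D.π ⟨t, hTN ht⟩ with hx
    have hxV := hπT t ht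
    have hx1 : x ≠ 1 := fun e => htA (hA_of_ker t ht e)
    have har : D.Φ x ar * ar = 1 ∨ D.Φ x ar * ar = z' := by
      refine (hzp _ hc).imp (fun e => Subtype.ext ?_) fun e => Subtype.ext ?_ <;>
      · rw [Subgroup.coe_mul, D.Φ_coe]
        rw [D.inv_eq ar.2] at e
        exact e
    have hle : fixS D.Φ x ≤ zpowers z' := by
      intro w hw
      obtain ⟨b, rfl⟩ := exists_comm D.act0 (hVinv x hxV) hx1 hw
      have key : ∀ v, (D.Φ x v * v = 1 ∨ D.Φ x v * v = z') → v * D.Φ x v ∈ zpowers z' := by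
        intro v hv
        rw [sq_comm D.act0]
        rcases hv with e | e <;> rw [e]
        · exact one_mem _
        · exact mem_zpowers _
      rcases hA' b with hb | hb
      · exact key b (hWc b hb x hxV)
      · have h1 := key _ (hWc _ hb x hxV)
        have h2 := key ar har
        have e : b * D.Φ x b = (b * ar * D.Φ x (b * ar)) * (ar * D.Φ x ar) := by
          rw [map_mul]
          calc b * D.Φ x b = b * D.Φ x b * (ar * ar) * (D.Φ x ar * D.Φ x ar) := by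
                rw [D.act0.sq, D.act0.sq, mul_one, mul_one]
            _ = b * (D.Φ x b * ar) * (ar * D.Φ x ar) * D.Φ x ar := by group
            _ = b * ar * D.Φ x b * (D.Φ x ar * ar) * D.Φ x ar := by
                rw [sq_comm D.act0 (D.Φ x b) ar, sq_comm D.act0 ar (D.Φ x ar)]; group
            _ = b * ar * (D.Φ x b * D.Φ x ar) * (ar * D.Φ x ar) := by group
        rw [e]
        exact mul_mem h1 h2
    have hle' := Subgroup.card_le_of_le hle
    rw [hF4 x hxV hx1, Nat.card_zpowers,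
      orderOf_eq_prime (p := 2) (by rw [pow_two, D.act0.sq]) hz'1] at hle'
    omega
  have hWT : ∀ w ∈ W, ∀ t ∈ T, t * w * t⁻¹ * w⁻¹ ∈ zpowers z := by
    intro w hw t ht
    have hwA := hWA hw
    have h := hWc _ ((hWmem hwA).1 hw) _ (hπT t ht)
    rw [D.inv_eq hwA]
    rcases h with e | e <;> have e' := congrArg Subtype.val e <;>
      rw [Subgroup.coe_mul, D.Φ_coe] at e' <;> rw [show t * w * t⁻¹ * w = _ from e']
    · exact one_mem _
    · exact mem_zpowers z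
  have hTsq : ∀ t ∈ T, t * t ∈ W := by
    intro t ht
    have htt : t * t ∈ T := mul_mem ht ht
    set x := D.π ⟨t, hTN ht⟩ with hx
    have h1 : D.π ⟨t * t, hTN htt⟩ = 1 := by
      rw [show (⟨t * t, hTN htt⟩ : D.N) = ⟨t, hTN ht⟩ * ⟨t, hTN ht⟩ from rfl, map_mul]
      exact hVinv _ (hπT t ht)
    have hA := hA_of_ker _ htt h1
    by_cases hx1 : x = 1
    · rw [D.sq_one (hA_of_ker t ht hx1)]; exact one_mem _
    refine (hWmem hA).2 ((hWiff _).2 ⟨x, hπT t ht, hx1, Subtype.ext ?_⟩)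
    rw [D.Φ_coe]
    show t * (t * t) * t⁻¹ = t * t
    group
  have hrfpf : ∀ t ∈ T, r * t * r⁻¹ * t⁻¹ ∈ D.A → t ∈ D.A := by
    intro t ht h
    refine hA_of_ker t ht ?_
    by_contra hx1
    refine hycomm _ (hπT t ht) hx1 ?_
    have h1 := D.π_of_mem h
    rw [show (⟨r * t * r⁻¹ * t⁻¹, D.A_le_N h⟩ : D.N) = ⟨r, hrN⟩ * ⟨t, hTN ht⟩ * ⟨r, hrN⟩⁻¹ * ⟨t, hTN ht⟩⁻¹
      from rfl, map_mul, map_mul, map_mul, map_inv, map_inv, mul_inv_eq_one] at h1
    exact h1
  have hrW : ∀ w ∈ W, r * w * r⁻¹ * w⁻¹ ∈ zpowers z → w ∈ zpowers z := by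
    intro w hw h
    have hwA := hWA hw
    obtain ⟨x, hx, hx1, hfx⟩ := (hWiff _).1 ((hWmem hwA).1 hw)
    set w' : D.A := ⟨w, hwA⟩ with hw'
    have hyw : ((D.Φ y w' : D.A) : G) = r * w * r⁻¹ := D.Φ_coe ⟨r, hrN⟩ w'
    have hfy : D.Φ x (D.Φ y w') = D.Φ y w' := by
      rcases hzp _ h with e | e
      · have : D.Φ y w' = w' := Subtype.ext (hyw.trans (mul_inv_eq_one.1 e))
        rw [this, hfx]
      · have : D.Φ y w' = z' * w' := Subtype.ext (hyw.trans (mul_inv_eq_iff_eq_mul.1 e))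
        rw [this, map_mul, hfx, show D.Φ x z' = z' from hzF x hx]
    have hfy' : D.Φ (y * x * y⁻¹) (D.Φ y w') = D.Φ y w' := by
      rw [← MulAut.mul_apply, ← map_mul, inv_mul_cancel_right, map_mul, MulAut.mul_apply, hfx]
    rcases hFF x hx _ (hVconj y hyst x hx) hx1 (fun e => hx1 (conj_eq_one_iff.1 e))
      (Ne.symm (hycomm x hx hx1)) _ hfy hfy' with e | e
    · rw [show w = 1 from congrArg Subtype.val ((D.Φ y).injective (e.trans (map_one _).symm))]
      exact one_mem _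
    · have : w' = z' := (D.Φ y).injective (e.trans (show D.Φ y z' = z' from hyst).symm)
      rw [show w = z from congrArg Subtype.val this]
      exact mem_zpowers z
  have hr3 : ∀ t ∈ T, r ^ 3 * t = t * r ^ 3 := by
    intro t ht
    have hk : r ^ 3 ∈ D.K := D.mem_K_of_ker (n := (⟨r, hrN⟩ : D.N) ^ 3)
      (by rw [map_pow]; exact hy3)
      (by rw [Subgroup.coe_pow]; exact hrodd.of_dvd_nat (orderOf_pow_dvd 3))
    have hT' : r ^ 3 * t * (r ^ 3)⁻¹ ∈ T := by
      have := hrT _ (hrT _ (hrT _ ht))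
      rwa [show r * (r * (r * t * r⁻¹) * r⁻¹) * r⁻¹ = r ^ 3 * t * (r ^ 3)⁻¹ by
        simp only [pow_succ, pow_zero, one_mul]; group] at this
    have hmT : r ^ 3 * t * (r ^ 3)⁻¹ * t⁻¹ ∈ T := mul_mem hT' (inv_mem ht)
    have hmK : r ^ 3 * t * (r ^ 3)⁻¹ * t⁻¹ ∈ D.K := by
      rw [show r ^ 3 * t * (r ^ 3)⁻¹ * t⁻¹ = r ^ 3 * (t * (r ^ 3)⁻¹ * t⁻¹) by group]
      exact mul_mem hk (D.K_conj (hTN ht) (inv_mem hk))
    obtain ⟨i, hi⟩ := hT ⟨_, hmT⟩
    have h1 := eq_one_of_odd_pow_two (k := i) (congrArg Subtype.val hi) (D.odd_of_mem_K hmK)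
    rw [mul_inv_eq_one] at h1
    exact mul_inv_eq_iff_eq_mul.1 h1
  -- the involution
  obtain ⟨uu, huT, hu2, huA⟩ : ∃ u ∈ T, u * u = 1 ∧ u ∉ D.A := by
    obtain ⟨u0, hu0, hu01, -, -⟩ := D.classes
    obtain ⟨g, hg⟩ := conj_invol (D.π_sq hu0) hu01 (hVinv x1 hx1V) hx11
    obtain ⟨g, rfl⟩ := D.surj g
    set v : D.N := g * u0 * g⁻¹ with hv
    have hvV : D.π v = x1 := by rw [hv, map_mul, map_mul, map_inv, hg]
    have hv2 : (v : G) * v = 1 := by
      rw [hv, Subgroup.coe_mul, Subgroup.coe_mul, Subgroup.coe_inv]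
      calc (g : G) * u0 * (g : G)⁻¹ * (g * u0 * (g : G)⁻¹) = g * (u0 * u0) * (g : G)⁻¹ := by group
        _ = 1 := by rw [hu0, mul_one, mul_inv_cancel]
    set JV : Subgroup G := (V.comap D.π).map D.N.subtype with hJV
    have hTJV : T ≤ JV := fun t ht => ⟨⟨t, hTN ht⟩, hπT t ht, rfl⟩
    have hvp : IsPGroup 2 (zpowers (v : G)) := by
      refine IsPGroup.of_card (n := 1) ?_
      rw [Nat.card_zpowers, pow_one]
      refine orderOf_eq_prime (by rw [pow_two, hv2]) fun e => hx11 ?_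
      rw [← hvV, show v = 1 from Subtype.ext e, map_one]
    obtain ⟨j, hj, hjv⟩ := hinto JV _ hvp hTJV (zpowers_le.2 ⟨v, show D.π v ∈ V from hvV ▸ hx1V, rfl⟩)
    obtain ⟨j', hj', rfl⟩ := hj
    refine ⟨_, hjv _ (mem_zpowers _), ?_, fun h => ?_⟩
    · calc (j' : G) * v * (j' : G)⁻¹ * (j' * v * (j' : G)⁻¹) = j' * (v * v) * (j' : G)⁻¹ := by group
        _ = 1 := by rw [hv2, mul_one, mul_inv_cancel]
    · have h1 := D.π_of_mem h
      rw [show (⟨_, D.A_le_N h⟩ : D.N) = j' * v * j'⁻¹ from rfl, map_mul, map_mul, map_inv,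
        conj_eq_one_iff, hvV] at h1
      exact hx11 h1
  set u2 := r * uu * r⁻¹ with hu2def
  have hu2T : u2 ∈ T := hrT _ huT
  have hwT : uu * u2 ∈ T := mul_mem huT hu2T
  set a1 := D.π ⟨uu, hTN huT⟩ with ha1def
  have ha1V := hπT uu huT
  have ha11 : a1 ≠ 1 := fun e => huA (hA_of_ker uu huT e)
  have hπw : D.π ⟨uu * u2, hTN hwT⟩ = a1 * (y * a1 * y⁻¹) := by
    rw [show (⟨uu * u2, hTN hwT⟩ : D.N) = ⟨uu, hTN huT⟩ * (⟨r, hrN⟩ * ⟨uu, hTN huT⟩ * ⟨r, hrN⟩⁻¹)
      from rfl, map_mul, map_mul, map_mul, map_inv]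
  have hw1 : a1 * (y * a1 * y⁻¹) ≠ 1 := fun e => hycomm a1 ha1V ha11
    ((inv_eq_of_mul_eq_one_right e).symm.trans (inv_eq_of_mul_eq_one_right (hVinv a1 ha1V)))
  have hwA : uu * u2 ∉ D.A := fun h => hw1 (by rw [← hπw]; exact D.π_of_mem h)
  have hw2 : uu * u2 * (uu * u2) ∈ zpowers z := by
    have hA : uu * u2 * (uu * u2) ∈ D.A := hWA (hTsq _ hwT)
    have hui : uu⁻¹ = uu := inv_eq_of_mul_eq_one_right hu2
    have hu22 : u2 * u2 = 1 := by
      rw [hu2def, show r * uu * r⁻¹ * (r * uu * r⁻¹) = r * (uu * uu) * r⁻¹ by group, hu2, mul_one,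
        mul_inv_cancel]
    have hu2i : u2⁻¹ = u2 := inv_eq_of_mul_eq_one_right hu22
    have hfix1 : D.Φ a1 ⟨_, hA⟩ = ⟨_, hA⟩ := by
      refine Subtype.ext ?_
      rw [D.Φ_coe]
      show uu * (uu * u2 * (uu * u2)) * uu⁻¹ = uu * u2 * (uu * u2)
      rw [hui]
      calc uu * (uu * u2 * (uu * u2)) * uu = (uu * uu) * u2 * uu * u2 * uu := by group
        _ = u2 * uu * (u2 * uu) := by rw [hu2, one_mul]; group
        _ = (uu * u2 * (uu * u2))⁻¹ := by simp only [mul_inv_rev, hui, hu2i]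
        _ = uu * u2 * (uu * u2) := D.inv_eq hA
    have hfix2 : D.Φ (a1 * (y * a1 * y⁻¹)) ⟨_, hA⟩ = ⟨_, hA⟩ := by
      refine Subtype.ext ?_
      rw [← hπw, D.Φ_coe]
      show uu * u2 * (uu * u2 * (uu * u2)) * (uu * u2)⁻¹ = uu * u2 * (uu * u2)
      group
    rcases hFF a1 ha1V _ (mul_mem ha1V (hVconj y hyst a1 ha1V)) ha11 hw1
      (fun e => ha11 (conj_eq_one_iff.1 (mul_eq_left.1 e.symm))) _ hfix1 hfix2 with e | e
    · rw [show uu * u2 * (uu * u2) = 1 from congrArg Subtype.val e]; exact one_mem _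
    · rw [show uu * u2 * (uu * u2) = z from congrArg Subtype.val e]; exact mem_zpowers z
  -- the quotient
  haveI := H1.pPrimeCore_normal' 2 ↥C
  set q1 := QuotientGroup.mk' (Cfsg.pPrimeCore 2 ↥C) with hq1
  set z1 := q1 ⟨z, hzC⟩ with hz1
  have hq1s : Function.Surjective q1 := QuotientGroup.mk'_surjective _
  have hz1c : ∀ x ∈ zpowers z1, ∀ w, x * w = w * x := by
    rintro _ ⟨i, rfl⟩ w
    obtain ⟨c, rfl⟩ := hq1s w
    have h : Commute z1 (q1 c) := (show Commute (⟨z, hzC⟩ : C) c from Subtype.ext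
      (mem_centralizer_singleton_iff.1 c.2).symm).map q1
    exact (h.zpow_left i).eq
  haveI : (zpowers z1).Normal := ⟨fun x hx g => by
    rwa [show g * x * g⁻¹ = x by rw [← hz1c x hx g, mul_inv_cancel_right]]⟩
  set q : C →* _ ⧸ zpowers z1 := (QuotientGroup.mk' (zpowers z1)).comp q1 with hq
  have hqs : Function.Surjective q := (QuotientGroup.mk'_surjective _).comp hq1s
  have hkerO : ∀ c : C, q c = 1 → ∃ x ∈ zpowers z, x⁻¹ * (c : G) ∈ Oc z := by
    intro c hc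
    have h1 : q1 c ∈ zpowers z1 := (QuotientGroup.eq_one_iff (q1 c)).1 hc
    obtain ⟨i, hi⟩ := h1
    refine ⟨z ^ i, zpow_mem (mem_zpowers z) i, ?_⟩
    have h2 : ((⟨z, hzC⟩ : C) ^ i)⁻¹ * c ∈ Cfsg.pPrimeCore 2 ↥C := by
      refine (QuotientGroup.eq_one_iff _).1 ?_
      show q1 _ = 1
      rw [map_mul, map_inv, map_zpow, ← hz1, show z1 ^ i = q1 c from hi, inv_mul_cancel]
    exact ⟨_, h2, by simp⟩
  have hkerT : ∀ c : C, (c : G) ∈ T → q c = 1 → (c : G) ∈ zpowers z := by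
    intro c hcT hc
    obtain ⟨x, hx, hxc⟩ := hkerO c hc
    have hxT : x ∈ T := (zpowers_le.2 (hAT hzA)) hx
    obtain ⟨i, hi⟩ := hT ⟨_, mul_mem (inv_mem hxT) hcT⟩
    have h1 := eq_one_of_odd_pow_two (k := i) (congrArg Subtype.val hi) (odd_of_mem (Oc_card z) hxc)
    rw [inv_mul_eq_one] at h1
    exact h1 ▸ hx
  have hqz : ∀ c : C, (c : G) ∈ zpowers z → q c = 1 := by
    intro c hc
    have hqzz : q ⟨z, hzC⟩ = 1 := (QuotientGroup.eq_one_iff _).2 (mem_zpowers z1)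
    rcases hzp _ hc with e | e
    · rw [show c = 1 from Subtype.ext e, map_one]
    · rw [show c = ⟨z, hzC⟩ from Subtype.ext e]; exact hqzz
  set im : Subgroup G → Subgroup (_ ⧸ zpowers z1) := fun L => (L.subgroupOf C).map q with him
  have himcard : ∀ L : Subgroup G, L ≤ T → z ∈ L → 2 * Nat.card (im L) = Nat.card L := by
    intro L hL hzL
    let f := q.comp (Subgroup.inclusion (hL.trans hTC))
    have hr : f.range = im L := by
      ext w
      constructor
      · rintro ⟨c, rfl⟩; exact ⟨_, c.2, rfl⟩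
      · rintro ⟨c, hc, rfl⟩; exact ⟨⟨c, hc⟩, rfl⟩
    have hk : Nat.card f.ker = 2 := by
      have e : Nat.card f.ker = Nat.card (zpowers z) := Nat.card_congr
        ⟨fun c => ⟨c.1, hkerT (Subgroup.inclusion (hL.trans hTC) c.1) (hL c.1.2) c.2⟩,
          fun x => ⟨⟨x, (zpowers_le.2 hzL) x.2⟩,
            hqz (Subgroup.inclusion (hL.trans hTC) ⟨x, (zpowers_le.2 hzL) x.2⟩) x.2⟩,
          fun c => rfl, fun x => rfl⟩
      rw [e, Nat.card_zpowers, D.orderOf_two hzA hzg]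
    have h := Subgroup.card_mul_index f.ker
    rw [Subgroup.index_ker, hk, hr] at h
    exact h
  obtain ⟨R, hR⟩ := (hT.comap_subtype (K := C)).exists_le_sylow
  have hRT : (R : Subgroup C) = T.subgroupOf C := by
    refine le_antisymm (fun c hc => ?_) hR
    have := hTmax _ (R.2.map C.subtype) (fun t ht => ⟨⟨t, hTC ht⟩, hR ht, rfl⟩)
    exact (this ▸ ⟨c, hc, rfl⟩ : (c : G) ∈ T)
  have hlift : ∀ c : C, IsPGroup 2 (zpowers (c : G)) → q c ∈ im T →
      ∃ k : C, q k = 1 ∧ (k : G) * c * (k : G)⁻¹ ∈ T := by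
    intro c hc hcT
    set JT : Subgroup G := ((im T).comap q).map C.subtype with hJT
    obtain ⟨j, hj, hjc⟩ := hinto JT _ hc (fun t ht => ⟨⟨t, hTC ht⟩, ⟨_, ht, rfl⟩, rfl⟩)
      (zpowers_le.2 ⟨c, hcT, rfl⟩)
    obtain ⟨j', ⟨t, ht, hte⟩, rfl⟩ := hj
    refine ⟨t⁻¹ * j', by rw [map_mul, map_inv, hte, inv_mul_cancel], ?_⟩
    have h := mul_mem (mul_mem (inv_mem (show (t : G) ∈ T from ht)) (hjc _ (mem_zpowers _)))
      (show (t : G) ∈ T from ht)
    simpa [mul_assoc] using h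
  have hconjA : ∀ (g : C) (a : G) (ha : a ∈ D.A), q (g * ⟨a, hAC ha⟩ * g⁻¹) ∈ im T →
      ∃ k : C, q k = 1 ∧ ((k * g : C) : G) * a * ((k * g : C) : G)⁻¹ ∈ D.A := by
    intro g a ha h
    obtain ⟨k, hk, hkT⟩ := hlift _ (by
      obtain ⟨i, -, hi⟩ := (Nat.dvd_prime_pow Nat.prime_two).1
        (show orderOf (((g * ⟨a, hAC ha⟩ * g⁻¹ : C) : G)) ∣ 2 ^ 1 by
          rw [Subgroup.coe_mul, Subgroup.coe_mul, Subgroup.coe_inv, orderOf_conj_eq, pow_one]
          exact orderOf_dvd_of_pow_eq_one (D.el.2 a ha))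
      exact IsPGroup.of_card (n := i) (by rw [Nat.card_zpowers, hi])) h
    refine ⟨k, hk, D.mem_A_of_pgroup hT hAT ha ?_⟩
    simpa [mul_assoc] using hkT
  have hqA : ∀ t : C, (t : G) ∈ T → q t ∈ im D.A → (t : G) ∈ D.A := by
    rintro t ht ⟨a, ha, he⟩
    have h := hkerT (a⁻¹ * t) (mul_mem (inv_mem (hAT ha)) ht) (by rw [map_mul, map_inv, he, inv_mul_cancel])
    have := mul_mem (show (a : G) ∈ D.A from ha) ((zpowers_le.2 hzA) h)
    rwa [Subgroup.coe_mul, Subgroup.coe_inv, mul_inv_cancel_left] at this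
  have hzW : z ∈ W := (hWmem hzA).2 hzW0
  set arC : C := ⟨ar, hAC ar.2⟩ with harC
  have hnormal := (QData.normal_Ab
    { T := R.mapSurjective hqs
      Ab := im D.A
      Vb := im W
      a := q arC
      r := q ⟨r, hrC⟩
      u := q ⟨uu, hTC huT⟩
      core := pPrimeCore_quot_eq_bot (H1.pPrimeCore_quotient_pPrimeCore 2) _ hz1c
      hVA := Subgroup.map_mono (Subgroup.comap_mono hWA)
      hAT := by rw [Sylow.coe_mapSurjective, hRT]; exact Subgroup.map_mono (Subgroup.comap_mono hAT)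
      cardT := by
        rw [Sylow.coe_mapSurjective, hRT]
        have := himcard T le_rfl (hAT hzA)
        rw [hT64] at this
        show Nat.card (im T) = 32
        omega
      cardV := by
        have := himcard W (hWA.trans hAT) hzW
        rw [show Nat.card W = 8 from (Nat.card_congr (equivMapOfInjective _ _
          D.A.subtype_injective).toEquiv).symm.trans hW8] at this
        show Nat.card (im W) = 4
        omega
      ha := ⟨arC, ar.2, rfl⟩
      haV := by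
        rintro ⟨w, hw, he⟩
        have h := hkerT (w⁻¹ * arC) (mul_mem (inv_mem (hAT (hWA hw))) (hAT ar.2))
          (by rw [map_mul, map_inv, he, inv_mul_cancel])
        have := mul_mem (show (w : G) ∈ W from hw) ((zpowers_le.2 hzW) h)
        rw [Subgroup.coe_mul, Subgroup.coe_inv, mul_inv_cancel_left] at this
        exact harW ((hWmem ar.2).1 this)
      ha2 := by
        rw [← map_mul, show arC * arC = 1 from Subtype.ext (D.sq_one ar.2), map_one]
      hA := by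
        rintro _ ⟨a, ha, rfl⟩
        rcases hA' ⟨a, ha⟩ with h | h
        · exact Or.inl ⟨a, ⟨_, h, rfl⟩, rfl⟩
        · exact Or.inr ⟨a * arC, ⟨_, h, rfl⟩, map_mul _ _ _⟩
      hVc := by
        rw [Sylow.coe_mapSurjective, hRT]
        rintro _ ⟨w, hw, rfl⟩ _ ⟨t, ht, rfl⟩
        have h := hqz (t * w * t⁻¹ * w⁻¹) (by simpa using hWT w hw t ht)
        rw [map_mul, mul_eq_one_iff_eq_inv, map_inv, inv_inv, map_mul, map_mul, map_inv,
          mul_inv_eq_iff_eq_mul] at h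
        exact h.symm
      hVsc := by
        rw [Sylow.coe_mapSurjective, hRT]
        rintro _ ⟨w, hw, rfl⟩ g hg
        obtain ⟨g, rfl⟩ := hqs g
        have hwA := hWA hw
        rw [← map_inv, ← map_mul, ← map_mul] at hg ⊢
        obtain ⟨k, hk, hkA⟩ := hconjA g w hwA hg
        obtain ⟨n, hn, hne⟩ := D.fusion (H := C) hAC hwA hkA (k * g).2 rfl
        refine ⟨k * g * w * (k * g)⁻¹, ?_, by
          simp only [map_mul, map_inv, hk, one_mul, mul_one, inv_one, mul_inv_rev]⟩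
        show ((k * g * w * (k * g)⁻¹ : C) : G) ∈ W
        simp only [Subgroup.coe_mul, Subgroup.coe_inv] at hne ⊢
        rw [← hne]
        exact hWJ n hn w hw
      hAsc := by
        rw [Sylow.coe_mapSurjective, hRT]
        rintro _ ⟨a, ha, rfl⟩ g hg
        obtain ⟨g, rfl⟩ := hqs g
        rw [← map_inv, ← map_mul, ← map_mul] at hg ⊢
        obtain ⟨k, hk, hkA⟩ := hconjA g a ha hg
        exact ⟨k * g * a * (k * g)⁻¹, hkA, by
          simp only [map_mul, map_inv, hk, one_mul, mul_one, inv_one, mul_inv_rev]⟩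
      hCa := by
        rw [Sylow.coe_mapSurjective, hRT]
        rintro _ ⟨t, ht, rfl⟩ he
        have h := hkerT (t * arC * t⁻¹ * arC⁻¹)
          (mul_mem (mul_mem (mul_mem ht (hAT ar.2)) (inv_mem ht)) (inv_mem (hAT ar.2)))
          (by simp only [map_mul, map_inv, he, mul_inv_cancel_right, mul_inv_cancel])
        exact ⟨t, hCar t ht (by simpa using h), rfl⟩
      hsq := by
        rw [Sylow.coe_mapSurjective, hRT]
        rintro _ ⟨t, ht, rfl⟩
        exact ⟨t * t, hTsq t ht, map_mul _ _ _⟩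
      hra := by
        rw [← map_mul, ← map_mul]
        refine congrArg q (Subtype.ext ?_)
        show r * (ar : G) = ar * r
        exact D.commute_of_π_mem_stab (n := ⟨r, hrN⟩) ar.2 har1
      hrodd := (hrodd).of_dvd_nat ((orderOf_map_dvd q ⟨r, hrC⟩).trans (by rw [Subgroup.orderOf_mk]))
      hrT := by
        rw [Sylow.coe_mapSurjective, hRT]
        rintro _ ⟨t, ht, rfl⟩
        exact ⟨⟨r, hrC⟩ * t * ⟨r, hrC⟩⁻¹, hrT t ht, by simp only [map_mul, map_inv]⟩
      hr3 := by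
        rw [Sylow.coe_mapSurjective, hRT]
        rintro _ ⟨t, ht, rfl⟩
        rw [← map_pow, ← map_mul, ← map_mul]
        exact congrArg q (Subtype.ext (hr3 t ht))
      hrfpf := by
        rw [Sylow.coe_mapSurjective, hRT]
        rintro _ ⟨t, ht, rfl⟩ he
        rw [← map_inv, ← map_inv, ← map_mul, ← map_mul, ← map_mul] at he
        exact ⟨t, hrfpf t ht (hqA _ (mul_mem (hrT t ht) (inv_mem ht)) he), rfl⟩
      hrV := by
        rintro _ ⟨w, hw, rfl⟩ he
        rw [← map_inv, ← map_mul, ← map_mul] at he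
        have h := hkerT (⟨r, hrC⟩ * w * ⟨r, hrC⟩⁻¹ * w⁻¹)
          (mul_mem (hrT _ (hAT (hWA hw))) (inv_mem (hAT (hWA hw))))
          (by rw [map_mul, he, map_inv, mul_inv_cancel])
        exact hqz w (hrW w hw (by simpa using h))
      hu := by rw [Sylow.coe_mapSurjective, hRT]; exact ⟨_, huT, rfl⟩
      hw := by
        rw [← map_inv, ← map_mul, ← map_mul, ← map_mul, ← map_mul]
        exact hqz _ (by simpa using hw2)
      hwA := by
        intro he
        rw [← map_inv, ← map_mul, ← map_mul, ← map_mul] at he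
        exact hwA (hqA _ hwT he) })
  refine D.good_of_normal hzA fun c hc a ha => ?_
  obtain ⟨a', ha', he⟩ := hnormal (q ⟨c, hc⟩) (q ⟨a, hAC ha⟩) ⟨_, ha, rfl⟩
  rw [← map_inv, ← map_mul, ← map_mul] at he
  obtain ⟨x, hx, hxc⟩ := hkerO (a'⁻¹ * (⟨c, hc⟩ * ⟨a, hAC ha⟩ * ⟨c, hc⟩⁻¹))
    (by rw [map_mul, map_inv, he, inv_mul_cancel])
  have h : (a' : G) * (x * (x⁻¹ * ((a' : G)⁻¹ * (c * a * c⁻¹)))) ∈ D.A ⊔ Oc z :=
    mul_mem (mem_sup_left ha') (mul_mem (mem_sup_left ((zpowers_le.2 hzA) hx)) (mem_sup_right (by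
      simpa using hxc)))
  rwa [mul_inv_cancel_left, mul_inv_cancel_left] at h

end Data

end H8.E16
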