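import Cfsg.Agent.H8.E16.Cz
import Mathlib.GroupTheory.SpecificGroups.Alternating

/-!
Groups with Sylow 2-subgroups of type A8, three classes of involutions and an elementary abelian
subgroup of order 16 with automiser A5 (helper8).
-/

set_option autoImplicit false
set_option linter.style.haveILetI false
set_option linter.unusedSectionVars false

namespace H8.E16

open Subgroup

/-- An element of order four. -/
def xEight : alternatingGroup (Fin 8) :=
  ⟨Equiv.swap 0 1 * Equiv.swap 1 2 * Equiv.swap 2 3 * Equiv.swap 4 5,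
    Equiv.Perm.mem_alternatingGroup.2 (by decide)⟩

/-- An involution inverting it. -/
def yEight : alternatingGroup (Fin 8) :=
  ⟨Equiv.swap 1 3 * Equiv.swap 6 7, Equiv.Perm.mem_alternatingGroup.2 (by decide)⟩

set_option maxRecDepth 20000 in
theorem eight_rel : xEight ^ 2 ^ 2 = 1 ∧ yEight ^ 2 ^ 1 = 1 ∧ yEight * xEight * yEight⁻¹ = xEight⁻¹ ∧
    xEight * yEight ≠ yEight * xEight := by decide

theorem sylow_eight (P : Sylow 2 (alternatingGroup (Fin 8))) :
    Nat.card (P : Subgroup (alternatingGroup (Fin 8))) = 64 ∧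
      ¬ IsMulCommutative ↥(P : Subgroup (alternatingGroup (Fin 8))) := by
  haveI : Fact (Nat.Prime 2) := ⟨Nat.prime_two⟩
  refine ⟨?_, fun hc => ?_⟩
  · have hcard : Nat.card (alternatingGroup (Fin 8)) = 2 ^ 6 * 315 := by
      rw [nat_card_alternatingGroup, Nat.card_fin]
      decide
    rw [P.card_eq_multiplicity, hcard, Nat.factorization_mul (by norm_num) (by norm_num),
      Finsupp.add_apply, Nat.prime_two.factorization_pow, Finsupp.single_eq_same,
      Nat.factorization_eq_zero_of_not_dvd (by norm_num)]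
    norm_num
  · obtain ⟨h4, h2, hinv, hne⟩ := eight_rel
    have hX : IsPGroup 2 (zpowers xEight) := by
      obtain ⟨i, -, hi⟩ := (Nat.dvd_prime_pow Nat.prime_two).1 (orderOf_dvd_of_pow_eq_one h4)
      exact IsPGroup.of_card (n := i) (by rw [Nat.card_zpowers, hi])
    have hn : yEight ∈ normalizer (zpowers xEight : Set (alternatingGroup (Fin 8))) := by
      have hy2 : yEight * yEight = 1 := by rw [← pow_two]; exact h2
      have key : ∀ g ∈ zpowers xEight, yEight * g * yEight⁻¹ ∈ zpowers xEight := by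
        rintro _ ⟨i, rfl⟩
        show yEight * xEight ^ i * yEight⁻¹ ∈ _
        rw [← conj_zpow, hinv]
        exact zpow_mem (inv_mem (mem_zpowers _)) i
      refine mem_normalizer_iff.2 fun g => ⟨key g, fun h => ?_⟩
      have := key _ h
      rwa [show yEight * (yEight * g * yEight⁻¹) * yEight⁻¹ = yEight * yEight * g * (yEight * yEight)⁻¹ by
        group, hy2, one_mul, inv_one, mul_one] at this
    obtain ⟨Q, hQ⟩ := (isPGroup_sup_zpowers hX h2 hn).exists_le_sylow
    let e := Sylow.equiv Q P
    refine hne ?_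
    have h := e.injective (show e (⟨xEight, hQ (mem_sup_left (mem_zpowers _))⟩ *
      ⟨yEight, hQ (mem_sup_right (mem_zpowers _))⟩) = e (⟨yEight, hQ (mem_sup_right (mem_zpowers _))⟩ *
      ⟨xEight, hQ (mem_sup_left (mem_zpowers _))⟩) by
        rw [map_mul, map_mul]; exact hc.is_comm.comm _ _)
    exact congrArg Subtype.val h

universe u

variable {G : Type u} [Group G] [Finite G]

theorem normal_of_hyp (S : Sylow 2 G) (P : Sylow 2 ↥(alternatingGroup (Fin 8)))
    (hS : Nonempty (↥(S : Subgroup G) ≃* ↥(P : Subgroup ↥(alternatingGroup (Fin 8)))))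
    (h3 : Nat.card {c : ConjClasses G // ∃ x ∈ c.carrier, orderOf x = 2} = 3)
    (A : Subgroup G) (hA : Cfsg.IsElementaryAbelian 2 A) (hA16 : Nat.card ↥A = 16)
    (N : Subgroup G) (hN : N = Subgroup.normalizer (A : Set G))
    (hNA : ∃ (_ : (A.subgroupOf N ⊔ Cfsg.oddCore ↥N).Normal),
      Nonempty (↥N ⧸ (A.subgroupOf N ⊔ Cfsg.oddCore ↥N) ≃* ↥(alternatingGroup (Fin 5)))) :
    (A ⊔ Cfsg.oddCore G).Normal := by
  subst hN
  haveI : Fact (Nat.Prime 2) := ⟨Nat.prime_two⟩
  obtain ⟨hn, ⟨e⟩⟩ := hNA
  obtain ⟨f⟩ := hS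
  haveI := hn
  let D : Data G :=
    { A := A
      π := e.toMonoidHom.comp (QuotientGroup.mk' _)
      surj := e.surjective.comp (QuotientGroup.mk'_surjective _)
      ker := by
        rw [← MonoidHom.comap_ker, (MonoidHom.ker_eq_bot_iff _).2 e.injective, MonoidHom.comap_bot,
          QuotientGroup.ker_mk']
      el := hA
      card := hA16
      three := h3
      syl := fun S' => by
        obtain ⟨g⟩ : Nonempty (↥(S' : Subgroup G) ≃* ↥(P : Subgroup ↥(alternatingGroup (Fin 8)))) :=
          ⟨(Sylow.equiv S' S).trans f⟩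
        refine ⟨(Nat.card_congr g.toEquiv).trans (sylow_eight P).1, fun hc => (sylow_eight P).2 ⟨⟨fun a b => ?_⟩⟩⟩
        obtain ⟨a, rfl⟩ := g.surjective a
        obtain ⟨b, rfl⟩ := g.surjective b
        rw [← map_mul, ← map_mul, hc.is_comm.comm] }
  refine D.normal_of_good fun a ha ha1 => ?_
  rcases D.isZg_or_isBg ha ha1 with h | h
  · exact D.good_Z h
  · exact D.good_B (fun z hz => D.good_Z hz) h

end H8.E16
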