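import Cfsg.Agent.H8.E16.Setup

/-!
Fusion of the elements of `A`: two classes, strong closure, weak closure and control of fusion in
overgroups of `A` (helper8).
-/

set_option autoImplicit false
set_option linter.style.haveILetI false
set_option linter.unusedSectionVars false

namespace H8.E16

open Subgroup

universe u

namespace Data

variable {G : Type u} [Group G] [Finite G] (D : Data G)

/-- An element of the small orbit. -/
def IsZg (a : G) : Prop := ∃ h : a ∈ D.A, IsZ D.Φ ⟨a, h⟩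

/-- An element of the large orbit. -/
def IsBg (a : G) : Prop := ∃ h : a ∈ D.A, IsB D.Φ ⟨a, h⟩

theorem π_sq {u : D.N} (hu : (u : G) * u = 1) : D.π u * D.π u = 1 := by
  rw [← map_mul, show u * u = 1 from Subtype.ext hu, map_one]

theorem π_coe_eq {x y : D.N} (h : (x : G) = y) : D.π x = D.π y := by rw [Subtype.ext h]

/-- Involutions outside `A` with the same image are conjugate. -/
theorem outside_conj_same {u v : D.N} (hu : (u : G) * u = 1) (hv : (v : G) * v = 1)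
    (hu1 : D.π u ≠ 1) (he : D.π v = D.π u) : ∃ n ∈ D.N, n * u * n⁻¹ = (v : G) := by
  have hd : D.π (u⁻¹ * v) = 1 := by rw [map_mul, map_inv, he, inv_mul_cancel]
  obtain ⟨a, ha, o, ho, e⟩ := D.mem_ker_iff.1 hd
  have hui : (u : G)⁻¹ = u := inv_eq_of_mul_eq_one_right hu
  have e' : (v : G) = u * (a * o) := by
    rw [← e, Subgroup.coe_mul, Subgroup.coe_inv, mul_inv_cancel_left]
  have hua : (u : G) * a * u ∈ D.A := by
    have := (mem_normalizer_iff.1 u.2 a).1 ha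
    rwa [hui] at this
  have huo : (u : G) * o * u ∈ D.K := by
    have := D.K_conj u.2 ho
    rwa [hui] at this
  have hinv : (u : G) * (a * o) * u = (a * o)⁻¹ := by
    refine eq_inv_of_mul_eq_one_left ?_
    calc (u : G) * (a * o) * u * (a * o) = (u * (a * o)) * (u * (a * o)) := by group
      _ = 1 := by rw [← e', hv]
  have hsplit : (u : G) * a * u = a ∧ (u : G) * o * u = o⁻¹ := by
    have h1 : ((u : G) * a * u) * ((u : G) * o * u) = a * o⁻¹ := by
      calc ((u : G) * a * u) * ((u : G) * o * u) = u * a * (u * u) * o * u := by group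
        _ = u * (a * o) * u := by rw [hu]; group
        _ = o⁻¹ * a⁻¹ := by rw [hinv, mul_inv_rev]
        _ = o⁻¹ * a := by rw [D.inv_eq ha]
        _ = a * o⁻¹ := ((D.commute_K ha (inv_mem ho)).eq).symm
    have h2 : a⁻¹ * ((u : G) * a * u) ∈ D.A ⊓ D.K := by
      refine mem_inf.2 ⟨mul_mem (inv_mem ha) hua, ?_⟩
      have : a⁻¹ * ((u : G) * a * u) = o⁻¹ * ((u : G) * o * u)⁻¹ := by
        rw [inv_mul_eq_iff_eq_mul, ← mul_assoc, ← h1, mul_inv_cancel_right]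
      rw [this]
      exact mul_mem (inv_mem ho) (inv_mem huo)
    rw [D.inf_K, mem_bot, inv_mul_eq_one] at h2
    refine ⟨h2.symm, ?_⟩
    rw [← h2] at h1
    exact mul_left_cancel h1
  -- `a` is a commutator with `u`
  obtain ⟨b, hb⟩ := exists_comm D.act0 (D.π_sq hu) hu1 (c := ⟨a, ha⟩)
    (Subtype.ext (by rw [D.Φ_coe, hui]; exact hsplit.1))
  have hb' : (b : G) * (u * b * u) = a := by
    have := congrArg Subtype.val hb
    rw [Subgroup.coe_mul, D.Φ_coe, hui] at this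
    exact this
  -- `o` is the square of an inverted element
  obtain ⟨m, hm⟩ := D.odd_of_mem_K ho
  set h := o ^ (m + 1) with hh
  have hho : h * h = o := by
    rw [hh, ← pow_add, show m + 1 + (m + 1) = orderOf o + 1 by omega, pow_succ, pow_orderOf_eq_one,
      one_mul]
  have hhK : h ∈ D.K := pow_mem ho _
  have hhu : (u : G) * h * u = h⁻¹ := by
    have := conj_pow (i := m + 1) (a := (u : G)) (b := o)
    rw [hui] at this
    rw [hh, ← this, hsplit.2, inv_pow]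
  refine ⟨h⁻¹ * b, mul_mem (inv_mem (D.K_le hhK)) (D.A_le_N b.2), ?_⟩
  have hbu : (b : G) * u * (b : G)⁻¹ = u * a := by
    have hua' : Commute (b : G) (u * b * u) := D.comm b.2 (by
      have := (mem_normalizer_iff.1 u.2 (b : G)).1 b.2
      rwa [hui] at this)
    calc (b : G) * u * (b : G)⁻¹ = (u * u) * b * u * (b : G) := by rw [D.inv_eq b.2, hu, one_mul]
      _ = u * ((u * b * u) * b) := by group
      _ = u * a := by rw [← hua'.eq, hb']
  calc h⁻¹ * (b : G) * u * (h⁻¹ * (b : G))⁻¹ = h⁻¹ * ((b : G) * u * (b : G)⁻¹) * h := by group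
    _ = h⁻¹ * (u * a) * h := by rw [hbu]
    _ = (u : G) * h * u * (u * a) * h := by rw [hhu]
    _ = u * (h * a) * h := by rw [show (u : G) * h * u * (u * a) = u * h * (u * u) * a by group, hu, mul_one]; group
    _ = u * (a * (h * h)) := by rw [← (D.commute_K ha hhK).eq]; group
    _ = v := by rw [hho, e']

theorem outside_conj {u v : D.N} (hu : (u : G) * u = 1) (hv : (v : G) * v = 1) (hu1 : D.π u ≠ 1)
    (hv1 : D.π v ≠ 1) : ∃ n ∈ D.N, n * u * n⁻¹ = (v : G) := by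
  obtain ⟨g, hg⟩ := conj_invol (D.π_sq hu) hu1 (D.π_sq hv) hv1
  obtain ⟨n, rfl⟩ := D.surj g
  rw [← map_inv, ← map_mul, ← map_mul] at hg
  have hu' : ((n * u * n⁻¹ : D.N) : G) * (n * u * n⁻¹ : D.N) = 1 := by
    simp only [Subgroup.coe_mul, Subgroup.coe_inv]
    calc (n : G) * u * (n : G)⁻¹ * (n * u * (n : G)⁻¹) = n * (u * u) * (n : G)⁻¹ := by group
      _ = 1 := by rw [hu, mul_one, mul_inv_cancel]
  obtain ⟨k, hk, hke⟩ := D.outside_conj_same hu' hv (by rw [hg]; exact hv1) hg.symm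
  refine ⟨k * n, mul_mem hk n.2, ?_⟩
  rw [← hke]
  simp only [Subgroup.coe_mul, Subgroup.coe_inv]
  group

theorem exists_conj_mem_N {T : Subgroup G} (hT : IsPGroup 2 T) :
    ∃ g : G, ∀ x ∈ T, g * x * g⁻¹ ∈ D.N := by
  haveI : Fact (Nat.Prime 2) := ⟨Nat.prime_two⟩
  obtain ⟨S, hS⟩ := D.exists_sylow
  obtain ⟨T', hT'⟩ := hT.exists_le_sylow
  obtain ⟨g, hg⟩ := MulAction.exists_smul_eq G T' S
  refine ⟨g, fun x hx => hS ?_⟩
  have h1 := Subgroup.smul_mem_pointwise_smul _ (MulAut.conj g) _ (hT' hx)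
  rw [← Sylow.pointwise_smul_def, ← Sylow.smul_def, hg] at h1
  exact h1

theorem exists_conj_invol {x : G} (hx : orderOf x = 2) : ∃ g : G, g * x * g⁻¹ ∈ D.N := by
  obtain ⟨g, hg⟩ := D.exists_conj_mem_N (T := zpowers x)
    (IsPGroup.of_card (n := 1) (by rw [Nat.card_zpowers, hx, pow_one]))
  exact ⟨g, hg x (mem_zpowers x)⟩

theorem sq_of_orderOf {x : G} (hx : orderOf x = 2) : x * x = 1 := by
  rw [← pow_two, ← hx, pow_orderOf_eq_one]

theorem N_fusion_orb {a b : D.A} (h : b ∈ orb D.Φ a) : ∃ n ∈ D.N, n * a * n⁻¹ = (b : G) := by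
  obtain ⟨x, rfl⟩ := h
  obtain ⟨n, rfl⟩ := D.surj x
  exact ⟨n, n.2, (D.Φ_coe n a).symm⟩

/-- Every class of involutions meets any set of representatives of the types. -/
theorem classes_cover (u : G) (hu : ∀ v : D.N, (v : G) * v = 1 → D.π v ≠ 1 → ∃ n ∈ D.N, n * u * n⁻¹ = (v : G))
    {x : G} (hx : orderOf x = 2) : IsConj u x ∨ ∃ a : D.A, a ≠ 1 ∧ IsConj (a : G) x := by
  obtain ⟨g, hg⟩ := D.exists_conj_invol hx
  have hc : IsConj (g * x * g⁻¹) x := isConj_iff.2 ⟨g⁻¹, by group⟩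
  have hx' : orderOf (g * x * g⁻¹) = 2 := (orderOf_conj_eq g x).trans hx
  by_cases h1 : D.π ⟨g * x * g⁻¹, hg⟩ = 1
  · have hA : g * x * g⁻¹ ∈ D.A := D.mem_A_of_ker (n := ⟨_, hg⟩) h1 (k := 1)
      (by rw [pow_one, pow_two]; exact sq_of_orderOf hx')
    refine Or.inr ⟨⟨_, hA⟩, fun e => ?_, hc⟩
    rw [show g * x * g⁻¹ = 1 from congrArg Subtype.val e, orderOf_one] at hx'
    omega
  · obtain ⟨n, -, hn⟩ := hu ⟨_, hg⟩ (sq_of_orderOf hx') h1
    exact Or.inl ((isConj_iff.2 ⟨n, hn⟩).trans hc)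

/-- A representative of the outside involutions, if there is one. -/
theorem exists_outside_rep (a : G) : ∃ u : G, (∀ v : D.N, (v : G) * v = 1 → D.π v ≠ 1 →
    ∃ n ∈ D.N, n * u * n⁻¹ = (v : G)) ∧
      ((∃ v : D.N, (v : G) = u ∧ (v : G) * v = 1 ∧ D.π v ≠ 1) ∨
        u = a ∧ ∀ v : D.N, (v : G) * v = 1 → D.π v = 1) := by
  by_cases h : ∃ v : D.N, (v : G) * v = 1 ∧ D.π v ≠ 1
  · obtain ⟨v, hv, hv1⟩ := h
    exact ⟨v, fun w hw hw1 => D.outside_conj hv hw hv1 hw1, Or.inl ⟨v, rfl, hv, hv1⟩⟩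
  · push Not at h
    exact ⟨a, fun w hw hw1 => absurd (h w hw) hw1, Or.inr ⟨rfl, h⟩⟩

theorem act : Act D.Φ := by
  refine ⟨D.act0, ?_⟩
  by_contra hcon
  push Not at hcon
  classical
  obtain ⟨a₀, ha₀⟩ : ∃ a : D.A, a ≠ 1 := by
    haveI : Nontrivial D.A := Finite.one_lt_card_iff_nontrivial.1 (by rw [D.card]; norm_num)
    exact exists_ne 1
  have ha2 : orderOf (a₀ : G) = 2 := D.orderOf_two a₀.2 (fun e => ha₀ (Subtype.ext e))
  obtain ⟨u, hu, hu'⟩ := D.exists_outside_rep a₀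
  have hu2 : orderOf u = 2 := by
    rcases hu' with ⟨v, rfl, hv, hv1⟩ | ⟨rfl, -⟩
    · refine orderOf_eq_prime (by rw [pow_two, hv]) fun e => hv1 ?_
      rw [show v = 1 from Subtype.ext e, map_one]
    · exact ha2
  let f : Bool → {c : ConjClasses G // ∃ x ∈ c.carrier, orderOf x = 2} := fun i =>
    if i then ⟨ConjClasses.mk u, u, ConjClasses.mem_carrier_mk, hu2⟩
    else ⟨ConjClasses.mk (a₀ : G), a₀, ConjClasses.mem_carrier_mk, ha2⟩
  have hf : Function.Surjective f := by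
    rintro ⟨c, x, hxc, hx⟩
    have hc : ConjClasses.mk x = c := ConjClasses.mem_carrier_iff_mk_eq.1 hxc
    rcases D.classes_cover u hu hx with h | ⟨a, ha, h⟩
    · exact ⟨true, Subtype.ext ((ConjClasses.mk_eq_mk_iff_isConj.2 h).trans hc)⟩
    · obtain ⟨n, -, hn⟩ := D.N_fusion_orb (hcon a₀ a ha₀ ha)
      exact ⟨false, Subtype.ext ((ConjClasses.mk_eq_mk_iff_isConj.2
        ((isConj_iff.2 ⟨n, hn⟩).trans h)).trans hc)⟩
  have := Nat.card_le_card_of_surjective f hf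
  rw [D.three, Nat.card_eq_fintype_card, Fintype.card_bool] at this
  omega

theorem isZg_or_isBg {a : G} (ha : a ∈ D.A) (h1 : a ≠ 1) : D.IsZg a ∨ D.IsBg a :=
  (isZ_or_isB D.act (a := ⟨a, ha⟩) fun e => h1 (congrArg Subtype.val e)).imp (⟨ha, ·⟩) (⟨ha, ·⟩)

theorem exists_Zg : ∃ z, D.IsZg z := by
  obtain ⟨z, -, hz, -⟩ := orbits D.act
  exact ⟨z, z.2, hz⟩

theorem exists_Bg : ∃ b, D.IsBg b := by
  obtain ⟨-, b, -, hb, -⟩ := orbits D.act
  exact ⟨b, b.2, hb⟩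

theorem Zg_fusion {a b : G} (ha : D.IsZg a) (hb : D.IsZg b) : ∃ n ∈ D.N, n * a * n⁻¹ = b := by
  obtain ⟨ha, ha'⟩ := ha
  obtain ⟨hb, hb'⟩ := hb
  obtain ⟨z, -, -, -, hZ, -⟩ := orbits D.act
  refine D.N_fusion_orb (a := ⟨a, ha⟩) (b := ⟨b, hb⟩) ?_
  rw [orb_eq_of_mem D.Φ (hZ ▸ ha' : (⟨a, ha⟩ : D.A) ∈ orb D.Φ z)]
  exact hZ ▸ hb'

theorem Bg_fusion {a b : G} (ha : D.IsBg a) (hb : D.IsBg b) : ∃ n ∈ D.N, n * a * n⁻¹ = b := by
  obtain ⟨ha, ha'⟩ := ha
  obtain ⟨hb, hb'⟩ := hb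
  obtain ⟨-, c, -, -, -, hB⟩ := orbits D.act
  refine D.N_fusion_orb (a := ⟨a, ha⟩) (b := ⟨b, hb⟩) ?_
  rw [orb_eq_of_mem D.Φ (hB ▸ ha' : (⟨a, ha⟩ : D.A) ∈ orb D.Φ c)]
  exact hB ▸ hb'

theorem ne_one_of_isZg {a : G} (h : D.IsZg a) : a ≠ 1 := fun e => h.2.1 (Subtype.ext e)

theorem ne_one_of_isBg {a : G} (h : D.IsBg a) : a ≠ 1 := fun e => h.2.1 (Subtype.ext e)

/-- The three classes. -/
theorem classes : ∃ u : D.N, (u : G) * u = 1 ∧ D.π u ≠ 1 ∧
    (∀ a ∈ D.A, ¬ IsConj (u : G) a) ∧ ∀ z b : G, D.IsZg z → D.IsBg b → ¬ IsConj z b := by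
  classical
  obtain ⟨z, hz⟩ := D.exists_Zg
  obtain ⟨b, hb⟩ := D.exists_Bg
  have hz2 := D.orderOf_two hz.1 (D.ne_one_of_isZg hz)
  have hb2 := D.orderOf_two hb.1 (D.ne_one_of_isBg hb)
  obtain ⟨u, hu, hu'⟩ := D.exists_outside_rep z
  have hu2 : orderOf u = 2 := by
    rcases hu' with ⟨v, rfl, hv, hv1⟩ | ⟨rfl, -⟩
    · refine orderOf_eq_prime (by rw [pow_two, hv]) fun e => hv1 ?_
      rw [show v = 1 from Subtype.ext e, map_one]
    · exact hz2
  let f : Fin 3 → {c : ConjClasses G // ∃ x ∈ c.carrier, orderOf x = 2} :=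
    ![⟨ConjClasses.mk u, u, ConjClasses.mem_carrier_mk, hu2⟩,
      ⟨ConjClasses.mk z, z, ConjClasses.mem_carrier_mk, hz2⟩,
      ⟨ConjClasses.mk b, b, ConjClasses.mem_carrier_mk, hb2⟩]
  have hf : Function.Surjective f := by
    rintro ⟨c, x, hxc, hx⟩
    have hc : ConjClasses.mk x = c := ConjClasses.mem_carrier_iff_mk_eq.1 hxc
    rcases D.classes_cover u hu hx with h | ⟨a, ha, h⟩
    · exact ⟨0, Subtype.ext ((ConjClasses.mk_eq_mk_iff_isConj.2 h).trans hc)⟩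
    · have ha1 : (a : G) ≠ 1 := fun e => ha (Subtype.ext e)
      rcases D.isZg_or_isBg a.2 ha1 with hZ | hB
      · obtain ⟨n, -, hn⟩ := D.Zg_fusion hz hZ
        exact ⟨1, Subtype.ext ((ConjClasses.mk_eq_mk_iff_isConj.2
          ((isConj_iff.2 ⟨n, hn⟩).trans h)).trans hc)⟩
      · obtain ⟨n, -, hn⟩ := D.Bg_fusion hb hB
        exact ⟨2, Subtype.ext ((ConjClasses.mk_eq_mk_iff_isConj.2
          ((isConj_iff.2 ⟨n, hn⟩).trans h)).trans hc)⟩
  have hbij : Function.Bijective f :=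
    (Nat.bijective_iff_surjective_and_card f).2 ⟨hf, by rw [Nat.card_fin, D.three]⟩
  have huz : ¬ IsConj u z := fun h => by
    have := hbij.1 (a₁ := 0) (a₂ := 1) (Subtype.ext (ConjClasses.mk_eq_mk_iff_isConj.2 h))
    exact absurd this (by decide)
  have hub : ¬ IsConj u b := fun h => by
    have := hbij.1 (a₁ := 0) (a₂ := 2) (Subtype.ext (ConjClasses.mk_eq_mk_iff_isConj.2 h))
    exact absurd this (by decide)
  have hzb : ¬ IsConj z b := fun h => by
    have := hbij.1 (a₁ := 1) (a₂ := 2) (Subtype.ext (ConjClasses.mk_eq_mk_iff_isConj.2 h))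
    exact absurd this (by decide)
  rcases hu' with ⟨v, rfl, hv, hv1⟩ | ⟨rfl, -⟩
  swap
  · exact absurd (IsConj.refl _) huz
  refine ⟨v, hv, hv1, fun a ha h => ?_, fun z' b' hz' hb' h => ?_⟩
  · have ha1 : a ≠ 1 := fun e => by
      rw [e, isConj_one_left] at h
      rw [h, orderOf_one] at hu2
      omega
    rcases D.isZg_or_isBg ha ha1 with hZ | hB
    · obtain ⟨n, -, hn⟩ := D.Zg_fusion hZ hz
      exact huz (h.trans (isConj_iff.2 ⟨n, hn⟩))
    · obtain ⟨n, -, hn⟩ := D.Bg_fusion hB hb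
      exact hub (h.trans (isConj_iff.2 ⟨n, hn⟩))
  · obtain ⟨n, -, hn⟩ := D.Zg_fusion hz hz'
    obtain ⟨m, -, hm⟩ := D.Bg_fusion hb' hb
    exact hzb (((isConj_iff.2 ⟨n, hn⟩).trans h).trans (isConj_iff.2 ⟨m, hm⟩))

theorem not_isConj_Z_B {z b : G} (hz : D.IsZg z) (hb : D.IsBg b) : ¬ IsConj z b := by
  obtain ⟨u, -, -, -, h⟩ := D.classes
  exact h z b hz hb

/-- Conjugates of elements of `A` inside the normaliser lie in `A`. -/
theorem mem_A_of_conj {a g : G} (ha : a ∈ D.A) (h : g * a * g⁻¹ ∈ D.N) : g * a * g⁻¹ ∈ D.A := by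
  by_cases h1 : a = 1
  · rw [h1, mul_one, mul_inv_cancel]; exact one_mem _
  have h2 : g * a * g⁻¹ * (g * a * g⁻¹) = 1 :=
    sq_of_orderOf ((orderOf_conj_eq g a).trans (D.orderOf_two ha h1))
  by_cases hπ : D.π ⟨_, h⟩ = 1
  · exact D.mem_A_of_ker (n := ⟨_, h⟩) hπ (k := 1) (by rw [pow_one, pow_two]; exact h2)
  obtain ⟨u, hu, hu1, hA, -⟩ := D.classes
  obtain ⟨n, -, hn⟩ := D.outside_conj hu (v := ⟨_, h⟩) h2 hu1 hπ
  exact absurd ((isConj_iff.2 ⟨n, hn⟩).trans (isConj_iff.2 ⟨g⁻¹, by group⟩)) (hA a ha)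

/-- Every 2-subgroup containing `A` normalises it. -/
theorem le_N_of_isPGroup {T : Subgroup G} (hT : IsPGroup 2 T) (hA : D.A ≤ T) : T ≤ D.N := by
  by_contra hcon
  haveI : Fact (Nat.Prime 2) := ⟨Nat.prime_two⟩
  set R : Subgroup T := (D.N).subgroupOf T with hR
  have hlt : R < ⊤ := by
    refine lt_top_iff_ne_top.2 fun h => hcon fun x hx => ?_
    exact mem_subgroupOf.1 (h ▸ mem_top (⟨x, hx⟩ : T) : (⟨x, hx⟩ : T) ∈ R)
  haveI : Group.IsNilpotent T := hT.isNilpotent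
  obtain ⟨t, ht, htR⟩ := SetLike.exists_of_lt (Group.normalizerCondition_of_isNilpotent R hlt)
  refine htR (mem_subgroupOf.2 (mem_normalizer_iff.2 ?_))
  have key : ∀ s : T, s ∈ normalizer (R : Set T) → ∀ a ∈ D.A, (s : G) * a * (s : G)⁻¹ ∈ D.A := by
    intro s hs a ha
    refine D.mem_A_of_conj ha ?_
    have h2 : s * ⟨a, hA ha⟩ * s⁻¹ ∈ R :=
      (mem_normalizer_iff.1 hs _).1 (mem_subgroupOf.2 (D.A_le_N ha))
    exact mem_subgroupOf.1 h2
  intro a
  refine ⟨key t ht a, fun h => ?_⟩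
  have := key t⁻¹ (inv_mem ht) _ h
  simpa [mul_assoc] using this

/-- Two conjugates of `A` inside a 2-group are equal. -/
theorem conj_A_eq {T : Subgroup G} (hT : IsPGroup 2 T) (hA : D.A ≤ T) {g : G}
    (hg : ∀ a ∈ D.A, g * a * g⁻¹ ∈ T) : g ∈ D.N := by
  haveI : Finite D.A := inferInstance
  refine mem_normalizer_iff.2 fun a => ⟨fun ha => D.mem_A_of_conj ha (D.le_N_of_isPGroup hT hA (hg a ha)),
    fun ha => ?_⟩
  have hmap : D.A.map (MulAut.conj g).toMonoidHom = D.A := by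
    refine Subgroup.eq_of_le_of_card_ge ?_ (by
      rw [← Nat.card_congr (equivMapOfInjective D.A (MulAut.conj g).toMonoidHom (MulAut.conj g).injective).toEquiv])
    rintro _ ⟨b, hb, rfl⟩
    exact D.mem_A_of_conj hb (D.le_N_of_isPGroup hT hA (hg b hb))
  rw [← hmap] at ha
  obtain ⟨b, hb, he⟩ := ha
  rwa [show b = a from mul_left_cancel (mul_right_cancel he)] at hb

/-- An element of a 2-subgroup containing `A` that is conjugate into `A` lies in `A`. -/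
theorem mem_A_of_pgroup {T : Subgroup G} (hT : IsPGroup 2 T) (hA : D.A ≤ T) {a g : G}
    (ha : a ∈ D.A) (h : g * a * g⁻¹ ∈ T) : g * a * g⁻¹ ∈ D.A :=
  D.mem_A_of_conj ha (D.le_N_of_isPGroup hT hA h)

/-- Fusion in `A` inside an overgroup `H` of `A` is controlled by the normaliser. -/
theorem fusion {H : Subgroup G} (hH : D.A ≤ H) {x y g : G} (hx : x ∈ D.A) (hy : y ∈ D.A)
    (hg : g ∈ H) (he : g * x * g⁻¹ = y) : ∃ n ∈ D.N ⊓ H, n * x * n⁻¹ = y := by
  haveI : Fact (Nat.Prime 2) := ⟨Nat.prime_two⟩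
  set J : Subgroup G := H ⊓ centralizer {y} with hJ
  have hAJ : D.A ≤ J := le_inf hH fun a ha => mem_centralizer_singleton_iff.2 (D.comm ha hy)
  have hgJ : D.A.map (MulAut.conj g).toMonoidHom ≤ J := by
    rintro _ ⟨a, ha, rfl⟩
    refine mem_inf.2 ⟨mul_mem (mul_mem hg (hH ha)) (inv_mem hg), mem_centralizer_singleton_iff.2 ?_⟩
    simp only [MulEquiv.coe_toMonoidHom, MulAut.conj_apply]
    rw [← he]
    calc g * a * g⁻¹ * (g * x * g⁻¹) = g * (a * x) * g⁻¹ := by group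
      _ = g * (x * a) * g⁻¹ := by rw [D.comm ha hx]
      _ = g * x * g⁻¹ * (g * a * g⁻¹) := by group
  obtain ⟨T, hT⟩ := (D.isPGroup_A.comap_subtype (K := J)).exists_le_sylow
  obtain ⟨T', hT'⟩ := ((D.isPGroup_A.map (MulAut.conj g).toMonoidHom).comap_subtype (K := J)).exists_le_sylow
  obtain ⟨j, hj⟩ := MulAction.exists_smul_eq J T' T
  set TG := (T : Subgroup J).map J.subtype with hTG
  have hAT : D.A ≤ TG := fun a ha => ⟨⟨a, hAJ ha⟩, hT ha, rfl⟩
  have hjg : (j : G) * g ∈ D.N := by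
    refine D.conj_A_eq (T.2.map J.subtype) hAT fun a ha => ?_
    have h1 : (⟨g * a * g⁻¹, hgJ ⟨a, ha, rfl⟩⟩ : J) ∈ (T' : Subgroup J) := hT' ⟨a, ha, rfl⟩
    have h2 := Subgroup.smul_mem_pointwise_smul _ (MulAut.conj j) _ h1
    rw [← Sylow.pointwise_smul_def, ← Sylow.smul_def, hj] at h2
    refine ⟨_, h2, ?_⟩
    simp [MulAut.smul_def, mul_assoc]
  refine ⟨(j : G) * g, mem_inf.2 ⟨hjg, mul_mem (mem_inf.1 j.2).1 hg⟩, ?_⟩
  have hjy : (j : G) * y = y * j := mem_centralizer_singleton_iff.1 (mem_inf.1 j.2).2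
  calc (j : G) * g * x * ((j : G) * g)⁻¹ = (j : G) * (g * x * g⁻¹) * (j : G)⁻¹ := by group
    _ = y := by rw [he, hjy, mul_inv_cancel_right]

/-- Two conjugates of elements of `A` in a common 2-group commute, with product conjugate into `A`. -/
theorem commute_of_pgroup {T : Subgroup G} (hT : IsPGroup 2 T) {x y a b g h : G} (ha : a ∈ D.A)
    (hb : b ∈ D.A) (hx : g * a * g⁻¹ = x) (hy : h * b * h⁻¹ = y) (hxT : x ∈ T) (hyT : y ∈ T) :
    x * y = y * x ∧ ∃ k : G, ∃ c ∈ D.A, k * c * k⁻¹ = x * y := by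
  obtain ⟨k, hk⟩ := D.exists_conj_mem_N hT
  have hxA : k * x * k⁻¹ ∈ D.A := by
    have := D.mem_A_of_conj (g := k * g) ha (by
      rw [show k * g * a * (k * g)⁻¹ = k * x * k⁻¹ by rw [← hx]; group]; exact hk x hxT)
    rwa [show k * g * a * (k * g)⁻¹ = k * x * k⁻¹ by rw [← hx]; group] at this
  have hyA : k * y * k⁻¹ ∈ D.A := by
    have := D.mem_A_of_conj (g := k * h) hb (by
      rw [show k * h * b * (k * h)⁻¹ = k * y * k⁻¹ by rw [← hy]; group]; exact hk y hyT)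
    rwa [show k * h * b * (k * h)⁻¹ = k * y * k⁻¹ by rw [← hy]; group] at this
  refine ⟨?_, k⁻¹, _, mul_mem hxA hyA, by group⟩
  calc x * y = k⁻¹ * (k * x * k⁻¹ * (k * y * k⁻¹)) * k := by group
    _ = k⁻¹ * (k * y * k⁻¹ * (k * x * k⁻¹)) * k := by rw [D.comm hxA hyA]
    _ = y * x := by group

end Data

end H8.E16
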