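import Cfsg.Agent.H8.E16.AltFive

/-!
Actions of the alternating group of degree 5 on five points (helper8).
-/

set_option autoImplicit false
set_option linter.style.haveILetI false
set_option linter.unusedSectionVars false

namespace H8.E16

variable {O : Type*} [Fintype O] [DecidableEq O]

theorem card_support_prime {σ : Equiv.Perm O} {p : ℕ} (hp : p.Prime) (h : orderOf σ = p) :
    ∃ n : ℕ, σ.support.card = (n + 1) * p ∧ Equiv.Perm.sign σ = (-1 : ℤˣ) ^ ((n + 1) * p + (n + 1)) := by
  obtain ⟨n, hn⟩ := Equiv.Perm.cycleType_prime_order (σ := σ) (h.symm ▸ hp)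
  refine ⟨n, ?_, ?_⟩
  · rw [← Equiv.Perm.sum_cycleType, hn, Multiset.sum_replicate, h, smul_eq_mul]
  · rw [Equiv.Perm.sign_of_cycleType, hn, Multiset.sum_replicate, Multiset.card_replicate, h,
      smul_eq_mul]

theorem sign_trivial (ψ : A5 →* Equiv.Perm O) (x : A5) : Equiv.Perm.sign (ψ x) = 1 := by
  set f : A5 →* ℤˣ := Equiv.Perm.sign.comp ψ with hf
  obtain ⟨s, hs1, hs5⟩ := exists_five_elt
  have hs : s ∈ f.ker := by
    rw [MonoidHom.mem_ker]
    rcases Int.units_eq_one_or (f s) with h | h
    · exact h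
    · have := map_pow f s 5
      rw [hs5, map_one, h] at this
      exact absurd this (by decide)
  have := eq_top_of_mem (f.normal_ker) hs hs1
  exact MonoidHom.mem_ker.1 (this ▸ Subgroup.mem_top x : x ∈ f.ker)

/-- Elements of order three fix exactly two of five points, involutions exactly one. -/
theorem fixed_of_five (h5 : Fintype.card O = 5) (ψ : A5 →* Equiv.Perm O) (hψ : ψ ≠ 1) {x : A5}
    (hx1 : x ≠ 1) :
    (x ^ 3 = 1 → (Finset.univ.filter fun o => ψ x o = o).card = 2) ∧
      (x ^ 2 = 1 → (Finset.univ.filter fun o => ψ x o = o).card = 1) := by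
  have hne : ψ x ≠ 1 := fun h => by
    refine hψ (MonoidHom.ext fun y => ?_)
    have := eq_top_of_mem (ψ.normal_ker) (MonoidHom.mem_ker.2 h) hx1
    exact MonoidHom.mem_ker.1 (this ▸ Subgroup.mem_top y : y ∈ ψ.ker)
  have hle : (ψ x).support.card ≤ 5 := (Finset.card_le_univ _).trans h5.le
  have hfix : (Finset.univ.filter fun o => ψ x o = o).card = 5 - (ψ x).support.card := by
    have e : (Finset.univ.filter fun o => ψ x o = o) = (ψ x).supportᶜ := by
      ext o
      simp [Equiv.Perm.mem_support]
    rw [e, Finset.card_compl, h5]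
  constructor
  · intro h3
    haveI : Fact (Nat.Prime 3) := ⟨Nat.prime_three⟩
    obtain ⟨n, hn, -⟩ := card_support_prime Nat.prime_three
      (orderOf_eq_prime (by rw [← map_pow, h3, map_one]) hne)
    omega
  · intro h2
    haveI : Fact (Nat.Prime 2) := ⟨Nat.prime_two⟩
    obtain ⟨n, hn, hs⟩ := card_support_prime Nat.prime_two
      (orderOf_eq_prime (by rw [← map_pow, h2, map_one]) hne)
    rw [sign_trivial] at hs
    rcases Nat.eq_zero_or_pos n with rfl | hn0
    · exact absurd hs.symm (by decide)
    · omega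

end H8.E16
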