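import Cfsg.Agent.H7.SFT.Final
import Cfsg.Agent.H16.OddOrder
import Cfsg.Agent.H8.E16.Fusion

/-!
Cores of the centralizers of elements of `A`, the signalizer functor and the conclusion from good
centralizers (helper8).
-/

set_option autoImplicit false
set_option linter.style.haveILetI false
set_option linter.unusedSectionVars false

namespace H8.E16

open Subgroup
open scoped commutatorElement

universe u

variable {G : Type u} [Group G] [Finite G]

/-- The core of a centralizer, inside the group. -/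
def Oc (e : G) : Subgroup G :=
  (Cfsg.oddCore ↥(centralizer ({e} : Set G))).map (centralizer ({e} : Set G)).subtype

theorem Oc_le (e : G) : Oc e ≤ centralizer ({e} : Set G) := map_subtype_le _

theorem Oc_conj {e c x : G} (hc : c ∈ centralizer ({e} : Set G)) (hx : x ∈ Oc e) :
    c * x * c⁻¹ ∈ Oc e := by
  obtain ⟨x, hx, rfl⟩ := hx
  exact ⟨⟨c, hc⟩ * x * ⟨c, hc⟩⁻¹, (H1.pPrimeCore_normal' 2 _).conj_mem _ hx _, rfl⟩

theorem le_normalizer_Oc {e : G} {H : Subgroup G} (hH : H ≤ centralizer ({e} : Set G)) :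
    H ≤ normalizer (Oc e : Set G) := by
  intro c hc
  refine mem_normalizer_iff.2 fun x => ⟨Oc_conj (hH hc), fun hx => ?_⟩
  simpa [mul_assoc] using Oc_conj (inv_mem (hH hc)) hx

theorem Oc_card (e : G) : (Nat.card (Oc e)).Coprime 2 := by
  rw [Oc, ← Nat.card_congr (equivMapOfInjective _ _ (centralizer ({e} : Set G)).subtype_injective).toEquiv]
  exact H1.card_pPrimeCore_coprime 2 _

theorem odd_of_mem {L : Subgroup G} (hL : (Nat.card L).Coprime 2) {x : G} (hx : x ∈ L) :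
    Odd (orderOf x) :=
  (Nat.coprime_two_right.1 hL).of_dvd_nat (Subgroup.orderOf_dvd_natCard _ hx)

/-- An odd subgroup normalised by the centralizer lies in its core. -/
theorem le_Oc {e : G} {L : Subgroup G} (hL : L ≤ centralizer ({e} : Set G))
    (hodd : (Nat.card L).Coprime 2) (hn : centralizer ({e} : Set G) ≤ normalizer (L : Set G)) :
    L ≤ Oc e := by
  set C := centralizer ({e} : Set G) with hC
  haveI : (L.subgroupOf C).Normal := (Subgroup.normal_subgroupOf_iff_le_normalizer hL).2 hn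
  have h := H1.le_pPrimeCore (p := 2) (N := L.subgroupOf C)
    (by rw [Nat.card_congr (subgroupOfEquivOfLe hL).toEquiv]; exact hodd)
  intro x hx
  exact ⟨⟨x, hL hx⟩, h (mem_subgroupOf.2 hx), rfl⟩

/-- A product of an odd subgroup with an odd subgroup normalising it is odd. -/
theorem coprime_sup {H L : Subgroup G} (hn : L ≤ normalizer (H : Set G))
    (hH : (Nat.card H).Coprime 2) (hL : (Nat.card L).Coprime 2) :
    (Nat.card ↥(H ⊔ L)).Coprime 2 := by
  haveI : (H.subgroupOf (H ⊔ L)).Normal :=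
    (Subgroup.normal_subgroupOf_iff_le_normalizer le_sup_left).2 (sup_le le_normalizer hn)
  have h := H1.card_sup_dvd_mul (L.subgroupOf (H ⊔ L)) (H.subgroupOf (H ⊔ L))
  rw [← subgroupOf_sup le_sup_right le_sup_left, sup_comm L H, subgroupOf_self, card_top,
    Nat.card_congr (subgroupOfEquivOfLe (le_sup_right : L ≤ H ⊔ L)).toEquiv,
    Nat.card_congr (subgroupOfEquivOfLe (le_sup_left : H ≤ H ⊔ L)).toEquiv] at h
  exact (Nat.Coprime.mul_left hL hH).coprime_dvd_left h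

theorem map_conj_Oc (n e : G) {x : G} (hx : x ∈ Oc e) : n * x * n⁻¹ ∈ Oc (n * e * n⁻¹) := by
  set L := (Oc e).map (MulAut.conj n).toMonoidHom with hL
  have hc : ∀ c ∈ centralizer ({n * e * n⁻¹} : Set G), n⁻¹ * c * n ∈ centralizer ({e} : Set G) := by
    intro c hc
    refine mem_centralizer_singleton_iff.2 ?_
    have h := mem_centralizer_singleton_iff.1 hc
    calc n⁻¹ * c * n * e = n⁻¹ * (c * (n * e * n⁻¹)) * n := by group
      _ = n⁻¹ * (n * e * n⁻¹ * c) * n := by rw [h]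
      _ = e * (n⁻¹ * c * n) := by group
  have h1 : L ≤ centralizer ({n * e * n⁻¹} : Set G) := by
    rintro _ ⟨y, hy, rfl⟩
    refine mem_centralizer_singleton_iff.2 ?_
    simp only [MulEquiv.coe_toMonoidHom, MulAut.conj_apply]
    have h := mem_centralizer_singleton_iff.1 (Oc_le e hy)
    calc n * y * n⁻¹ * (n * e * n⁻¹) = n * (y * e) * n⁻¹ := by group
      _ = n * (e * y) * n⁻¹ := by rw [h]
      _ = n * e * n⁻¹ * (n * y * n⁻¹) := by group
  have h2 : centralizer ({n * e * n⁻¹} : Set G) ≤ normalizer (L : Set G) := by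
    have key : ∀ c ∈ centralizer ({n * e * n⁻¹} : Set G), ∀ y ∈ L, c * y * c⁻¹ ∈ L := by
      rintro c hc' _ ⟨y, hy, rfl⟩
      refine ⟨(n⁻¹ * c * n) * y * (n⁻¹ * c * n)⁻¹, Oc_conj (hc c hc') hy, ?_⟩
      simp only [MulEquiv.coe_toMonoidHom, MulAut.conj_apply]
      group
    intro c hc'
    refine mem_normalizer_iff.2 fun y => ⟨key c hc' y, fun hy => ?_⟩
    simpa [mul_assoc] using key c⁻¹ (inv_mem hc') _ hy
  have h3 := le_Oc h1 (by
    rw [hL, ← Nat.card_congr (equivMapOfInjective _ (MulAut.conj n).toMonoidHom (MulAut.conj n).injective).toEquiv]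
    exact Oc_card e) h2
  exact h3 ⟨x, hx, rfl⟩

namespace Data

variable (D : Data G)

/-- The centralizer of `e` is covered by its core and the normaliser of `A`. -/
def Good (e : G) : Prop :=
  centralizer ({e} : Set G) ≤ Oc e ⊔ (D.N ⊓ centralizer ({e} : Set G))

theorem A_le_cent {e : G} (he : e ∈ D.A) : D.A ≤ centralizer ({e} : Set G) :=
  fun _ ha => mem_centralizer_singleton_iff.2 (D.comm ha he)

theorem good_decomp {e c : G} (h : D.Good e) (hc : c ∈ centralizer ({e} : Set G)) :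
    ∃ o ∈ Oc e, ∃ n ∈ D.N ⊓ centralizer ({e} : Set G), c = o * n := by
  have := h hc
  rw [← SetLike.mem_coe, coe_mul_of_right_le_normalizer_left _ _ (le_normalizer_Oc inf_le_right)]
    at this
  obtain ⟨o, ho, n, hn, he⟩ := this
  exact ⟨o, ho, n, hn, he.symm⟩

theorem good_of_normal {e : G} (he : e ∈ D.A)
    (hn : ∀ c ∈ centralizer ({e} : Set G), ∀ a ∈ D.A, c * a * c⁻¹ ∈ D.A ⊔ Oc e) : D.Good e := by
  intro c hc
  haveI : Fact (Nat.Prime 2) := ⟨Nat.prime_two⟩
  set L : Subgroup G := D.A ⊔ Oc e with hL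
  have hLC : L ≤ centralizer ({e} : Set G) := sup_le (D.A_le_cent he) (Oc_le e)
  have hgL : D.A.map (MulAut.conj c).toMonoidHom ≤ L := by
    rintro _ ⟨a, ha, rfl⟩
    exact hn c hc a ha
  obtain ⟨T, hT⟩ := (D.isPGroup_A.comap_subtype (K := L)).exists_le_sylow
  obtain ⟨T', hT'⟩ :=
    ((D.isPGroup_A.map (MulAut.conj c).toMonoidHom).comap_subtype (K := L)).exists_le_sylow
  obtain ⟨l, hl⟩ := MulAction.exists_smul_eq L T' T
  have hlc : (l : G) * c ∈ D.N := by
    refine D.conj_A_eq (T.2.map L.subtype)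
      (fun a ha => ⟨⟨a, (le_sup_left : D.A ≤ L) ha⟩, hT ha, rfl⟩) fun a ha => ?_
    have h2 := Subgroup.smul_mem_pointwise_smul _ (MulAut.conj l) _
      (hT' (show (⟨c * a * c⁻¹, hgL ⟨a, ha, rfl⟩⟩ : L) ∈
        (D.A.map (MulAut.conj c).toMonoidHom).comap L.subtype from ⟨a, ha, rfl⟩))
    rw [← Sylow.pointwise_smul_def, ← Sylow.smul_def, hl] at h2
    refine ⟨_, h2, ?_⟩
    simp [MulAut.smul_def, mul_assoc]
  have h1 : (l : G) * c ∈ D.N ⊓ centralizer ({e} : Set G) :=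
    mem_inf.2 ⟨hlc, mul_mem (hLC l.2) hc⟩
  have h2 : L ≤ Oc e ⊔ (D.N ⊓ centralizer ({e} : Set G)) :=
    sup_le ((le_inf D.A_le_N (D.A_le_cent he)).trans le_sup_right) le_sup_left
  rw [show c = (l : G)⁻¹ * ((l : G) * c) by group]
  exact mul_mem (inv_mem (h2 l.2)) (mem_sup_right h1)

/-- The core of the normaliser lies in the core of every good centralizer. -/
theorem K_le_Oc {f : G} (hf : f ∈ D.A) (hg : D.Good f) : D.K ≤ Oc f := by
  have hKc : D.K ≤ centralizer ({f} : Set G) :=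
    fun k hk => mem_centralizer_singleton_iff.2 (D.commute_K hf hk).eq.symm
  have hKn : D.K ≤ normalizer (Oc f : Set G) := le_normalizer_Oc hKc
  refine le_sup_right.trans (le_Oc (sup_le (Oc_le f) hKc) (coprime_sup hKn (Oc_card f) D.K_card) ?_)
  refine hg.trans (sup_le (le_sup_left.trans le_normalizer) ?_)
  intro n hn
  obtain ⟨hnN, hnC⟩ := mem_inf.1 hn
  have key : ∀ m ∈ D.N ⊓ centralizer ({f} : Set G), ∀ x ∈ Oc f ⊔ D.K, m * x * m⁻¹ ∈ Oc f ⊔ D.K := by
    intro m hm x hx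
    rw [← SetLike.mem_coe, coe_mul_of_right_le_normalizer_left _ _ hKn] at hx
    obtain ⟨o, ho, k, hk, rfl⟩ := hx
    rw [show m * (o * k) * m⁻¹ = m * o * m⁻¹ * (m * k * m⁻¹) by group]
    exact mul_mem (mem_sup_left (Oc_conj (mem_inf.1 hm).2 ho))
      (mem_sup_right (D.K_conj (mem_inf.1 hm).1 hk))
  refine mem_normalizer_iff.2 fun x => ⟨key n hn x, fun hx => ?_⟩
  simpa [mul_assoc] using key n⁻¹ (inv_mem hn) _ hx

/-- Balance. -/
theorem balance {e f : G} (he : e ∈ D.A) (hf : f ∈ D.A) (hg : D.Good f) :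
    Oc e ⊓ centralizer ({f} : Set G) ≤ Oc f := by
  intro x hx
  obtain ⟨hxe, hxf⟩ := mem_inf.1 hx
  obtain ⟨o, ho, n, hn, hxn⟩ := D.good_decomp hg hxf
  obtain ⟨hnN, hnC⟩ := mem_inf.1 hn
  set q := QuotientGroup.mk' (Cfsg.oddCore ↥(centralizer ({f} : Set G))) with hq
  haveI := H1.pPrimeCore_normal' 2 ↥(centralizer ({f} : Set G))
  have hqO : ∀ (y : G) (hy : y ∈ centralizer ({f} : Set G)), y ∈ Oc f → q ⟨y, hy⟩ = 1 := by
    intro y hy hyO
    obtain ⟨y', hy', e'⟩ := hyO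
    refine (QuotientGroup.eq_one_iff _).2 ?_
    rwa [show (⟨y, hy⟩ : centralizer ({f} : Set G)) = y' from Subtype.ext e'.symm]
  have hnA : ∀ b ∈ D.A, n * b * n⁻¹ = b := by
    intro b hb
    have hbC := D.A_le_cent hf hb
    have hbn : n * b * n⁻¹ ∈ D.A := (mem_normalizer_iff.1 hnN b).1 hb
    have hcA : n * b * n⁻¹ * b⁻¹ ∈ D.A := mul_mem hbn (inv_mem hb)
    have hd : x * b * x⁻¹ * b⁻¹ ∈ Oc e := by
      rw [show x * b * x⁻¹ * b⁻¹ = x * (b * x⁻¹ * b⁻¹) by group]
      exact mul_mem hxe (Oc_conj (D.A_le_cent he hb) (inv_mem hxe))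
    set w : centralizer ({f} : Set G) := ⟨x * b * x⁻¹ * b⁻¹,
      mul_mem (mul_mem (mul_mem hxf hbC) (inv_mem hxf)) (inv_mem hbC)⟩ with hw
    have hqx : q ⟨x, hxf⟩ = q ⟨n, hnC⟩ := by
      rw [show (⟨x, hxf⟩ : centralizer ({f} : Set G)) = ⟨o, Oc_le f ho⟩ * ⟨n, hnC⟩ from Subtype.ext hxn,
        map_mul, hqO o _ ho, one_mul]
    have hqw : q w = q ⟨n * b * n⁻¹ * b⁻¹, D.A_le_cent hf hcA⟩ := by
      rw [show w = ⟨x, hxf⟩ * ⟨b, hbC⟩ * ⟨x, hxf⟩⁻¹ * ⟨b, hbC⟩⁻¹ from rfl,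
        show (⟨n * b * n⁻¹ * b⁻¹, D.A_le_cent hf hcA⟩ : centralizer ({f} : Set G)) =
          ⟨n, hnC⟩ * ⟨b, hbC⟩ * ⟨n, hnC⟩⁻¹ * ⟨b, hbC⟩⁻¹ from rfl]
      simp only [map_mul, map_inv, hqx]
    have hodd : Odd (orderOf (q w)) :=
      (odd_of_mem (Oc_card e) hd).of_dvd_nat ((orderOf_map_dvd q w).trans
        (by rw [hw, Subgroup.orderOf_mk]))
    have h1 : q w = 1 := by
      refine eq_one_of_odd_pow_two (k := 1) ?_ hodd
      rw [hqw, pow_one, ← map_pow,
        show (⟨n * b * n⁻¹ * b⁻¹, D.A_le_cent hf hcA⟩ : centralizer ({f} : Set G)) ^ 2 = 1 from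
          Subtype.ext (D.el.2 _ hcA), map_one]
    rw [hqw] at h1
    have h2 := (QuotientGroup.eq_one_iff _).1 h1
    have h3 : n * b * n⁻¹ * b⁻¹ = 1 := eq_one_of_odd_pow_two (k := 1)
      (by rw [pow_one]; exact D.el.2 _ hcA) (odd_of_mem (Oc_card f) ⟨_, h2, rfl⟩)
    exact mul_inv_eq_one.1 h3
  have hker : D.π ⟨n, hnN⟩ = 1 := D.Φ_inj (by
    rw [map_one]
    refine MulEquiv.ext fun b => Subtype.ext ?_
    rw [D.Φ_coe, MulAut.one_apply]
    exact hnA b b.2)
  obtain ⟨a, ha, k, hk, he'⟩ := D.mem_ker_iff.1 hker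
  have hna : n = a * k := he'
  have hkO := D.K_le_Oc hf hg hk
  have haC := D.A_le_cent hf ha
  have hqxa : q ⟨x, hxf⟩ = q ⟨a, haC⟩ := by
    rw [show (⟨x, hxf⟩ : centralizer ({f} : Set G)) = ⟨o, Oc_le f ho⟩ * (⟨a, haC⟩ * ⟨k, Oc_le f hkO⟩)
      from Subtype.ext (hxn.trans (congrArg (o * ·) hna)), map_mul, map_mul, hqO o _ ho, hqO k _ hkO, one_mul,
      mul_one]
  have ha1 : a = 1 := by
    have hodd : Odd (orderOf (q ⟨x, hxf⟩)) :=
      (odd_of_mem (Oc_card e) hxe).of_dvd_nat ((orderOf_map_dvd q ⟨x, hxf⟩).trans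
        (by rw [Subgroup.orderOf_mk]))
    have h1 : q ⟨x, hxf⟩ = 1 := eq_one_of_odd_pow_two (k := 1) (by
      rw [hqxa, pow_one, ← map_pow,
        show (⟨a, haC⟩ : centralizer ({f} : Set G)) ^ 2 = 1 from Subtype.ext (D.el.2 _ ha), map_one])
      hodd
    rw [hqxa] at h1
    exact eq_one_of_odd_pow_two (k := 1) (by rw [pow_one]; exact D.el.2 _ ha)
      (odd_of_mem (Oc_card f) ⟨_, (QuotientGroup.eq_one_iff _).1 h1, rfl⟩)
  rw [hxn, hna, ha1, one_mul]
  exact mul_mem ho hkO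

/-- The odd subgroup generated by the cores. -/
theorem exists_W (hG : ∀ e ∈ D.A, e ≠ 1 → D.Good e) :
    ∃ W : Subgroup G, (Nat.card W).Coprime 2 ∧ D.N ≤ normalizer (W : Set G) ∧
      ∀ e ∈ D.A, e ≠ 1 → Oc e ≤ W := by
  have hf : Cfsg.IsSolvableSignalizerFunctor 2 D.A (Oc (G := G)) := by
    refine ⟨⟨fun e _ _ => Oc_le e, fun e _ _ hd => ?_, fun e he _ b hb x hx =>
      Oc_conj (D.A_le_cent he hb) hx, fun e he _ f hf hf1 => D.balance he hf (hG f hf hf1)⟩,
      fun e _ _ => H16.FT.oddOrder (Nat.coprime_two_right.1 (Oc_card e))⟩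
    exact (Nat.not_even_iff_odd.2 (Nat.coprime_two_right.1 (Oc_card e))) (even_iff_two_dvd.2 hd)
  obtain ⟨L, hL, hle⟩ := H7.SFT.complete (p := 2) D.el (by rw [D.card]; norm_num) hf
  refine ⟨Cfsg.signalizerClosure D.A (Oc (G := G)), ?_, ?_, fun e he he1 =>
    le_iSup (fun a : {a : G // a ∈ D.A ∧ a ≠ 1} => Oc (a : G)) ⟨e, he, he1⟩⟩
  · have hLo : (Nat.card L).Coprime 2 := Nat.coprime_two_right.2
      (Nat.not_even_iff_odd.1 fun h => hL.2.1 (even_iff_two_dvd.1 h))
    exact hLo.coprime_dvd_left (Subgroup.card_dvd_of_le (iSup_le fun a => hle a a.2.1 a.2.2))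
  · have key : ∀ n ∈ D.N, (Cfsg.signalizerClosure D.A (Oc (G := G))).map (MulAut.conj n).toMonoidHom ≤
        Cfsg.signalizerClosure D.A (Oc (G := G)) := by
      intro n hn
      rw [Cfsg.signalizerClosure, Subgroup.map_iSup]
      refine iSup_le fun a => ?_
      have ha : n * (a : G) * n⁻¹ ∈ D.A := (mem_normalizer_iff.1 hn _).1 a.2.1
      have ha1 : n * (a : G) * n⁻¹ ≠ 1 := fun e => a.2.2 (by simpa using e)
      refine le_trans ?_ (le_iSup (fun a : {a : G // a ∈ D.A ∧ a ≠ 1} => Oc (a : G)) ⟨_, ha, ha1⟩)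
      rintro _ ⟨x, hx, rfl⟩
      exact map_conj_Oc n a hx
    intro n hn
    refine mem_normalizer_iff.2 fun x => ⟨fun hx => key n hn ⟨x, hx, rfl⟩, fun hx => ?_⟩
    have := key n⁻¹ (inv_mem hn) ⟨_, hx, rfl⟩
    simpa [mul_assoc] using this

/-- The conclusion from good centralizers. -/
theorem normal_of_good (hG : ∀ e ∈ D.A, e ≠ 1 → D.Good e) : (D.A ⊔ Cfsg.oddCore G).Normal := by
  obtain ⟨W, hWodd, hWN, hOW⟩ := D.exists_W hG
  set M : Subgroup G := W ⊔ D.N with hM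
  have hMmul : ∀ m ∈ M, ∃ w ∈ W, ∃ n ∈ D.N, m = w * n := by
    intro m hm
    rw [hM, ← SetLike.mem_coe, coe_mul_of_right_le_normalizer_left _ _ hWN] at hm
    obtain ⟨w, hw, n, hn, he⟩ := hm
    exact ⟨w, hw, n, hn, he.symm⟩
  have hcM : ∀ e ∈ D.A, e ≠ 1 → centralizer ({e} : Set G) ≤ M := fun e he he1 =>
    (hG e he he1).trans (sup_le ((hOW e he he1).trans le_sup_left) (inf_le_left.trans le_sup_right))
  haveI : Fact (Nat.Prime 2) := ⟨Nat.prime_two⟩
  obtain ⟨S, hS⟩ := D.exists_sylow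
  -- an element of `M` conjugate into `A` is so conjugate inside `M`
  have hconjM : ∀ w ∈ M, ∀ a ∈ D.A, ∀ g : G, g * a * g⁻¹ = w →
      ∃ m ∈ M, ∃ e ∈ D.A, m * e * m⁻¹ = w := by
    intro w hw a ha g hg
    set S' : Sylow 2 M := S.subtype (hS.trans le_sup_right) with hS'
    have hp : IsPGroup 2 (zpowers (⟨w, hw⟩ : M)) := by
      have h2 : (⟨w, hw⟩ : M) ^ 2 = 1 := Subtype.ext (by
        show w ^ 2 = 1
        rw [← hg, conj_pow, D.el.2 a ha, mul_one, mul_inv_cancel])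
      obtain ⟨j, -, hj⟩ := (Nat.dvd_prime_pow Nat.prime_two).1
        (show orderOf (⟨w, hw⟩ : M) ∣ 2 ^ 1 by rw [pow_one]; exact orderOf_dvd_of_pow_eq_one h2)
      exact IsPGroup.of_card (n := j) (by rw [Nat.card_zpowers, hj])
    obtain ⟨R, hR⟩ := hp.exists_le_sylow
    obtain ⟨m, hm⟩ := MulAction.exists_smul_eq M R S'
    have h2 := Subgroup.smul_mem_pointwise_smul _ (MulAut.conj m) _ (hR (mem_zpowers _))
    rw [← Sylow.pointwise_smul_def, ← Sylow.smul_def, hm] at h2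
    have h3 : (m : G) * w * (m : G)⁻¹ ∈ D.N := hS h2
    have h4 := D.mem_A_of_conj (g := (m : G) * g) ha (by
      rwa [show (m : G) * g * a * ((m : G) * g)⁻¹ = m * w * (m : G)⁻¹ by rw [← hg]; group])
    exact ⟨(m : G)⁻¹, inv_mem m.2, _, h4, by rw [← hg]; group⟩
  have hCw : ∀ w ∈ M, ∀ a ∈ D.A, a ≠ 1 → ∀ g : G, g * a * g⁻¹ = w →
      centralizer ({w} : Set G) ≤ M := by
    intro w hw a ha ha1 g hg c hc
    obtain ⟨m, hm, e, he, hme⟩ := hconjM w hw a ha g hg
    have he1 : e ≠ 1 := fun h => ha1 (by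
      rw [← hme, h, mul_one, mul_inv_cancel] at hg
      exact conj_eq_one_iff.1 hg)
    have h1 : m⁻¹ * c * m ∈ centralizer ({e} : Set G) := by
      refine mem_centralizer_singleton_iff.2 ?_
      have h := mem_centralizer_singleton_iff.1 hc
      rw [← hme] at h
      calc m⁻¹ * c * m * e = m⁻¹ * (c * (m * e * m⁻¹)) * m := by group
        _ = m⁻¹ * (m * e * m⁻¹ * c) * m := by rw [h]
        _ = e * (m⁻¹ * c * m) := by group
    have h2 := hcM e he he1 h1
    rw [show c = m * (m⁻¹ * c * m) * m⁻¹ by group]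
    exact mul_mem (mul_mem hm h2) (inv_mem hm)
  -- all conjugates of elements of `A` lie in `M`
  have hall : ∀ (a : G), a ∈ D.A → a ≠ 1 → ∀ g : G, g * a * g⁻¹ ∈ M := by
    intro a ha ha1 g
    obtain ⟨b, hb, hb1, hnc⟩ : ∃ b, b ∈ D.A ∧ b ≠ 1 ∧ ¬ IsConj a b := by
      rcases D.isZg_or_isBg ha ha1 with h | h
      · obtain ⟨b, hb⟩ := D.exists_Bg
        exact ⟨b, hb.1, D.ne_one_of_isBg hb, D.not_isConj_Z_B h hb⟩
      · obtain ⟨b, hb⟩ := D.exists_Zg
        exact ⟨b, hb.1, D.ne_one_of_isZg hb, fun hc => D.not_isConj_Z_B hb h hc.symm⟩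
    set x := g * a * g⁻¹ with hx
    have hx2 : x * x = 1 := by
      rw [hx, show g * a * g⁻¹ * (g * a * g⁻¹) = g * (a * a) * g⁻¹ by group, D.sq_one ha, mul_one,
        mul_inv_cancel]
    have hb2 : b * b = 1 := D.sq_one hb
    set y := x * b with hy
    have hxy : x * y * x = y⁻¹ := by
      rw [hy, mul_inv_rev, inv_eq_of_mul_eq_one_right hb2, inv_eq_of_mul_eq_one_right hx2]
      calc x * (x * b) * x = x * x * b * x := by group
        _ = b * x := by rw [hx2, one_mul]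
    have hby : b * y * b = y⁻¹ := by
      rw [hy, mul_inv_rev, inv_eq_of_mul_eq_one_right hb2, inv_eq_of_mul_eq_one_right hx2]
      calc b * (x * b) * b = b * x * (b * b) := by group
        _ = b * x := by rw [hb2, mul_one]
    -- the 2-part of the product
    obtain ⟨k, m, hm, hkm⟩ := Nat.exists_eq_two_pow_mul_odd (orderOf_pos y).ne'
    obtain ⟨j, hj⟩ := hm
    set d := y ^ (2 * j + 1) with hd
    have hd2 : d ^ 2 ^ k = 1 := by
      rw [hd, ← pow_mul, ← hj, mul_comm, ← hkm, pow_orderOf_eq_one]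
    set x' := y ^ j * x * (y ^ j)⁻¹ with hx'
    have hxinv : ∀ i : ℕ, x * y ^ i = (y ^ i)⁻¹ * x := by
      intro i
      have := conj_pow (i := i) (a := x) (b := y)
      rw [inv_eq_of_mul_eq_one_right hx2, hxy, inv_pow] at this
      rw [this]
      calc x * y ^ i = x * y ^ i * (x * x) := by rw [hx2, mul_one]
        _ = x * y ^ i * x * x := by group
    have hx'b : x' * b = d := by
      rw [hx', hd, show (y ^ j)⁻¹ = x * y ^ j * x by
          rw [hxinv, mul_assoc, hx2, mul_one]]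
      calc y ^ j * x * (x * y ^ j * x) * b = y ^ j * (x * x) * y ^ j * (x * b) := by group
        _ = y ^ j * y ^ j * y := by rw [hx2, mul_one]
        _ = y ^ (2 * j + 1) := by rw [← pow_add, ← pow_succ]; ring_nf
    have hdb : b * d * b⁻¹ = d⁻¹ := by
      rw [hd, ← conj_pow, inv_eq_of_mul_eq_one_right hb2, hby, inv_pow]
    have hT : IsPGroup 2 ↥(zpowers d ⊔ zpowers b) := by
      obtain ⟨i, -, hi⟩ := (Nat.dvd_prime_pow Nat.prime_two).1 (orderOf_dvd_of_pow_eq_one hd2)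
      refine isPGroup_sup_zpowers (IsPGroup.of_card (n := i) (by rw [Nat.card_zpowers, hi]))
        (k := 1) (by rw [pow_one, pow_two, hb2]) ?_
      have key : ∀ z ∈ zpowers d, b * z * b⁻¹ ∈ zpowers d := by
        rintro _ ⟨i, rfl⟩
        show b * d ^ i * b⁻¹ ∈ _
        rw [← conj_zpow, hdb]
        exact zpow_mem (inv_mem (mem_zpowers d)) i
      refine mem_normalizer_iff.2 fun z => ⟨key z, fun hz => ?_⟩
      have := key _ hz
      rwa [show b * (b * z * b⁻¹) * b⁻¹ = b * b * z * (b * b)⁻¹ by group, hb2, one_mul, inv_one,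
        mul_one] at this
    have hconj : y ^ j * g * a * (y ^ j * g)⁻¹ = x' := by rw [hx', hx]; group
    obtain ⟨hcomm, l, e, he, hle⟩ := D.commute_of_pgroup hT (g := y ^ j * g) (h := 1) ha hb hconj
      (by group) (by rw [show x' = d * b⁻¹ by rw [← hx'b, mul_inv_cancel_right]]
                     exact mul_mem (mem_sup_left (mem_zpowers d))
                       (inv_mem (mem_sup_right (mem_zpowers b))))
      (mem_sup_right (mem_zpowers b))
    have hw1 : x' * b ≠ 1 := by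
      intro h
      refine hnc (isConj_iff.2 ⟨y ^ j * g, ?_⟩)
      rw [hconj]
      calc x' = x' * b * b := by rw [mul_assoc, hb2, mul_one]
        _ = b := by rw [h, one_mul]
    have hwC : x' * b ∈ centralizer ({b} : Set G) := by
      refine mem_centralizer_singleton_iff.2 ?_
      rw [mul_assoc, hb2, mul_one, ← mul_assoc, ← hcomm, mul_assoc, hb2, mul_one]
    have hwM := hcM b hb hb1 hwC
    have he1 : e ≠ 1 := fun h => hw1 (by rw [← hle, h, mul_one, mul_inv_cancel])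
    refine hCw _ hwM e he he1 l hle (mem_centralizer_singleton_iff.2 ?_)
    have h1 := hxinv (2 * j + 1)
    rw [← hd] at h1
    rw [hx'b]
    have hd22 : d * d = 1 := by
      rw [← hx'b]
      calc x' * b * (x' * b) = x' * (b * x') * b := by group
        _ = x' * (x' * b) * b := by rw [hcomm]
        _ = (x' * x') * (b * b) := by group
        _ = 1 := by
          rw [hb2, mul_one, ← hconj]
          calc y ^ j * g * a * (y ^ j * g)⁻¹ * (y ^ j * g * a * (y ^ j * g)⁻¹) =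
              y ^ j * g * (a * a) * (y ^ j * g)⁻¹ := by group
            _ = 1 := by rw [D.sq_one ha, mul_one, mul_inv_cancel]
    rw [h1, inv_eq_of_mul_eq_one_right hd22]
  -- the normal closure of `A`
  set L : Subgroup G := normalClosure (D.A : Set G) with hL
  have hAN : D.A ≤ normalizer (W : Set G) := D.A_le_N.trans hWN
  have hLle : L ≤ W ⊔ D.A := by
    refine (closure_le _).2 fun y hy => ?_
    obtain ⟨a, ha, hay⟩ := Group.mem_conjugatesOfSet_iff.1 hy
    obtain ⟨g, hg⟩ := isConj_iff.1 hay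
    by_cases ha1 : a = 1
    · rw [← hg, ha1, mul_one, mul_inv_cancel]; exact one_mem _
    obtain ⟨m, hm, e, he, hme⟩ := hconjM y (hg ▸ hall a ha ha1 g) a ha g hg
    obtain ⟨w, hw, n, hn, rfl⟩ := hMmul m hm
    rw [← hme, show w * n * e * (w * n)⁻¹ = w * (n * e * n⁻¹) * w⁻¹ by group]
    exact mul_mem (mul_mem (mem_sup_left hw) (mem_sup_right ((mem_normalizer_iff.1 hn e).1 he)))
      (inv_mem (mem_sup_left hw))
  haveI hLn : L.Normal := normalClosure_normal
  have hmul : ∀ z ∈ W ⊔ D.A, ∃ w ∈ W, ∃ a ∈ D.A, z = w * a := by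
    intro z hz
    rw [← SetLike.mem_coe, coe_mul_of_right_le_normalizer_left _ _ hAN] at hz
    obtain ⟨w, hw, a, ha, he⟩ := hz
    exact ⟨w, hw, a, ha, he.symm⟩
  have hoddW : ∀ x ∈ L, Odd (orderOf x) → x ∈ W := by
    intro x hx hodd
    obtain ⟨w, hw, a, ha, rfl⟩ := hmul x (hLle hx)
    obtain ⟨i, hi⟩ := hodd
    haveI : (W.subgroupOf (W ⊔ D.A)).Normal :=
      (Subgroup.normal_subgroupOf_iff_le_normalizer le_sup_left).2 (sup_le le_normalizer hAN)
    set q := QuotientGroup.mk' (W.subgroupOf (W ⊔ D.A))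
    set xa : ↥(W ⊔ D.A) := ⟨a, mem_sup_right ha⟩ with hxa
    have hqe : q ⟨w * a, hLle hx⟩ = q xa := by
      rw [show (⟨w * a, hLle hx⟩ : ↥(W ⊔ D.A)) = ⟨w, mem_sup_left hw⟩ * xa from rfl, map_mul,
        show q ⟨w, mem_sup_left hw⟩ = 1 from (QuotientGroup.eq_one_iff _).2 hw, one_mul]
    have h1 : q xa = 1 := by
      have h2 : q xa ^ (2 * i + 1) = 1 := by
        rw [← hqe, ← map_pow,
          show (⟨w * a, hLle hx⟩ : ↥(W ⊔ D.A)) ^ (2 * i + 1) = 1 from
            Subtype.ext (by rw [Subgroup.coe_pow, Subgroup.coe_one, ← hi]; exact pow_orderOf_eq_one _),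
          map_one]
      have h3 : q xa ^ 2 = 1 := by
        rw [← map_pow, show xa ^ 2 = 1 from Subtype.ext (D.el.2 a ha), map_one]
      rwa [pow_succ, pow_mul, h3, one_pow, one_mul] at h2
    exact mul_mem hw ((QuotientGroup.eq_one_iff xa).1 h1 : a ∈ W)
  haveI : (L ⊓ W).Normal := by
    refine ⟨fun x hx g => mem_inf.2 ⟨hLn.conj_mem x (mem_inf.1 hx).1 g, ?_⟩⟩
    refine hoddW _ (hLn.conj_mem x (mem_inf.1 hx).1 g) ?_
    rw [orderOf_conj_eq]
    exact odd_of_mem hWodd (mem_inf.1 hx).2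
  have hLO : L ⊓ W ≤ Cfsg.oddCore G :=
    H1.le_pPrimeCore (hWodd.coprime_dvd_left (Subgroup.card_dvd_of_le inf_le_right))
  haveI := H1.pPrimeCore_normal' 2 G
  have heq : D.A ⊔ Cfsg.oddCore G = L ⊔ Cfsg.oddCore G := by
    refine le_antisymm (sup_le_sup_right (show D.A ≤ L from subset_normalClosure) _)
      (sup_le (fun x hx => ?_) le_sup_right)
    obtain ⟨w, hw, a, ha, rfl⟩ := hmul x (hLle hx)
    have hwL : w ∈ L := by
      have := mul_mem hx (inv_mem (subset_normalClosure (s := (D.A : Set G)) ha))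
      rwa [mul_inv_cancel_right] at this
    exact mul_mem (mem_sup_right (hLO (mem_inf.2 ⟨hwL, hw⟩))) (mem_sup_left ha)
  rw [heq]
  exact Subgroup.sup_normal L (Cfsg.oddCore G)

end Data

end H8.E16
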