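import Cfsg.Agent.H8.E16.CoreFree
import Cfsg.Agent.H5.Burnside
import Cfsg.Agent.H68.SCP.Apply

/-!
Three pairwise disjoint strongly closed four-subgroups of a Sylow 2-subgroup of order 16 (helper8).
-/

set_option autoImplicit false
set_option linter.style.haveILetI false
set_option linter.unusedSectionVars false

namespace H8.E16

open Subgroup
open scoped commutatorElement

variable {H : Type*} [Group H] [Finite H]

/-- Commuting families generate a commuting family. -/
theorem commute_sup {L M : Subgroup H} {x : H} (h1 : ∀ y ∈ L, x * y = y * x)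
    (h2 : ∀ y ∈ M, x * y = y * x) : ∀ y ∈ L ⊔ M, x * y = y * x := by
  intro y hy
  have hle : L ⊔ M ≤ centralizer ({x} : Set H) :=
    sup_le (fun y hy => mem_centralizer_singleton_iff.2 (h1 y hy).symm)
      (fun y hy => mem_centralizer_singleton_iff.2 (h2 y hy).symm)
  exact (mem_centralizer_singleton_iff.1 (hle hy)).symm

/-- A Sylow 2-subgroup carrying three strongly closed subgroups as in a pair decomposition is
normal. -/
theorem sylow_normal_of_three (hO : Cfsg.pPrimeCore 2 H = ⊥) (P : Sylow 2 H) {V U₁ U₂ : Subgroup H}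
    (hV : Cfsg.IsStronglyClosed V (P : Subgroup H)) (h1 : Cfsg.IsStronglyClosed U₁ (P : Subgroup H))
    (h2 : Cfsg.IsStronglyClosed U₂ (P : Subgroup H)) (hd1 : V ⊓ U₁ = ⊥) (hd2 : V ⊓ U₂ = ⊥)
    (hd12 : U₁ ⊓ U₂ = ⊥) (hP : ∀ x ∈ (P : Subgroup H), ∀ y ∈ (P : Subgroup H), x * y = y * x)
    (hgen : (P : Subgroup H) ≤ U₁ ⊔ V) (hU1 : U₁ ≤ U₂ ⊔ V) (hVU : V ≤ U₁ ⊔ U₂) :
    (P : Subgroup H).Normal := by
  set N : Subgroup H → Subgroup H := fun S => normalClosure (S : Set H)
  have hpair : ∀ {S₁ S₂ : Subgroup H}, Cfsg.IsStronglyClosed S₁ (P : Subgroup H) →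
      Cfsg.IsStronglyClosed S₂ (P : Subgroup H) → S₁ ⊓ S₂ = ⊥ →
      ∀ x ∈ N S₁, ∀ y ∈ N S₂, x * y = y * x := by
    intro S₁ S₂ hs1 hs2 hd x hx y hy
    have h := H68.SCP.commutator_normalClosure_le hs1 hs2
      (fun a ha b hb => hP a (hs1.1 ha) b (hs2.1 hb)) hd
    rw [hO] at h
    exact commutatorElement_eq_one_iff_commute.1 (mem_bot.1 (h (commutator_mem_commutator hx hy)))
  have hle : ∀ {S S₁ S₂ : Subgroup H}, S ≤ S₁ ⊔ S₂ → N S ≤ N S₁ ⊔ N S₂ := by
    intro S S₁ S₂ hS
    haveI : (N S₁ ⊔ N S₂).Normal := Subgroup.sup_normal _ _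
    exact normalClosure_le_normal (hS.trans
      (sup_le ((show S₁ ≤ N S₁ from subset_normalClosure).trans le_sup_left)
        ((show S₂ ≤ N S₂ from subset_normalClosure).trans le_sup_right)))
  have hd21 : U₂ ⊓ U₁ = ⊥ := by rw [inf_comm]; exact hd12
  have hd1' : U₁ ⊓ V = ⊥ := by rw [inf_comm]; exact hd1
  have c11 : ∀ x ∈ N U₁, ∀ y ∈ N U₁, x * y = y * x := fun x hx y hy =>
    commute_sup (fun y hy => hpair h1 h2 hd12 x hx y hy) (fun y hy => hpair h1 hV hd1' x hx y hy) y
      (hle hU1 hy)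
  have cVV : ∀ x ∈ N V, ∀ y ∈ N V, x * y = y * x := fun x hx y hy =>
    commute_sup (fun y hy => hpair hV h1 hd1 x hx y hy) (fun y hy => hpair hV h2 hd2 x hx y hy) y
      (hle hVU hy)
  set L : Subgroup H := N U₁ ⊔ N V with hL
  haveI hLn : L.Normal := Subgroup.sup_normal _ _
  have c1L : ∀ x ∈ N U₁, ∀ y ∈ L, x * y = y * x := fun x hx =>
    commute_sup (c11 x hx) (fun y hy => hpair h1 hV hd1' x hx y hy)
  have cVL : ∀ x ∈ N V, ∀ y ∈ L, x * y = y * x := fun x hx =>
    commute_sup (fun y hy => hpair hV h1 hd1 x hx y hy) (cVV x hx)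
  have h2L := isPGroup_of_normal_comm hO hLn fun x hx y hy =>
    (commute_sup (fun z hz => (c1L z hz y hy).symm) (fun z hz => (cVL z hz y hy).symm) x hx).symm
  have hLP : L ≤ (P : Subgroup H) := by
    have h := IsPGroup.to_sup_of_normal_left' h2L P.2 (by
      intro g _
      rw [Subgroup.normalizer_eq_top]
      exact mem_top g)
    exact le_sup_left.trans (P.3 h le_sup_right).le
  have hPL : (P : Subgroup H) ≤ L := hgen.trans
    (sup_le ((show U₁ ≤ N U₁ from subset_normalClosure).trans le_sup_left)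
      ((show V ≤ N V from subset_normalClosure).trans le_sup_right))
  rw [le_antisymm hPL hLP]
  exact hLn

end H8.E16
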