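import Cfsg.Agent.H8.E16.Signal

/-!
Small tools for the centralizers of elements of `A`: conjugation into a 2-subgroup and images of odd
cores of subgroups (helper8).
-/

set_option autoImplicit false
set_option linter.style.haveILetI false
set_option linter.unusedSectionVars false

namespace H8.E16

open Subgroup

universe u

variable {G : Type u} [Group G] [Finite G]

theorem le_normalizer_of_conj {H L : Subgroup G} (h : ∀ x ∈ H, ∀ y ∈ L, x * y * x⁻¹ ∈ L) :
    H ≤ normalizer (L : Set G) := by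
  intro x hx
  refine mem_normalizer_iff.2 fun y => ⟨h x hx y, fun hy => ?_⟩
  simpa [mul_assoc] using h x⁻¹ (inv_mem hx) _ hy

/-- A 2-subgroup is conjugate into a 2-subgroup containing a given one. -/
theorem exists_two_conj {J U V : Subgroup G} (hU : IsPGroup 2 U) (hV : IsPGroup 2 V) (hUJ : U ≤ J)
    (hVJ : V ≤ J) :
    ∃ T : Subgroup G, IsPGroup 2 T ∧ U ≤ T ∧ T ≤ J ∧ ∃ j ∈ J, ∀ x ∈ V, j * x * j⁻¹ ∈ T := by
  haveI : Fact (Nat.Prime 2) := ⟨Nat.prime_two⟩
  obtain ⟨T, hT⟩ := (hU.comap_subtype (K := J)).exists_le_sylow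
  obtain ⟨T', hT'⟩ := (hV.comap_subtype (K := J)).exists_le_sylow
  obtain ⟨j, hj⟩ := MulAction.exists_smul_eq J T' T
  refine ⟨(T : Subgroup J).map J.subtype, T.2.map _, fun x hx => ⟨⟨x, hUJ hx⟩, hT hx, rfl⟩,
    map_subtype_le _, j, j.2, fun x hx => ?_⟩
  have h2 := Subgroup.smul_mem_pointwise_smul _ (MulAut.conj j) _
    (hT' (show (⟨x, hVJ hx⟩ : J) ∈ V.comap J.subtype from hx))
  rw [← Sylow.pointwise_smul_def, ← Sylow.smul_def, hj] at h2
  refine ⟨_, h2, ?_⟩
  simp [MulAut.smul_def, mul_assoc]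

/-- The odd core of a subgroup, inside the group. -/
def core (H : Subgroup G) : Subgroup G := (Cfsg.oddCore ↥H).map H.subtype

theorem core_le (H : Subgroup G) : core H ≤ H := map_subtype_le _

theorem core_card (H : Subgroup G) : (Nat.card (core H)).Coprime 2 := by
  rw [core, ← Nat.card_congr (equivMapOfInjective _ _ H.subtype_injective).toEquiv]
  exact H1.card_pPrimeCore_coprime 2 _

theorem le_core {H L : Subgroup G} (hL : L ≤ H) (hodd : (Nat.card L).Coprime 2)
    (hn : ∀ h ∈ H, ∀ x ∈ L, h * x * h⁻¹ ∈ L) : L ≤ core H := by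
  haveI : (L.subgroupOf H).Normal :=
    (Subgroup.normal_subgroupOf_iff_le_normalizer hL).2 (le_normalizer_of_conj hn)
  have h := H1.le_pPrimeCore (p := 2) (N := L.subgroupOf H)
    (by rw [Nat.card_congr (subgroupOfEquivOfLe hL).toEquiv]; exact hodd)
  intro x hx
  exact ⟨⟨x, hL hx⟩, h (mem_subgroupOf.2 hx), rfl⟩

/-- An element normalising a subgroup normalises its core. -/
theorem core_conj {H : Subgroup G} {c : G} (hc : ∀ h, h ∈ H ↔ c * h * c⁻¹ ∈ H) {x : G}
    (hx : x ∈ core H) : c * x * c⁻¹ ∈ core H := by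
  have h1 : (core H).map (MulAut.conj c).toMonoidHom ≤ H := by
    rintro _ ⟨y, hy, rfl⟩
    exact (hc y).1 (core_le H hy)
  refine le_core h1 ?_ ?_ ⟨x, hx, rfl⟩
  · rw [← Nat.card_congr (equivMapOfInjective _ (MulAut.conj c).toMonoidHom (MulAut.conj c).injective).toEquiv]
    exact core_card H
  · rintro h hh _ ⟨y, hy, rfl⟩
    have hh' : c⁻¹ * h * c ∈ H := (hc _).2 (by rwa [show c * (c⁻¹ * h * c) * c⁻¹ = h by group])
    refine ⟨(c⁻¹ * h * c) * y * (c⁻¹ * h * c)⁻¹, ?_, ?_⟩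
    · obtain ⟨y, hy, rfl⟩ := hy
      exact ⟨⟨_, hh'⟩ * y * ⟨_, hh'⟩⁻¹, (H1.pPrimeCore_normal' 2 _).conj_mem _ hy _, rfl⟩
    · simp only [MulEquiv.coe_toMonoidHom, MulAut.conj_apply]
      group

/-- Conjugation by the centralizer of `e` preserves `A` modulo a core. -/
theorem conj_mem_sup {L A : Subgroup G} {k b : G} (hb : b ∈ A) (hk : k ∈ L)
    (hbL : b * k⁻¹ * b⁻¹ ∈ L) : k * b * k⁻¹ ∈ A ⊔ L := by
  rw [show k * b * k⁻¹ = k * (b * k⁻¹ * b⁻¹) * b by group]
  exact mul_mem (mem_sup_right (mul_mem hk hbL)) (mem_sup_left hb)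

end H8.E16
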